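import Cfsg.Agent.H49.USix.Invol
import Cfsg.Agent.H76.LocalTwinsMain
import Cfsg.Agent.H92.ExtraForm
import Cfsg.Agent.Unitary.Eichler
import Cfsg.Agent.Unitary.CharTwo

/-!
The hypotheses characterising PSU6(2) by the centraliser of an involution `z`: an extraspecial
normal subgroup with quotient the unitary group in dimension four acting naturally, and a seed
conjugate of `z` inducing a transvection.
-/

set_option autoImplicit false
set_option linter.unusedSectionVars false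
set_option maxRecDepth 20000

namespace Cfsg.Agent.H49.USix

open Cfsg Cfsg.Agent.Compute Matrix
open Cfsg.Agent.H41.SUSix (K4 ap ω₄)
open Cfsg.Agent.H92.ExtraForm (zp zp_inj zp_add)
open H76.LocallyS3 (cj cj_cj cj_injective commute_cj_iff)

/-- The centraliser of `z` with its action on the four-dimensional unitary space. -/
structure Core {K : Type*} [Group K] (z : K) (Q : Subgroup K) where
  z_sq : z * z = 1
  z_ne : z ≠ 1
  hzQ : z ∈ Q
  le : ∀ q ∈ Q, q * z = z * q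
  norm : ∀ c : K, c * z = z * c → ∀ q ∈ Q, c * q * c⁻¹ ∈ Q
  π : K → W4
  π_mul : ∀ a ∈ Q, ∀ b ∈ Q, π (a * b) = π a + π b
  π_surj : ∀ v, ∃ q ∈ Q, π q = v
  π_zero : ∀ q ∈ Q, π q = 0 ↔ (q = 1 ∨ q = z)
  sq : ∀ q ∈ Q, q * q = zp z (wt4 (π q))
  comm : ∀ q ∈ Q, ∀ r ∈ Q, r * q = q * r * zp z (pol4 (π q) (π r))
  ρ : K → Equiv.Perm W4
  ρ_mul : ∀ c d : K, c * z = z * c → d * z = z * d → ρ (c * d) = ρ c * ρ d
  ρ_π : ∀ c : K, c * z = z * c → ∀ q ∈ Q, π (c * q * c⁻¹) = ρ c (π q)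
  ρ_ker : ∀ c : K, c * z = z * c → (ρ c = 1 ↔ c ∈ Q)
  ρ_iso : ∀ c : K, c * z = z * c → Iso (ρ c)
  ρ_surj : ∀ g : ↥(Cfsg.SU 4 K4 2), ∃ c : K, c * z = z * c ∧ ∀ w, ρ c w = ap g w
  card_C : Nat.card ↥(Subgroup.centralizer ({z} : Set K)) = 13271040

/-- The ordered pairs in the orbit of `(z, x₁)`. -/
def AdjP {K : Type*} [Group K] (z x₁ a b : K) : Prop := ∃ g : K, cj g z = a ∧ cj g x₁ = b

/-- A seed: a commuting conjugate of `z` inducing the base transvection. -/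
structure Seed {K : Type*} [Group K] (z : K) (Q : Subgroup K) extends Core z Q where
  x₁ : K
  x₁_comm : x₁ * z = z * x₁
  ρ_x₁ : ρ x₁ = tp i₀
  x₁_conj : ∃ g : K, cj g z = x₁
  pair_not : ¬ ∃ g : K, cj g z = z * x₁
  swap : AdjP z x₁ x₁ z
  adj_fibre : ∀ q ∈ Q, cj q x₁ ≠ x₁ → AdjP z x₁ x₁ (cj q x₁)
  adj_orth : ∃ c : K, c * z = z * c ∧ Ort i₀ (act (ρ c) i₀) ∧ act (ρ c) i₀ ≠ i₀ ∧
    AdjP z x₁ x₁ (cj c x₁)
  stab_line : ∀ c : K, c * z = z * c → act (ρ c) i₀ = i₀ → act (ρ c) j₀ ∈ line i₀ j₀ →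
    ∃ q ∈ Q, cj c x₁ = cj q x₁

theorem cj_one' {K : Type*} [Group K] (x : K) : cj (1 : K) x = x := by simp [cj]

theorem cj_inv_cj' {K : Type*} [Group K] (g x : K) : cj g⁻¹ (cj g x) = x := by
  rw [cj_cj, inv_mul_cancel, cj_one']

theorem cj_mul' {K : Type*} [Group K] (g p q : K) : cj g (p * q) = cj g p * cj g q := by simp [cj]

theorem cj_self_sq {K : Type*} [Group K] {g x : K} (h : x * x = 1) : cj g x * cj g x = 1 := by
  rw [← cj_mul', h]; simp [cj]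

theorem cj_fix_iff {K : Type*} [Group K] {g x : K} : cj g x = x ↔ g * x = x * g := by
  rw [cj, mul_inv_eq_iff_eq_mul]

namespace Core

variable {K : Type*} [Group K] [Finite K] {z : K} {Q : Subgroup K} (S : Core z Q)
include S

theorem cz_one : (1 : K) * z = z * 1 := by rw [one_mul, mul_one]

theorem cz_mul {c d : K} (hc : c * z = z * c) (hd : d * z = z * d) : c * d * z = z * (c * d) := by
  rw [mul_assoc, hd, ← mul_assoc, hc, mul_assoc]

theorem cz_inv {c : K} (hc : c * z = z * c) : c⁻¹ * z = z * c⁻¹ :=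
  (Commute.inv_left (show Commute c z from hc)).eq

theorem cz_Q {q : K} (hq : q ∈ Q) : q * z = z * q := S.le q hq

theorem cz_cj {c x : K} (hc : c * z = z * c) (hx : x * z = z * x) : cj c x * z = z * cj c x := by
  rw [cj]
  exact S.cz_mul (S.cz_mul hc hx) (S.cz_inv hc)

theorem cj_z {c : K} (hc : c * z = z * c) : cj c z = z := cj_fix_iff.2 hc

theorem z_inv : z⁻¹ = z := inv_eq_of_mul_eq_one_right S.z_sq

theorem π_one : S.π 1 = 0 := (S.π_zero 1 Q.one_mem).2 (Or.inl rfl)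

theorem π_z : S.π z = 0 := (S.π_zero z S.hzQ).2 (Or.inr rfl)

theorem π_zmul {q : K} (hq : q ∈ Q) : S.π (z * q) = S.π q := by
  rw [S.π_mul z S.hzQ q hq, S.π_z, zero_add]

theorem π_inv {q : K} (hq : q ∈ Q) : S.π q⁻¹ = S.π q := by
  have h := S.π_mul q⁻¹ (inv_mem hq) q hq
  rw [inv_mul_cancel, S.π_one] at h
  have key : ∀ a b : K4, 0 = a + b → a = b := by decide +kernel
  funext i
  exact key _ _ (congrFun h i)

theorem π_eq {q r : K} (hq : q ∈ Q) (hr : r ∈ Q) (h : S.π q = S.π r) : r = q ∨ r = z * q := by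
  have h0 : S.π (r * q⁻¹) = 0 := by
    rw [S.π_mul r hr _ (inv_mem hq), S.π_inv hq, h, vec_add_self]
  rcases (S.π_zero _ (mul_mem hr (inv_mem hq))).1 h0 with e | e
  · exact Or.inl (mul_inv_eq_one.1 e)
  · exact Or.inr (mul_inv_eq_iff_eq_mul.1 e)

theorem comm_iff {q r : K} (hq : q ∈ Q) (hr : r ∈ Q) :
    q * r = r * q ↔ pol4 (S.π q) (S.π r) = 0 := by
  have h := S.comm q hq r hr
  constructor
  · intro e
    rw [← e] at h
    have h1 : zp z (pol4 (S.π q) (S.π r)) = zp z 0 := by simpa [zp] using h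
    exact zp_inj S.z_ne h1
  · intro e
    rw [e] at h
    simpa [zp] using h.symm

theorem sq_iff {q : K} (hq : q ∈ Q) : q * q = 1 ↔ wt4 (S.π q) = 0 := by
  rw [S.sq q hq]
  exact ⟨fun h => zp_inj S.z_ne (h.trans (by simp [zp])), fun h => by rw [h]; simp [zp]⟩

theorem pow_four {q : K} (hq : q ∈ Q) : q ^ 4 = 1 := by
  have h := S.sq q hq
  have h2 : zp z (wt4 (S.π q)) * zp z (wt4 (S.π q)) = 1 := by
    unfold zp; split_ifs <;> simp [S.z_sq]
  rw [← h] at h2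
  simpa [pow_succ, mul_assoc] using h2

theorem ρ_one : S.ρ 1 = 1 := (S.ρ_ker 1 S.cz_one).2 Q.one_mem

theorem ρ_of_Q {q : K} (hq : q ∈ Q) : S.ρ q = 1 := (S.ρ_ker q (S.cz_Q hq)).2 hq

theorem ρ_inv {c : K} (hc : c * z = z * c) : S.ρ c⁻¹ = (S.ρ c)⁻¹ := by
  refine eq_inv_of_mul_eq_one_left ?_
  rw [← S.ρ_mul _ _ (S.cz_inv hc) hc, inv_mul_cancel, S.ρ_one]

theorem ρ_cj {c x : K} (hc : c * z = z * c) (hx : x * z = z * x) :
    S.ρ (cj c x) = S.ρ c * S.ρ x * (S.ρ c)⁻¹ := by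
  rw [cj, S.ρ_mul _ _ (S.cz_mul hc hx) (S.cz_inv hc), S.ρ_mul _ _ hc hx, S.ρ_inv hc]

theorem ρ_cj_tp {c x : K} (hc : c * z = z * c) (hx : x * z = z * x) {i : Fin 45}
    (hi : S.ρ x = tp i) : S.ρ (cj c x) = tp (act (S.ρ c) i) := by
  rw [S.ρ_cj hc hx, hi, conj_tp (S.ρ_iso c hc)]

theorem mem_Q_of_ρ {c d : K} (hc : c * z = z * c) (hd : d * z = z * d) (h : S.ρ c = S.ρ d) :
    c⁻¹ * d ∈ Q := by
  rw [← S.ρ_ker _ (S.cz_mul (S.cz_inv hc) hd), S.ρ_mul _ _ (S.cz_inv hc) hd, S.ρ_inv hc, h,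
    inv_mul_cancel]

theorem cj_mem {c q : K} (hc : c * z = z * c) (hq : q ∈ Q) : cj c q ∈ Q := S.norm c hc q hq

theorem π_cj {c q : K} (hc : c * z = z * c) (hq : q ∈ Q) : S.π (cj c q) = S.ρ c (S.π q) :=
  S.ρ_π c hc q hq

/-- Every transvection is induced. -/
theorem exists_tp (i : Fin 45) : ∃ c : K, c * z = z * c ∧ S.ρ c = tp i := by
  obtain ⟨c, hc, h⟩ := S.ρ_surj (Unitary.tv H41.SUSix.hK (v := pv i) (c := 1) (pv_iso i)
    (Unitary.one_skew_two H41.SUSix.hK))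
  refine ⟨c, hc, Equiv.ext fun w => ?_⟩
  rw [h]; refine (Unitary.ap_tv _ _ _ _).trans ?_; rw [one_mul, tp_apply]
  rfl

theorem exists_of_closure {g : Equiv.Perm W4} (hg : g ∈ Subgroup.closure (Set.range tp)) :
    ∃ c : K, c * z = z * c ∧ S.ρ c = g := by
  refine Subgroup.closure_induction ?_ ?_ ?_ ?_ hg
  · rintro _ ⟨i, rfl⟩; exact S.exists_tp i
  · exact ⟨1, S.cz_one, S.ρ_one⟩
  · rintro _ _ _ _ ⟨a, ha, rfl⟩ ⟨b, hb, rfl⟩
    exact ⟨a * b, S.cz_mul ha hb, S.ρ_mul a b ha hb⟩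
  · rintro _ _ ⟨a, ha, rfl⟩
    exact ⟨a⁻¹, S.cz_inv ha, S.ρ_inv ha⟩

theorem exists_pair_map {i j : Fin 45} (h : Ort i j) (hne : i ≠ j) :
    ∃ c : K, c * z = z * c ∧ act (S.ρ c) i = i₀ ∧ act (S.ρ c) j = j₀ := by
  obtain ⟨g, hg, -, hi, hj⟩ := pair_trans h hne
  obtain ⟨c, hc, rfl⟩ := S.exists_of_closure hg
  exact ⟨c, hc, hi, hj⟩

theorem exists_point_map (i : Fin 45) : ∃ c : K, c * z = z * c ∧ act (S.ρ c) i₀ = i := by
  obtain ⟨g, hg, hgi, hi⟩ := point_trans i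
  obtain ⟨c, hc, rfl⟩ := S.exists_of_closure hg
  exact ⟨c⁻¹, S.cz_inv hc, by
    rw [S.ρ_inv hc, ← hi, ← act_mul hgi.inv hgi, inv_mul_cancel, act_one]⟩

/-- A conjugate by an element of the core differs by a multiple of the centre. -/
theorem cj_Q {x : K} (hx : x * z = z * x) (h2 : x * x = 1) {i : Fin 45} (hi : S.ρ x = tp i)
    {q : K} (hq : q ∈ Q) :
    ∃ m ∈ Q, cj q x = m * x ∧ S.π m = hh (S.π q) (pv i) • pv i := by
  refine ⟨q * cj x q⁻¹, mul_mem hq (S.cj_mem hx (inv_mem hq)), ?_, ?_⟩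
  · rw [cj, cj, inv_eq_of_mul_eq_one_right h2]
    simp only [mul_assoc, h2, mul_one]
  · rw [S.π_mul _ hq _ (S.cj_mem hx (inv_mem hq)), S.π_cj hx (inv_mem hq), S.π_inv hq, hi, tp_apply,
      ← add_assoc, vec_add_self, zero_add]

theorem hh_zero_of_commute {x : K} (hx : x * z = z * x) (h2 : x * x = 1) {i : Fin 45}
    (hi : S.ρ x = tp i) {q : K} (hq : q ∈ Q) (h : cj q x = x) : hh (S.π q) (pv i) = 0 := by
  obtain ⟨m, -, e, hm⟩ := S.cj_Q hx h2 hi hq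
  rw [h] at e
  rw [mul_eq_right.1 e.symm, S.π_one] at hm
  exact ((smul_eq_zero.1 hm.symm)).resolve_right (pv_ne i)

end Core

end Cfsg.Agent.H49.USix
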