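import Cfsg.Agent.H41.LFi.Herm
import Cfsg.Agent.H49.USix.Data

/-!
The four-dimensional unitary space over the field with four elements: its forty-five isotropic points,
the transvections at them and their incidence facts.
-/

set_option autoImplicit false
set_option maxRecDepth 20000

namespace Cfsg.Agent.H49.USix

open Cfsg Cfsg.Agent.Compute Cfsg.Agent.Unitary Cfsg.Agent.H41.SUSix Matrix
open Cfsg.Agent.H41.LFi (iot trK iot_add trK_add)

/-- The space. -/
abbrev W4 : Type := Fin 4 → K4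

/-- The hermitian form. -/
def hh (u v : W4) : K4 := hermForm 4 K4 2 u v

/-- The parity of the support. -/
def wt4 (u : W4) : ZMod 2 := ∑ i, if u i = 0 then 0 else 1

/-- The polar of the parity of the support. -/
def pol4 (u v : W4) : ZMod 2 := wt4 (u + v) + wt4 u + wt4 v

theorem hh_self (u : W4) : hh u u = iot (wt4 u) := by
  have h : ∀ c : K4, c * c ^ 2 = iot (if c = 0 then 0 else 1) := by decide +kernel
  rw [hh, hermForm, wt4, ← AddMonoidHom.mk'_apply iot iot_add, map_sum]
  exact Finset.sum_congr rfl fun i _ => h (u i)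

theorem iso_iff (u : W4) : hh u u = 0 ↔ wt4 u = 0 := by
  have key : ∀ a, iot a = 0 ↔ a = 0 := by decide +kernel
  rw [hh_self, key]

theorem pol4_eq (u v : W4) : pol4 u v = trK (hh u v) := by
  have h : ∀ a b : K4, (if a + b = 0 then (0 : ZMod 2) else 1) + (if a = 0 then 0 else 1) +
      (if b = 0 then 0 else 1) = trK (a * b ^ 2) := by decide +kernel
  rw [hh, hermForm, ← AddMonoidHom.mk'_apply trK trK_add, map_sum, pol4, wt4, wt4, wt4,
    ← Finset.sum_add_distrib, ← Finset.sum_add_distrib]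
  exact Finset.sum_congr rfl fun i _ => h (u i) (v i)

theorem hh_add_left (u v w : W4) : hh (u + v) w = hh u w + hh v w := herm_add_left u v w

theorem hh_smul_left (c : K4) (u v : W4) : hh (c • u) v = c * hh u v := herm_smul_left c u v

theorem hh_swap (u v : W4) : hh v u = hh u v ^ 2 := (herm_swap H41.SUSix.hK u v).symm

theorem hh_smul_right (c : K4) (u v : W4) : hh u (c • v) = c ^ 2 * hh u v := herm_smul_right c u v

theorem hh_add_right (u v w : W4) : hh u (v + w) = hh u v + hh u w := herm_add_right H41.SUSix.hK u v w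

theorem hh_zero_left (u : W4) : hh 0 u = 0 := by simp [hh, hermForm]

theorem k4_add_self : ∀ a : K4, a + a = 0 := by decide +kernel

theorem k4_sq_zero : ∀ a : K4, a ^ 2 = 0 ↔ a = 0 := by decide +kernel

theorem k4_cube : ∀ a : K4, a ≠ 0 → a ^ 2 * a = 1 := by decide +kernel

theorem hh_zero_symm {u v : W4} : hh u v = 0 ↔ hh v u = 0 := by rw [hh_swap u v, k4_sq_zero]

theorem vec_add_self (u : W4) : u + u = 0 := funext fun _ => k4_add_self _

theorem hh_nondeg {u : W4} (h : ∀ w, hh w u = 0) : u = 0 := by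
  funext i
  have := h (Pi.single i 1)
  rw [hh, herm_single_left, one_mul, k4_sq_zero] at this
  exact this

/-! ### Codes -/

/-- Decode. -/
noncomputable def d4 (v : ℕ) : W4 := fun i => fe (getP 2 v i.1)

/-- Coded scalar multiple. -/
noncomputable def sc4 (c v : ℕ) : ℕ := packP 2 (fun i => mulC c (getP 2 v i)) 4

/-- Coded term of the form. -/
noncomputable def tm4 (a b i : ℕ) : ℕ := mulC (getP 2 a i) (mulC (getP 2 b i) (getP 2 b i))

/-- Coded form. -/
noncomputable def h4C (a b : ℕ) : ℕ :=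
  addC (tm4 a b 0) (addC (tm4 a b 1) (addC (tm4 a b 2) (tm4 a b 3)))

theorem d4_sc4 {c : ℕ} (hc : c < 4) (v : ℕ) : d4 (sc4 c v) = fe c • d4 v := by
  funext i
  show fe (getP 2 (sc4 c v) i) = fe c * fe (getP 2 v i)
  rw [sc4, getP_packP 2 _ 4 (fun j _ => mulC_lt _ _) i i.2, fe_mul c hc _ (getP_lt 2 _ _)]

theorem d4_xor (a b : ℕ) : d4 (Nat.xor a b) = d4 a + d4 b := by
  funext i
  show fe (getP 2 (Nat.xor a b) i) = fe (getP 2 a i) + fe (getP 2 b i)
  rw [H41.LFi.getP_xor]
  exact (fe_add _ (getP_lt 2 _ _) _ (getP_lt 2 _ _)).2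

theorem h4C_spec (a b : ℕ) : h4C a b < 4 ∧ fe (h4C a b) = hh (d4 a) (d4 b) := by
  have t : ∀ i : Fin 4, tm4 a b i < 4 ∧ fe (tm4 a b i) = d4 a i * d4 b i ^ 2 := fun i =>
    ⟨mulC_lt _ _, by
      show fe (mulC _ (mulC _ _)) = fe (getP 2 a i) * fe (getP 2 b i) ^ 2
      rw [fe_mul _ (getP_lt 2 _ _) _ (mulC_lt _ _), fe_mul _ (getP_lt 2 _ _) _ (getP_lt 2 _ _),
        pow_two]⟩
  have h2 := fe_add _ (t 2).1 _ (t 3).1
  have h1 := fe_add _ (t 1).1 _ h2.1
  have h0 := fe_add _ (t 0).1 _ h1.1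
  refine ⟨h0.1, ?_⟩
  show fe (addC (tm4 a b (0 : Fin 4)) (addC (tm4 a b (1 : Fin 4)) (addC (tm4 a b (2 : Fin 4))
    (tm4 a b (3 : Fin 4))))) = _
  rw [h0.2, h1.2, h2.2, (t 0).2, (t 1).2, (t 2).2, (t 3).2, hh, hermForm, Fin.sum_univ_four]
  simp only [add_assoc]

/-! ### Points -/

/-- The code of a point. -/
noncomputable def pc (i : ℕ) : ℕ := getP 8 pvLit i

/-- The representative of a point. -/
noncomputable def pv (i : Fin 45) : W4 := d4 (pc i)

/-- Coded orthogonality. -/
noncomputable def adjC (i j : ℕ) : Bool := Nat.beq (getP 1 (getP 45 rowLit i) j) 1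

/-- Coded image of a point under a transvection. -/
noncomputable def mvC (i k : ℕ) : ℕ := getP 6 mvLit (Nat.add (Nat.mul 45 i) k)

/-- Orthogonality of points. -/
def Ort (i j : Fin 45) : Prop := adjC i j = true

noncomputable instance (i j : Fin 45) : Decidable (Ort i j) := inferInstanceAs (Decidable (_ = true))

theorem adjC_ok : allN 45 (fun i => allN 45 (fun j =>
    Bool.and (cond (adjC i j) (Nat.beq (h4C (pc i) (pc j)) 0) (!Nat.beq (h4C (pc i) (pc j)) 0))
      (Nat.beq i j || !Nat.beq (getP 45 rowLit i) (getP 45 rowLit j)))) = true := by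
  decide +kernel

theorem ort_iff {i j : Fin 45} : Ort i j ↔ hh (pv i) (pv j) = 0 := by
  have h := (allN_iff _ _).1 ((allN_iff _ _).1 adjC_ok i i.2) j j.2
  obtain ⟨hlt, hv⟩ := h4C_spec (pc i) (pc j)
  have key : ∀ c < 4, fe c = 0 ↔ c = 0 := by decide
  rw [pv, pv, ← hv, key _ hlt]
  simp only [Bool.and_eq_true] at h
  unfold Ort
  cases hA : adjC i j <;> rw [hA] at h <;> simp at h
  · simpa [Nat.beq_eq] using (show ¬ Nat.beq (h4C (pc i) (pc j)) 0 = true by rw [h.1]; simp)
  · simp [h.1]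

theorem ort_symm {i j : Fin 45} (h : Ort i j) : Ort j i := ort_iff.2 (hh_zero_symm.1 (ort_iff.1 h))

theorem pc_ok : allN 45 (fun i => Nat.beq (h4C (pc i) (pc i)) 0 && Nat.blt 0 (pc i)
    && Nat.blt (pc i) 256) = true := by
  decide +kernel

theorem pv_iso (i : Fin 45) : hh (pv i) (pv i) = 0 := by
  have h := (allN_iff _ _).1 pc_ok i i.2
  simp only [Bool.and_eq_true, Nat.beq_eq] at h
  rw [pv, ← (h4C_spec _ _).2, h.1.1]
  rfl

theorem ort_refl (i : Fin 45) : Ort i i := ort_iff.2 (pv_iso i)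

theorem d4_lt_inj : ∀ v : Fin 256, (∀ i : Fin 4, d4 v i = 0) → v = 0 := by decide +kernel

theorem pv_ne (i : Fin 45) : pv i ≠ 0 := by
  intro e
  have h := (allN_iff _ _).1 pc_ok i i.2
  simp only [Bool.and_eq_true, Nat.blt_eq] at h
  have := congrArg Fin.val (d4_lt_inj ⟨pc i, h.2⟩ fun k => congrFun e k)
  exact absurd this (by show pc i ≠ 0; omega)

/-- The point is determined by the line of its representative. -/
theorem pv_point {i j : Fin 45} {c : K4} (h : pv i = c • pv j) : i = j := by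
  by_contra hne
  have hc : c ≠ 0 := fun e => pv_ne i (by rw [h, e, zero_smul])
  have hk := (allN_iff _ _).1 ((allN_iff _ _).1 adjC_ok i i.2) j j.2
  simp only [Bool.and_eq_true, Bool.or_eq_true, Bool.not_eq_true', Nat.beq_eq] at hk
  rcases hk.2 with e | e
  · exact hne (Fin.ext e)
  · have hrow : ∀ n < 45, getP 1 (getP 45 rowLit i) n = getP 1 (getP 45 rowLit j) n := by
      intro n hn
      have hio : Ort i ⟨n, hn⟩ ↔ Ort j ⟨n, hn⟩ := by
        rw [ort_iff, ort_iff, h, hh_smul_left, mul_eq_zero, or_iff_right hc]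
      have h1 := getP_lt 1 (getP 45 rowLit i) n
      have h2 := getP_lt 1 (getP 45 rowLit j) n
      simp only [Ort, adjC, Nat.beq_eq] at hio
      omega
    have := packP_congr 1 45 hrow
    rw [H41.SUSix.packP_getP_mod, H41.SUSix.packP_getP_mod] at this
    have l1 := getP_lt 45 rowLit i
    have l2 := getP_lt 45 rowLit j
    rw [Nat.mod_eq_of_lt (by simpa using l1), Nat.mod_eq_of_lt (by simpa using l2)] at this
    rw [this] at e
    simp at e

theorem cover_ok : allN 256 (fun v => Nat.beq v 0 || !Nat.beq (h4C v v) 0 ||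
    anyN 45 (fun i => anyN 4 (fun c => !Nat.beq c 0 && Nat.beq (pc i) (sc4 c v)))) = true := by
  decide +kernel

theorem d4_surj : ∀ u : W4, ∃ v : Fin 256, d4 v = u := by
  intro u
  refine ⟨⟨packP 2 (fun i => if h : i < 4 then fc (u ⟨i, h⟩) else 0) 4,
    packP_lt 2 _ 4 fun j hj => by rw [dif_pos hj]; exact fc_lt _⟩, funext fun i => ?_⟩
  show fe (getP 2 _ i) = u i
  rw [getP_packP 2 _ 4 (fun j hj => by rw [dif_pos hj]; exact fc_lt _) i i.2, dif_pos i.2, fe_fc]

/-- Every isotropic vector spans one of the points. -/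
theorem exists_point {u : W4} (h0 : u ≠ 0) (h : hh u u = 0) :
    ∃ i, ∃ c : K4, c ≠ 0 ∧ pv i = c • u := by
  obtain ⟨v, rfl⟩ := d4_surj u
  have hv := (allN_iff _ _).1 cover_ok v v.2
  simp only [Bool.or_eq_true, Bool.not_eq_true', anyN_iff, Bool.and_eq_true, Nat.beq_eq] at hv
  rcases hv with (e | e) | ⟨i, hi, c, hc, c0, e⟩
  · exact absurd (funext fun k => by rw [d4, e]; fin_cases k <;> decide +kernel) h0
  · exfalso
    have key : ∀ c < 4, fe c = 0 → c = 0 := by decide
    have := key _ (h4C_spec v v).1 ((h4C_spec _ _).2.trans h)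
    rw [this] at e
    simp at e
  · refine ⟨⟨i, hi⟩, fe c, ?_, ?_⟩
    · have key : ∀ c < 4, Nat.beq c 0 = false → fe c ≠ 0 := by decide
      exact key c hc c0
    · rw [pv, e, d4_sc4 hc]

/-! ### Isometries and transvections -/

/-- A linear isometry. -/
structure Iso (g : Equiv.Perm W4) : Prop where
  add : ∀ u v, g (u + v) = g u + g v
  smul : ∀ (c : K4) (u : W4), g (c • u) = c • g u
  herm : ∀ u v, hh (g u) (g v) = hh u v

theorem Iso.one : Iso (1 : Equiv.Perm W4) := ⟨fun _ _ => rfl, fun _ _ => rfl, fun _ _ => rfl⟩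

theorem Iso.mul {g h : Equiv.Perm W4} (hg : Iso g) (hh' : Iso h) : Iso (g * h) :=
  ⟨fun u v => by simp [hh'.add, hg.add], fun c u => by simp [hh'.smul, hg.smul],
    fun u v => by simp [hh'.herm, hg.herm]⟩

theorem Iso.inv {g : Equiv.Perm W4} (hg : Iso g) : Iso g⁻¹ := by
  refine ⟨fun u v => g.injective ?_, fun c u => g.injective ?_, fun u v => ?_⟩
  · simp [hg.add]
  · simp [hg.smul]
  · conv_rhs => rw [← g.apply_symm_apply u, ← g.apply_symm_apply v, hg.herm]
    rfl

theorem Iso.map_zero {g : Equiv.Perm W4} (hg : Iso g) : g 0 = 0 :=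
  (AddMonoidHom.mk' g hg.add).map_zero

theorem Iso.ext_basis {g h : Equiv.Perm W4} (hg : Iso g) (hh' : Iso h)
    (e : ∀ k : Fin 4, g (Pi.single k 1) = h (Pi.single k 1)) : g = h := by
  refine Equiv.ext fun u => ?_
  have hu : u = u 0 • Pi.single 0 1 + (u 1 • Pi.single 1 1 + (u 2 • Pi.single 2 1 +
      u 3 • Pi.single 3 (1 : K4))) := by
    funext i; fin_cases i <;> simp
  rw [hu]
  simp only [hg.add, hh'.add, hg.smul, hh'.smul, e]

/-- The transvection with centre at an isotropic vector. -/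
def trv (u : W4) (w : W4) : W4 := w + hh w u • u

theorem trv_trv {u : W4} (h : hh u u = 0) (w : W4) : trv u (trv u w) = w := by
  simp only [trv, hh_add_left, hh_smul_left, h, mul_zero, add_zero]
  rw [add_assoc, vec_add_self, add_zero]

theorem trv_smul (c : K4) (hc : c ≠ 0) (u : W4) : trv (c • u) = trv u := by
  funext w
  simp only [trv, hh_smul_right, smul_smul]
  rw [mul_right_comm, k4_cube c hc, one_mul]

/-- The transvection of a point. -/
noncomputable def tp (i : Fin 45) : Equiv.Perm W4 :=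
  Function.Involutive.toPerm (trv (pv i)) (trv_trv (pv_iso i))

theorem tp_apply (i : Fin 45) (w : W4) : tp i w = w + hh w (pv i) • pv i := rfl

theorem tp_sq (i : Fin 45) : tp i * tp i = 1 := Equiv.ext fun w => trv_trv (pv_iso i) w

theorem tp_inv (i : Fin 45) : (tp i)⁻¹ = tp i := inv_eq_of_mul_eq_one_right (tp_sq i)

theorem tp_iso (i : Fin 45) : Iso (tp i) := by
  refine ⟨fun u v => ?_, fun c u => ?_, fun u v => ?_⟩
  · simp only [tp_apply, hh_add_left, add_smul]
    abel
  · simp only [tp_apply, hh_smul_left, smul_add, smul_smul]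
  · simp only [tp_apply, hh_add_left, hh_add_right, hh_smul_left, hh_smul_right, pv_iso, mul_zero,
      add_zero]
    rw [hh_swap v (pv i), add_assoc, mul_comm (hh u (pv i)) (hh v (pv i) ^ 2), k4_add_self,
      add_zero]

theorem eq_trv_iff {u : W4} {i : Fin 45} :
    (∀ w, tp i w = trv u w) ↔ ∃ c : K4, c ≠ 0 ∧ pv i = c • u := by
  constructor
  · intro e
    obtain ⟨w, hw⟩ : ∃ w, hh w (pv i) ≠ 0 := by
      by_contra hcon
      push Not at hcon
      exact pv_ne i (hh_nondeg hcon)
    have e' : hh w (pv i) • pv i = hh w u • u := add_left_cancel (e w)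
    refine ⟨(hh w (pv i))⁻¹ * hh w u, mul_ne_zero (inv_ne_zero hw) ?_, ?_⟩
    · intro z
      rw [z, zero_smul, smul_eq_zero] at e'
      exact e'.elim hw (pv_ne i)
    · rw [mul_smul, ← e', inv_smul_smul₀ hw]
  · rintro ⟨c, hc, e⟩ w
    show trv (pv i) w = _
    rw [e, trv_smul c hc]

theorem tp_injective : Function.Injective tp := fun i j e => by
  obtain ⟨c, -, hc⟩ := eq_trv_iff.1 fun w => Equiv.congr_fun e w
  exact pv_point hc

theorem tp_ne_one (i : Fin 45) : tp i ≠ 1 := fun e => pv_ne i (hh_nondeg fun w => by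
  have := Equiv.congr_fun e w
  rw [tp_apply, Equiv.Perm.one_apply, add_eq_left, smul_eq_zero] at this
  exact this.elim id fun h => absurd h (pv_ne i))

/-- The image of a point under an isometry exists. -/
theorem exists_act {g : Equiv.Perm W4} (hg : Iso g) (i : Fin 45) :
    ∃ j, ∃ c : K4, c ≠ 0 ∧ g (pv i) = c • pv j := by
  obtain ⟨j, c, hc, e⟩ := exists_point (u := g (pv i))
    (fun h => pv_ne i (g.injective (h.trans hg.map_zero.symm))) (by rw [hg.herm]; exact pv_iso i)
  exact ⟨j, c⁻¹, inv_ne_zero hc, by rw [e, inv_smul_smul₀ hc]⟩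

open Classical in
/-- The image of a point. -/
noncomputable def act (g : Equiv.Perm W4) (i : Fin 45) : Fin 45 :=
  if h : ∃ j, ∃ c : K4, c ≠ 0 ∧ g (pv i) = c • pv j then h.choose else i

theorem act_spec {g : Equiv.Perm W4} (hg : Iso g) (i : Fin 45) :
    ∃ c : K4, c ≠ 0 ∧ g (pv i) = c • pv (act g i) := by
  have h := exists_act hg i
  rw [act, dif_pos h]
  exact h.choose_spec

theorem act_eq {g : Equiv.Perm W4} (hg : Iso g) {i j : Fin 45} {c : K4}
    (h : g (pv i) = c • pv j) : act g i = j := by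
  obtain ⟨d, hd, e⟩ := act_spec hg i
  refine pv_point (c := d⁻¹ * c) ?_
  rw [mul_smul, ← h, e, inv_smul_smul₀ hd]

theorem act_mul {g h : Equiv.Perm W4} (hg : Iso g) (hh' : Iso h) (i : Fin 45) :
    act (g * h) i = act g (act h i) := by
  obtain ⟨c, hc, e⟩ := act_spec hh' i
  obtain ⟨d, hd, e'⟩ := act_spec hg (act h i)
  exact act_eq (hg.mul hh') (c := c * d) (by rw [Equiv.Perm.mul_apply, e, hg.smul, e', smul_smul])

theorem act_one (i : Fin 45) : act 1 i = i := act_eq Iso.one (c := 1) (by simp)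

theorem act_inj {g : Equiv.Perm W4} (hg : Iso g) : Function.Injective (act g) := fun i j e => by
  have h := congrArg (act g⁻¹) e
  rwa [← act_mul hg.inv hg, ← act_mul hg.inv hg, inv_mul_cancel, act_one, act_one] at h

theorem ort_act {g : Equiv.Perm W4} (hg : Iso g) {i j : Fin 45} :
    Ort (act g i) (act g j) ↔ Ort i j := by
  obtain ⟨c, hc, e⟩ := act_spec hg i
  obtain ⟨d, hd, e'⟩ := act_spec hg j
  have h := hg.herm (pv i) (pv j)
  rw [e, e', hh_smul_left, hh_smul_right] at h
  rw [ort_iff, ort_iff, ← h, mul_eq_zero, or_iff_right hc, mul_eq_zero,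
    or_iff_right (by rw [k4_sq_zero]; exact hd)]

theorem conj_tp {g : Equiv.Perm W4} (hg : Iso g) (i : Fin 45) :
    g * tp i * g⁻¹ = tp (act g i) := by
  obtain ⟨c, hc, e⟩ := act_spec hg i
  refine Equiv.ext fun w => ?_
  show g (tp i (g.symm w)) = tp (act g i) w
  rw [tp_apply, hg.add, hg.smul, g.apply_symm_apply, e]
  have : hh (g.symm w) (pv i) = c ^ 2 * hh w (pv (act g i)) := by
    rw [← hg.herm, g.apply_symm_apply, e, hh_smul_right]
  rw [this, smul_smul, mul_right_comm, k4_cube c hc, one_mul]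
  rfl

theorem mvC_ok : allN 45 (fun i => allN 45 (fun k => Nat.blt (mvC i k) 45 &&
    anyN 4 (fun c => !Nat.beq c 0 && Nat.beq (Nat.xor (pc k) (sc4 (h4C (pc k) (pc i)) (pc i)))
      (sc4 c (pc (mvC i k)))))) = true := by
  decide +kernel

theorem act_tp_lt (i k : Fin 45) : mvC i k < 45 := by
  have h := (allN_iff _ _).1 ((allN_iff _ _).1 mvC_ok i i.2) k k.2
  simp only [Bool.and_eq_true, Nat.blt_eq] at h
  exact h.1

theorem act_tp (i k : Fin 45) : act (tp i) k = ⟨mvC i k, act_tp_lt i k⟩ := by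
  have h := (allN_iff _ _).1 ((allN_iff _ _).1 mvC_ok i i.2) k k.2
  simp only [Bool.and_eq_true, anyN_iff, Bool.not_eq_true', Nat.beq_eq] at h
  obtain ⟨c, hc, c0, e⟩ := h.2
  refine act_eq (tp_iso i) (c := fe c) ?_
  show trv (pv i) (pv k) = fe c • pv ⟨mvC i k, act_tp_lt i k⟩
  simp only [trv, pv]
  rw [← (h4C_spec (pc k) (pc i)).2, ← d4_sc4 (h4C_spec _ _).1, ← d4_xor, e, d4_sc4 hc]

theorem tp_commute_iff {i j : Fin 45} : Commute (tp i) (tp j) ↔ Ort i j := by
  constructor
  · intro h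
    have e : act (tp i) j = j := tp_injective (by
      rw [← conj_tp (tp_iso i), h.eq, mul_inv_cancel_right])
    obtain ⟨c, hc, e'⟩ := act_spec (tp_iso i) j
    rw [e, tp_apply] at e'
    by_contra hn
    have hb : hh (pv j) (pv i) ≠ 0 := fun h0 => hn (ort_symm (ort_iff.2 h0))
    have hv : hh (pv j) (pv i) • pv i = (c + 1) • pv j := by
      rw [add_smul, one_smul, ← e', add_comm (pv j), add_assoc, vec_add_self, add_zero]
    refine hn ((pv_point (i := i) (j := j) (c := (hh (pv j) (pv i))⁻¹ * (c + 1)) ?_) ▸ ort_refl i)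
    rw [mul_smul, ← hv, inv_smul_smul₀ hb]
  · intro h
    refine Equiv.ext fun w => ?_
    simp only [Equiv.Perm.mul_apply, tp_apply, hh_add_left, hh_smul_left, ort_iff.1 h,
      ort_iff.1 (ort_symm h), mul_zero, add_zero]
    abel

theorem mv_symm_ok : allN 45 (fun i => allN 45 (fun j => adjC i j ||
    Nat.beq (mvC i j) (mvC j i))) = true := by
  decide +kernel

theorem tp_cube {i j : Fin 45} (h : ¬ Ort i j) : (tp i * tp j) ^ 3 = 1 := by
  have hs := (allN_iff _ _).1 ((allN_iff _ _).1 mv_symm_ok i i.2) j j.2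
  simp only [Bool.or_eq_true, Nat.beq_eq] at hs
  have e : act (tp i) j = act (tp j) i := by
    rw [act_tp, act_tp]; exact Fin.ext (hs.resolve_left h)
  have e1 : tp i * tp j * tp i = tp j * tp i * tp j := by
    have h1 := conj_tp (tp_iso i) j
    have h2 := conj_tp (tp_iso j) i
    rw [tp_inv] at h1 h2
    rw [h1, h2, e]
  calc (tp i * tp j) ^ 3 = (tp i * tp j * tp i) * (tp j * tp i * tp j) := by
        simp only [pow_succ, pow_zero, one_mul, mul_assoc]
    _ = 1 := by
        rw [e1]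
        simp only [mul_assoc]
        rw [← mul_assoc (tp j) (tp j), tp_sq, one_mul, ← mul_assoc (tp i) (tp i), tp_sq, one_mul,
          tp_sq]

end Cfsg.Agent.H49.USix
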