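import Mathlib
import Cfsg.Prelude.Def_Classical

/-!
PSU6(2) has no element of order 77; a group whose order is odd, a divisor of the order of PSU6(2)
and a multiple of 77 has one.
-/

set_option autoImplicit false

namespace Cfsg.Agent.H49.USix

/-- The number of points fixed by a permutation of prime order dividing `p`. -/
theorem card_fix_modEq {α : Type*} [Finite α] {p : ℕ} [Fact p.Prime] {f : Equiv.Perm α}
    (hf : f ^ p = 1) : Nat.card {a : α // f a = a} ≡ Nat.card α [MOD p] := by
  classical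
  haveI := Fintype.ofFinite α
  have h := Equiv.Perm.card_compl_support_modEq (p := p) (n := 1) (σ := f) (by rw [pow_one, hf])
  rw [Nat.card_eq_fintype_card (α := α)]
  rwa [Nat.card_eq_fintype_card, Fintype.card_of_subtype f.supportᶜ]
  intro a
  rw [Finset.mem_compl, Equiv.Perm.notMem_support]

/-- No linear map of a six-dimensional space over four elements has order 77. -/
theorem linear_no77 {F V : Type*} [Field F] [Fintype F] [AddCommGroup V] [Module F V] [Finite V]
    (hF : Fintype.card F = 4) (hV : Nat.card V = 4096) (T : V ≃ₗ[F] V) (hT : orderOf T = 77) :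
    False := by
  classical
  haveI : Fact (Nat.Prime 7) := ⟨by norm_num⟩
  haveI : Fact (Nat.Prime 11) := ⟨by norm_num⟩
  haveI : Module.Finite F V := Module.Finite.of_finite
  set A := T ^ 7 with hA
  set B := T ^ 11 with hB
  have hA11 : A ^ 11 = 1 := by rw [hA, ← pow_mul, show 7 * 11 = orderOf T by rw [hT], pow_orderOf_eq_one]
  have hB7 : B ^ 7 = 1 := by rw [hB, ← pow_mul, show 11 * 7 = orderOf T by rw [hT], pow_orderOf_eq_one]
  have hA1 : A ≠ 1 := fun h => by
    have := orderOf_dvd_of_pow_eq_one h; rw [hT] at this; norm_num at this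
  have hB1 : B ≠ 1 := fun h => by
    have := orderOf_dvd_of_pow_eq_one h; rw [hT] at this; norm_num at this
  have hAB : ∀ v, A (B v) = B (A v) := fun v => by
    have h : A * B = B * A := by rw [hA, hB, ← pow_add, ← pow_add, add_comm]
    exact LinearEquiv.congr_fun h v
  have toP : ∀ (C : V ≃ₗ[F] V) (n : ℕ), (C ^ n).toEquiv = (C.toEquiv : Equiv.Perm V) ^ n := by
    intro C n
    induction n with
    | zero => rfl
    | succ n ih =>
      rw [pow_succ, pow_succ, ← ih]
      rfl
  let W : (V ≃ₗ[F] V) → Submodule F V := fun C => LinearMap.eqLocus C.toLinearMap LinearMap.id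
  have hW : ∀ C v, v ∈ W C ↔ C v = v := fun C v => Iff.rfl
  have hcard : ∀ C : V ≃ₗ[F] V, C ≠ 1 → ∃ k, k < 6 ∧ Nat.card {v : V // C v = v} = 4 ^ k := by
    intro C hC
    have h1 : Nat.card ↥(W C) = 4 ^ Module.finrank F ↥(W C) := by
      rw [Module.natCard_eq_pow_finrank (K := F), Nat.card_eq_fintype_card, hF]
    refine ⟨Module.finrank F ↥(W C), ?_, h1⟩
    have h6 : Module.finrank F V = 6 := by
      have h := Module.natCard_eq_pow_finrank (K := F) (V := V)
      rw [hV, Nat.card_eq_fintype_card, hF] at h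
      exact Nat.pow_right_injective (by norm_num) (h.symm.trans (by norm_num) : 4 ^ _ = 4 ^ 6)
    rcases lt_or_eq_of_le (h6 ▸ Submodule.finrank_le (W C)) with h | h
    · exact h
    · exfalso
      refine hC (LinearEquiv.ext fun v => (hW C v).1 ?_)
      rw [Submodule.eq_top_of_finrank_eq (h.trans h6.symm)]
      trivial
  obtain ⟨k, hk, ek⟩ := hcard A hA1
  obtain ⟨l, hl, el⟩ := hcard B hB1
  have hkA := card_fix_modEq (p := 11) (f := (A.toEquiv : Equiv.Perm V))
    (by rw [← toP, hA11]; rfl)
  have hlB := card_fix_modEq (p := 7) (f := (B.toEquiv : Equiv.Perm V))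
    (by rw [← toP, hB7]; rfl)
  have hk1 : k = 1 := by
    have h : 4 ^ k ≡ 4096 [MOD 11] := by rw [← ek, ← hV]; exact hkA
    revert h; interval_cases k <;> decide
  subst hk1
  let σ : Equiv.Perm {v : V // A v = v} := (B.toEquiv : Equiv.Perm V).subtypeEquiv fun v =>
    ⟨fun h => (hAB v).trans (congrArg B h), fun h => B.injective ((hAB v).symm.trans h)⟩
  have hσ : σ ^ 7 = 1 := by
    have key : ∀ n, ∀ v : {v : V // A v = v}, ((σ ^ n) v).1 = (B ^ n) v.1 := by
      intro n
      induction n with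
      | zero => intro v; rfl
      | succ n ih => intro v; rw [pow_succ, pow_succ, Equiv.Perm.mul_apply, ih]; rfl
    exact Equiv.ext fun v => Subtype.ext (by rw [key, hB7]; rfl)
  have hfix := card_fix_modEq hσ
  have hle : Nat.card {v : {v : V // A v = v} // σ v = v} ≤ 4 := by
    have := Nat.card_le_card_of_injective (fun v : {v : {v : V // A v = v} // σ v = v} => v.1)
      Subtype.val_injective
    rwa [ek, pow_one] at this
  rw [ek, pow_one, Nat.ModEq] at hfix
  have h4 : Nat.card {v : {v : V // A v = v} // σ v = v} = 4 := by omega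
  have hsub : ∀ v, A v = v → B v = v := by
    intro v hv
    have hbij : Function.Bijective (fun v : {v : {v : V // A v = v} // σ v = v} => v.1) :=
      (Nat.bijective_iff_injective_and_card _).2 ⟨Subtype.val_injective, by rw [h4, ek, pow_one]⟩
    obtain ⟨⟨w, hw⟩, e⟩ := hbij.2 ⟨v, hv⟩
    subst e
    exact congrArg Subtype.val hw
  have hl3 : l = 3 := by
    have h : 4 ^ l ≡ 4096 [MOD 7] := by rw [← el, ← hV]; exact hlB
    have hge : 4 ≤ 4 ^ l := by
      rw [← el, ← pow_one 4, ← ek]
      exact Nat.card_le_card_of_injective (fun v : {v : V // A v = v} => (⟨v.1, hsub _ v.2⟩ :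
        {v : V // B v = v})) fun a b e => Subtype.ext (congrArg (fun q : {v : V // B v = v} => q.1) e)
    revert h hge; interval_cases l <;> decide
  let τ : Equiv.Perm {v : V // B v = v} := (A.toEquiv : Equiv.Perm V).subtypeEquiv fun v =>
    ⟨fun h => (hAB v).symm.trans (congrArg A h), fun h => A.injective ((hAB v).trans h)⟩
  have hτ : τ ^ 11 = 1 := by
    have key : ∀ n, ∀ v : {v : V // B v = v}, ((τ ^ n) v).1 = (A ^ n) v.1 := by
      intro n
      induction n with
      | zero => intro v; rfl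
      | succ n ih => intro v; rw [pow_succ, pow_succ, Equiv.Perm.mul_apply, ih]; rfl
    exact Equiv.ext fun v => Subtype.ext (by rw [key, hA11]; rfl)
  have hfix' := card_fix_modEq hτ
  let e : {v : {v : V // B v = v} // τ v = v} ≃ {v : V // A v = v} :=
    { toFun := fun v => ⟨v.1.1, congrArg Subtype.val v.2⟩
      invFun := fun v => ⟨⟨v.1, hsub _ v.2⟩, Subtype.ext v.2⟩
      left_inv := fun v => rfl
      right_inv := fun v => rfl }
  rw [Nat.card_congr e, ek, el, hl3] at hfix'
  exact absurd hfix' (by decide)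

/-- PSU6(2) has no element of order 77. -/
theorem psu6_no77 {F : Type} [Field F] [Fintype F] (hF : Fintype.card F = 4) (g : Cfsg.PSU 6 F 2) :
    orderOf g ≠ 77 := by
  intro hg
  obtain ⟨h, rfl⟩ := QuotientGroup.mk_surjective g
  have hd : 77 ∣ orderOf h := hg ▸ orderOf_map_dvd (QuotientGroup.mk' (Subgroup.center ↥(Cfsg.SU 6 F 2))) h
  have hh : orderOf (h ^ (orderOf h / 77)) = 77 :=
    orderOf_pow_orderOf_div (orderOf_pos h).ne' hd
  let f : ↥(Cfsg.SU 6 F 2) →* ((Fin 6 → F) ≃ₗ[F] (Fin 6 → F)) :=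
    Matrix.SpecialLinearGroup.toLin'.comp (Cfsg.SU 6 F 2).subtype
  refine linear_no77 hF ?_ (f (h ^ (orderOf h / 77))) ?_
  · rw [Nat.card_fun, Nat.card_eq_fintype_card (α := Fin 6), Nat.card_eq_fintype_card (α := F), hF,
      Fintype.card_fin]
    norm_num
  · rw [orderOf_injective f ?_, hh]
    exact Matrix.SpecialLinearGroup.toLin'_injective.comp Subtype.val_injective

/-- A group of odd order dividing `280665` and divisible by 77 has an element of order 77. -/
theorem exists_order77 {R : Type*} [Group R] [Finite R] (h77 : 77 ∣ Nat.card R)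
    (hdvd : Nat.card R ∣ 280665) : ∃ g : R, orderOf g = 77 := by
  classical
  haveI : Fact (Nat.Prime 7) := ⟨by norm_num⟩
  haveI : Fact (Nat.Prime 11) := ⟨by norm_num⟩
  obtain ⟨P⟩ := (inferInstance : Nonempty (Sylow 11 R))
  have hP : Nat.card ↥(P : Subgroup R) = 11 := by
    obtain ⟨i, hi⟩ := IsPGroup.iff_card.1 P.isPGroup'
    have h1 : i ≤ 1 := by
      by_contra hc
      have h2 : 11 ^ 2 ∣ 280665 := (pow_dvd_pow 11 (by omega : 2 ≤ i)).trans
        ((hi ▸ (P : Subgroup R).card_subgroup_dvd_card).trans hdvd)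
      norm_num at h2
    have h2 : 0 < i := by
      by_contra hc
      have h3 : 11 ^ 1 ∣ Nat.card ↥(P : Subgroup R) :=
        P.pow_dvd_card_of_pow_dvd_card (by rw [pow_one]; exact dvd_trans (by norm_num) h77)
      rw [hi, show i = 0 by omega] at h3
      norm_num at h3
    rw [hi, show i = 1 by omega, pow_one]
  set N := Subgroup.normalizer (P : Set R) with hN
  have hn : Nat.card (Sylow 11 R) % 11 = 1 := card_sylow_modEq_one 11 R
  have hidx : N.index = Nat.card (Sylow 11 R) := (P.card_eq_index_normalizer).symm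
  have h7 : 7 ∣ Nat.card ↥N := by
    have e := N.card_mul_index
    have hd : 7 ∣ Nat.card ↥N * N.index := e ▸ (dvd_trans (by norm_num) h77)
    refine ((Nat.Prime.dvd_mul (by norm_num)).1 hd).resolve_right fun h => ?_
    have hi : N.index ∣ 25515 := by
      have h11 : 11 ∣ Nat.card ↥N := hP ▸ Subgroup.card_dvd_of_le Subgroup.le_normalizer
      have : 11 * N.index ∣ 11 * 25515 := (Nat.mul_dvd_mul h11 dvd_rfl).trans (e ▸ hdvd)
      exact Nat.dvd_of_mul_dvd_mul_left (by norm_num) this
    have key : ∀ d ∈ Nat.divisors 3645, (7 * d) % 11 ≠ 1 := by decide +kernel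
    obtain ⟨d, hd'⟩ := h
    refine key d (Nat.mem_divisors.2 ⟨?_, by norm_num⟩) (hd' ▸ hidx ▸ hn)
    rw [hd'] at hi
    exact Nat.dvd_of_mul_dvd_mul_left (by norm_num) (hi.trans (by norm_num : (25515:ℕ) ∣ 7 * 3645))
  obtain ⟨g, hg⟩ := exists_prime_orderOf_dvd_card' 7 h7
  let σ : Equiv.Perm ↥(P : Subgroup R) := (MulAut.conj g.1).toEquiv.subtypeEquiv fun a =>
    (Subgroup.mem_normalizer_iff.1 g.2 a)
  have hσ : σ ^ 7 = 1 := by
    have key : ∀ n, ∀ a : ↥(P : Subgroup R), ((σ ^ n) a).1 = g.1 ^ n * a.1 * (g.1 ^ n)⁻¹ := by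
      intro n
      induction n with
      | zero => intro a; simp
      | succ n ih =>
        intro a
        rw [pow_succ, Equiv.Perm.mul_apply, ih]
        show g.1 ^ n * (g.1 * a.1 * g.1⁻¹) * (g.1 ^ n)⁻¹ = _
        rw [pow_succ]; group
    refine Equiv.ext fun a => Subtype.ext ?_
    have h7' : g.1 ^ 7 = 1 := by rw [← hg, ← Subgroup.orderOf_coe, pow_orderOf_eq_one]
    rw [key, h7']
    simp
  have hm := card_fix_modEq hσ
  let Fx : Subgroup ↥(P : Subgroup R) :=
    { carrier := {a | g.1 * a.1 = a.1 * g.1}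
      one_mem' := by simp
      mul_mem' := fun {a b} ha hb => (Commute.mul_right (show Commute g.1 a.1 from ha) hb).eq
      inv_mem' := fun {a} ha => (Commute.inv_right (show Commute g.1 a.1 from ha)).eq }
  have hFx : Nat.card ↥Fx = Nat.card {a : ↥(P : Subgroup R) // σ a = a} :=
    Nat.card_congr (Equiv.subtypeEquivRight fun a => by
      rw [Subtype.ext_iff]
      exact mul_inv_eq_iff_eq_mul.symm)
  rw [← hFx, hP] at hm
  have hdv := Fx.card_subgroup_dvd_card
  rw [hP] at hdv
  have htop : Fx = ⊤ := by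
    rcases (Nat.dvd_prime (by norm_num)).1 hdv with h | h
    · rw [h] at hm; exact absurd hm (by decide)
    · exact Subgroup.eq_top_of_card_eq Fx (by rw [h, hP])
  obtain ⟨a, ha⟩ := exists_prime_orderOf_dvd_card' (G := ↥(P : Subgroup R)) 11 (by rw [hP])
  have hc : Commute g.1 a.1 := (htop ▸ Subgroup.mem_top a : a ∈ Fx)
  refine ⟨g.1 * a.1, ?_⟩
  have h1 : orderOf g.1 = 7 := by rw [Subgroup.orderOf_coe, hg]
  have h2 : orderOf a.1 = 11 := by rw [Subgroup.orderOf_coe, ha]
  rw [hc.orderOf_mul_eq_mul_orderOf_of_coprime (by rw [h1, h2]; norm_num), h1, h2]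

end Cfsg.Agent.H49.USix
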