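import Cfsg.Agent.H49.USix.PairCent
import Cfsg.Agent.H49.USix.NoOrd

/-!
There is only one point: otherwise the swappers of two points form an orbit of size 693 of a group
of odd order inside the stabiliser of a point.
-/

set_option autoImplicit false
set_option linter.unusedSectionVars false

namespace Cfsg.Agent.H49.USix

open Cfsg
open H76.LocallyS3 (cj cj_cj cj_injective commute_cj_iff)

/-- In a dihedral group every element of the coset of the rotations is conjugate to a generator. -/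
theorem dihedral_conj {G : Type*} [Group G] {x y : G} (hx : x * x = 1) (hy : y * y = 1) :
    ∀ k : ℕ, ∃ u : G, cj u x = (x * y) ^ k * x ∨ cj u y = (x * y) ^ k * x := by
  intro k
  induction k using Nat.twoStepInduction with
  | zero => exact ⟨1, Or.inl (by rw [cj_one', pow_zero, one_mul])⟩
  | one => exact ⟨x, Or.inr (by rw [cj, inv_eq_of_mul_eq_one_right hx, pow_one])⟩
  | more n ih _ =>
    have e : cj (x * y) ((x * y) ^ n * x) = (x * y) ^ (n + 2) * x := by
      rw [cj, _root_.mul_inv_rev, inv_eq_of_mul_eq_one_right hx, inv_eq_of_mul_eq_one_right hy,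
        pow_succ _ (n + 1), pow_succ', mul_assoc, mul_assoc, mul_assoc]
      simp only [mul_assoc]
    obtain ⟨u, hu | hu⟩ := ih
    · exact ⟨x * y * u, Or.inl (by rw [← cj_cj, hu, e])⟩
    · exact ⟨x * y * u, Or.inr (by rw [← cj_cj, hu, e])⟩

/-- The inversion in a dihedral group of odd order. -/
theorem dihedral_swap {G : Type*} [Group G] {x y : G} (hx : x * x = 1) (hy : y * y = 1) {m : ℕ}
    (h : (x * y) ^ (2 * m + 1) = 1) : cj ((x * y) ^ m * x) x = y := by
  have hinv : ∀ n : ℕ, x * ((x * y) ^ n)⁻¹ = (x * y) ^ n * x := by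
    intro n
    have h1 : x * (x * y) ^ n * x⁻¹ = ((x * y) ^ n)⁻¹ := by
      rw [← conj_pow, show x * (x * y) * x⁻¹ = (x * y)⁻¹ by
        rw [_root_.mul_inv_rev, inv_eq_of_mul_eq_one_right hx, inv_eq_of_mul_eq_one_right hy, ← mul_assoc x,
          hx, one_mul], inv_pow]
    rw [← h1, inv_eq_of_mul_eq_one_right hx, ← mul_assoc, ← mul_assoc, hx, one_mul]
  have h2 : (x * y) ^ (2 * m) = (x * y)⁻¹ := eq_inv_of_mul_eq_one_left (by rw [← pow_succ, h])
  rw [cj, _root_.mul_inv_rev, inv_eq_of_mul_eq_one_right hx]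
  calc (x * y) ^ m * x * x * (x * ((x * y) ^ m)⁻¹)
      = (x * y) ^ m * (x * x) * (x * ((x * y) ^ m)⁻¹) := by simp only [mul_assoc]
    _ = (x * y) ^ (2 * m) * x := by rw [hx, mul_one, hinv, ← mul_assoc, ← pow_add, two_mul]
    _ = y := by
      rw [h2, _root_.mul_inv_rev, inv_eq_of_mul_eq_one_right hx, inv_eq_of_mul_eq_one_right hy,
        mul_assoc, hx, mul_one]

/-- The central involution of a dihedral group of even order. -/
theorem dihedral_central {G : Type*} [Group G] {x y : G} (hx : x * x = 1) (hy : y * y = 1)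
    (hev : Even (orderOf (x * y))) (hpos : 0 < orderOf (x * y)) :
    ∃ k : ℕ, (x * y) ^ k ≠ 1 ∧ Commute ((x * y) ^ k) x ∧ Commute ((x * y) ^ k) y := by
  obtain ⟨k, hk⟩ := hev
  refine ⟨k, pow_ne_one_of_lt_orderOf (by omega) (by omega), ?_⟩
  have hv : ((x * y) ^ k)⁻¹ = (x * y) ^ k :=
    inv_eq_of_mul_eq_one_right (by rw [← pow_add, ← hk, pow_orderOf_eq_one])
  have h1 : x * (x * y) ^ k * x⁻¹ = (x * y) ^ k := by
    rw [← conj_pow, show x * (x * y) * x⁻¹ = (x * y)⁻¹ by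
      rw [_root_.mul_inv_rev, inv_eq_of_mul_eq_one_right hx, inv_eq_of_mul_eq_one_right hy, ← mul_assoc x,
        hx, one_mul], inv_pow, hv]
  have hcx : Commute ((x * y) ^ k) x := (mul_inv_eq_iff_eq_mul.1 h1).symm
  refine ⟨hcx, ?_⟩
  have h := hcx.mul_right ((Commute.refl (x * y)).pow_left k)
  rwa [← mul_assoc, hx, one_mul] at h

namespace Seed

variable {K : Type*} [Group K] [Finite K] {z : K} {Q : Subgroup K} (S : Seed z Q)

/-- The conjugates of `z` moving the point `a` to `b`. -/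
def Sw (a b : K ⧸ S.Mst) : Set K := {s | s ∈ S.Dz ∧ s • a = b}

include S

theorem odd_prod {a b : K ⧸ S.Mst} (hne : a ≠ b) {x y : K} (hx : x ∈ S.Xp a) (hy : y ∈ S.Xp b) :
    Odd (orderOf (x * y)) := by
  rw [← Nat.not_even_iff_odd]
  intro hev
  obtain ⟨k, hk1, hcx, hcy⟩ := dihedral_central (S.Dz_sq hx.1) (S.Dz_sq hy.1) hev (orderOf_pos _)
  set v := (x * y) ^ k with hv
  have hd : v * x ∈ S.Dz := by
    obtain ⟨u, hu | hu⟩ := dihedral_conj (S.Dz_sq hx.1) (S.Dz_sq hy.1) k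
    · exact hu ▸ S.Dz_cj hx.1 u
    · exact hu ▸ S.Dz_cj hy.1 u
  have hdx : Commute (v * x) x := hcx.mul_left (Commute.refl x)
  have hda : (v * x) ∈ S.Xp a := ⟨hd, S.fix_of_commute hx.1 hdx hx.2⟩
  have hadj := S.Xp_adj hda hx hdx fun e => hk1 (mul_eq_right.1 e)
  have e : v * x * x = v := by rw [mul_assoc, S.Dz_sq hx.1, mul_one]
  have hya := S.pair_fix hadj (v := y) (by rw [e]; exact hcy.symm) hda.2
  exact hne (S.fix_unique hy.1 hya hy.2)

theorem sw_surj {a b : K ⧸ S.Mst} (hne : a ≠ b) {x : K} (hx : x ∈ S.Xp a) {y : K} (hy : y ∈ S.Xp b) :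
    ∃ s ∈ S.Sw a b, cj s x = y := by
  obtain ⟨m, hm⟩ := S.odd_prod hne hx hy
  have e : cj ((x * y) ^ m * x) x = y :=
    dihedral_swap (S.Dz_sq hx.1) (S.Dz_sq hy.1) (by rw [← hm, pow_orderOf_eq_one])
  have hd : (x * y) ^ m * x ∈ S.Dz := by
    obtain ⟨u, hu | hu⟩ := dihedral_conj (S.Dz_sq hx.1) (S.Dz_sq hy.1) m
    · exact hu ▸ S.Dz_cj hx.1 u
    · exact hu ▸ S.Dz_cj hy.1 u
  refine ⟨_, ⟨hd, S.fix_unique hy.1 ?_ hy.2⟩, e⟩
  have h := cj_smul ((x * y) ^ m * x) x a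
  rwa [hx.2, e] at h

theorem card_Sw {a b : K ⧸ S.Mst} (hne : a ≠ b) : (S.Sw a b).ncard = 693 := by
  classical
  haveI := Fintype.ofFinite K
  haveI := Fintype.ofFinite (K ⧸ S.Mst)
  have hge : ∀ c, c ≠ a → 693 ≤ (S.Sw a c).ncard := by
    intro c hc
    obtain ⟨x, hx⟩ := Set.nonempty_of_ncard_ne_zero (s := S.Xp a) (by rw [S.card_Xp]; norm_num)
    rw [← S.card_Xp c]
    refine le_trans (Set.ncard_le_ncard (t := (fun s => cj s x) '' S.Sw a c) ?_ (Set.toFinite _))
      (Set.ncard_image_le (Set.toFinite _))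
    intro y hy
    exact S.sw_surj (Ne.symm hc) hx hy
  have hself : (S.Sw a a).ncard = 693 := S.card_Xp a
  have hge' : ∀ c ∈ (Finset.univ : Finset (K ⧸ S.Mst)), 693 ≤ (S.Sw a c).ncard := fun c _ => by
    by_cases hc : c = a
    · rw [hc, hself]
    · exact hge c hc
  have h1 : ∑ c : K ⧸ S.Mst, (S.Sw a c).ncard = S.Dz.ncard := by
    rw [Set.ncard_eq_toFinset_card' S.Dz,
      Finset.card_eq_sum_card_fiberwise (f := fun s : K => s • a) (t := Finset.univ) fun _ _ => Finset.mem_univ _]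
    refine Finset.sum_congr rfl fun c _ => ?_
    rw [Set.ncard_eq_toFinset_card']
    congr 1
    ext s
    rw [Finset.mem_filter, Set.mem_toFinset, Set.mem_toFinset]
    exact Iff.rfl
  choose pn hpn using fun d : ↥S.Dz => S.exists_fix d.2
  have h2 : ∑ c : K ⧸ S.Mst, (S.Xp c).ncard = S.Dz.ncard := by
    rw [← Nat.card_coe_set_eq S.Dz, Nat.card_eq_fintype_card, ← Finset.card_univ,
      Finset.card_eq_sum_card_fiberwise (f := pn) (t := Finset.univ) fun _ _ => Finset.mem_univ _]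
    refine Finset.sum_congr rfl fun c _ => ?_
    rw [← Set.ncard_coe_finset, ← Set.ncard_image_of_injective _ Subtype.val_injective]
    congr 1
    ext d
    simp only [Set.mem_image, Finset.coe_filter, Finset.mem_univ, true_and, Set.mem_setOf_eq]
    constructor
    · rintro ⟨hd, hdc⟩
      exact ⟨⟨d, hd⟩, S.fix_unique hd (hpn ⟨d, hd⟩) hdc, rfl⟩
    · rintro ⟨⟨e, he⟩, rfl, rfl⟩
      exact ⟨he, hpn ⟨e, he⟩⟩
  have heq : ∑ c : K ⧸ S.Mst, 693 = ∑ c : K ⧸ S.Mst, (S.Sw a c).ncard := by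
    rw [h1, ← h2]
    exact Finset.sum_congr rfl fun c _ => (S.card_Xp c).symm
  exact ((Finset.sum_eq_sum_iff_of_le hge').1 heq b (Finset.mem_univ b)).symm

theorem sw_no_commute {a b : K ⧸ S.Mst} (hne : a ≠ b) {s t : K} (hs : s ∈ S.Sw a b) (ht : t ∈ S.Sw a b)
    (hc : Commute s t) : s = t := by
  by_contra hst
  obtain ⟨c, hc'⟩ := S.exists_fix hs.1
  have htc : t ∈ S.Xp c := ⟨ht.1, S.fix_of_commute hs.1 hc.symm hc'⟩
  have hadj := S.Xp_adj ⟨hs.1, hc'⟩ htc hc hst
  have hsb : s • b = a := by rw [← hs.2, ← mul_smul, S.Dz_sq hs.1, one_smul]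
  have h : a = c := S.pair_fix_unique hadj hc' (by rw [mul_smul, ht.2, hsb])
  exact hne (by rw [← hs.2, h, hc'])

/-- The stabiliser of a pair of points. -/
def pairStab (a b : K ⧸ S.Mst) : Subgroup K where
  carrier := {g | (g • a = a ∧ g • b = b) ∨ (g • a = b ∧ g • b = a)}
  one_mem' := Or.inl ⟨one_smul _ _, one_smul _ _⟩
  mul_mem' := by
    rintro g h (⟨g1, g2⟩ | ⟨g1, g2⟩) (⟨h1, h2⟩ | ⟨h1, h2⟩) <;>
      simp only [Set.mem_setOf_eq, mul_smul, h1, h2, g1, g2, and_self, true_or, or_true]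
  inv_mem' := by
    rintro g (⟨g1, g2⟩ | ⟨g1, g2⟩)
    · exact Or.inl ⟨inv_smul_eq_iff.2 g1.symm, inv_smul_eq_iff.2 g2.symm⟩
    · exact Or.inr ⟨inv_smul_eq_iff.2 g2.symm, inv_smul_eq_iff.2 g1.symm⟩

theorem sw_of_pairStab {a b : K ⧸ S.Mst} (hne : a ≠ b) {s : K} (hs : s ∈ S.Dz)
    (h : s ∈ S.pairStab a b) : s ∈ S.Sw a b := by
  rcases h with ⟨h1, h2⟩ | ⟨h1, -⟩
  · exact absurd (S.fix_unique hs h1 h2) hne
  · exact ⟨hs, h1⟩

theorem pairStab_of_sw {a b : K ⧸ S.Mst} {s : K} (hs : s ∈ S.Sw a b) : s ∈ S.pairStab a b :=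
  Or.inr ⟨hs.2, by rw [← hs.2, ← mul_smul, S.Dz_sq hs.1, one_smul]⟩

theorem fix_of_odd {a b : K ⧸ S.Mst} {g : K} (hg : g ∈ S.pairStab a b) {m : ℕ}
    (hm : g ^ (2 * m + 1) = 1) : g • a = a := by
  have h2 : (g * g) • a = a := by
    rcases hg with ⟨h1, -⟩ | ⟨h1, h2⟩
    · rw [mul_smul, h1, h1]
    · rw [mul_smul, h1, h2]
  have e : g = (g * g) ^ (m + 1) := by
    rw [← pow_two, ← pow_mul, show 2 * (m + 1) = 2 * m + 1 + 1 by ring, pow_succ, hm, one_mul]
  have h : g * g ∈ MulAction.stabilizer K a := h2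
  rw [e]
  exact MulAction.mem_stabilizer_iff.1 (pow_mem h (m + 1))

theorem card_Mst_val : Nat.card ↥S.Mst = 32768 * 280665 := by rw [S.card_Mst]

/-- There is only one point. -/
theorem one_point (a b : K ⧸ S.Mst) : a = b := by
  classical
  by_contra hne
  obtain ⟨s, hs⟩ := Set.nonempty_of_ncard_ne_zero (s := S.Sw a b) (by rw [S.card_Sw hne]; norm_num)
  set Γ := S.pairStab a b with hΓ
  let sΓ : ↥Γ := ⟨s, S.pairStab_of_sw hs⟩
  have hsw : ∀ g : ↥Γ, cj g.1 s ∈ S.Sw a b := fun g =>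
    S.sw_of_pairStab hne (S.Dz_cj hs.1 g.1) (mul_mem (mul_mem g.2 sΓ.2) (inv_mem g.2))
  have hiso : Cfsg.IsIsolated sΓ := by
    intro g hg
    exact Subtype.ext (S.sw_no_commute hne hs (hsw g) (congrArg Subtype.val hg.eq)).symm
  have hZ := zstar_isolated (u := sΓ) (Subtype.ext (S.Dz_sq hs.1))
    (fun e => S.Dz_ne_one hs.1 (congrArg Subtype.val e)) hiso
  set O := oddCore ↥Γ with hO
  haveI : O.Normal := inferInstance
  obtain ⟨m, hm⟩ : Odd (Nat.card ↥O) := Cores.odd_card_oddCore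
  let OK : Subgroup K := O.map Γ.subtype
  have hOK : Nat.card ↥OK = Nat.card ↥O :=
    (Nat.card_congr (O.equivMapOfInjective _ Subtype.val_injective).toEquiv).symm
  -- the swappers form an orbit of the odd core
  have horb : MulAction.orbit ↥(OK.map (ConjAct.toConjAct (G := K)).toMonoidHom) s = S.Sw a b := by
    ext t
    constructor
    · rintro ⟨⟨_, _, ⟨g, -, rfl⟩, rfl⟩, rfl⟩
      exact hsw g
    · intro ht
      have hodd : Odd (orderOf (s * t)) := by
        rw [← Nat.not_even_iff_odd]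
        intro hev
        obtain ⟨k, hk1, hcx, -⟩ :=
          dihedral_central (S.Dz_sq hs.1) (S.Dz_sq ht.1) hev (orderOf_pos _)
        have hd : (s * t) ^ k * s ∈ S.Dz := by
          obtain ⟨u, hu | hu⟩ := dihedral_conj (S.Dz_sq hs.1) (S.Dz_sq ht.1) k
          · exact hu ▸ S.Dz_cj hs.1 u
          · exact hu ▸ S.Dz_cj ht.1 u
        have hd' := S.sw_of_pairStab hne hd
          (mul_mem (pow_mem (mul_mem (S.pairStab_of_sw hs) (S.pairStab_of_sw ht)) k) (S.pairStab_of_sw hs))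
        exact hk1 (mul_eq_right.1 (S.sw_no_commute hne hd' hs (hcx.mul_left (Commute.refl s))))
      obtain ⟨n, hn⟩ := hodd
      have e : cj ((s * t) ^ n * s) s = t :=
        dihedral_swap (S.Dz_sq hs.1) (S.Dz_sq ht.1) (by rw [← hn, pow_orderOf_eq_one])
      let g : ↥Γ := ⟨(s * t) ^ n * s,
        mul_mem (pow_mem (mul_mem (S.pairStab_of_sw hs) (S.pairStab_of_sw ht)) n) (S.pairStab_of_sw hs)⟩
      have hst : s * t ∈ OK := by
        refine ⟨sΓ * ⟨t, S.pairStab_of_sw ht⟩, ?_, rfl⟩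
        have e' : sΓ * ⟨t, S.pairStab_of_sw ht⟩ = sΓ * g * sΓ⁻¹ * g⁻¹ := Subtype.ext (by
          show s * t = s * ((s * t) ^ n * s) * s⁻¹ * ((s * t) ^ n * s)⁻¹
          conv_lhs => rw [← e, cj]
          rw [show s⁻¹ = s from S.Dz_inv hs.1]
          simp only [mul_assoc])
        rw [e']
        exact hZ g
      refine ⟨⟨ConjAct.toConjAct ((s * t) ^ n), (s * t) ^ n, pow_mem hst n, rfl⟩, ?_⟩
      show ConjAct.toConjAct ((s * t) ^ n) • s = t
      refine (ConjAct.toConjAct_smul _ _).trans (Eq.trans ?_ e)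
      rw [cj, _root_.mul_inv_rev]
      simp only [mul_assoc, mul_inv_cancel_left]
  have h693 : 693 ∣ Nat.card ↥O := by
    rw [← S.card_Sw hne, ← horb, ← MulAction.index_stabilizer, ← hOK]
    rw [Nat.card_congr (OK.equivMapOfInjective (ConjAct.toConjAct (G := K)).toMonoidHom
      (ConjAct.toConjAct (G := K)).injective).toEquiv]
    exact Subgroup.index_dvd_card _
  -- the odd core embeds in the stabiliser of a point
  have hfix : ∀ g ∈ OK, g • a = a := by
    rintro _ ⟨g, hg, rfl⟩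
    refine S.fix_of_odd g.2 (m := m) ?_
    have h := orderOf_dvd_iff_pow_eq_one.1 (Subgroup.orderOf_dvd_natCard O hg)
    rw [hm] at h
    exact congrArg Subtype.val h
  obtain ⟨k, rfl⟩ := QuotientGroup.mk_surjective a
  let R : Subgroup K := OK.map (MulAut.conj k⁻¹).toMonoidHom
  have hR : R ≤ S.Mst := by
    rintro _ ⟨g, hg, rfl⟩
    exact S.smul_mk_eq.1 (hfix g hg)
  have hRc : Nat.card ↥R = Nat.card ↥O := by
    rw [← hOK]
    exact (Nat.card_congr (OK.equivMapOfInjective _ (MulAut.conj k⁻¹).injective).toEquiv).symm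
  have hdvd : Nat.card ↥R ∣ 280665 := by
    have h := Subgroup.card_dvd_of_le hR
    rw [S.card_Mst_val] at h
    refine Nat.Coprime.dvd_of_dvd_mul_left ?_ h
    rw [hRc, hm, show 32768 = 2 ^ 15 by norm_num]
    exact Nat.Coprime.pow_right _ ((Nat.coprime_comm).1
      ((Nat.Prime.coprime_iff_not_dvd Nat.prime_two).2 (by omega)))
  obtain ⟨g, hg⟩ := exists_order77 (R := ↥R) (by rw [hRc]; exact dvd_trans (by norm_num) h693) hdvd
  obtain ⟨F, i1, i2, hF, ⟨e⟩⟩ := S.Mst_psu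
  refine psu6_no77 hF (e (Subgroup.inclusion hR g)) ?_
  rw [MulEquiv.orderOf_eq, orderOf_injective _ (Subgroup.inclusion_injective hR), hg]

theorem Mst_top : S.Mst = ⊤ := by
  rw [Subgroup.eq_top_iff']
  intro g
  have h := S.one_point ((1 : K) : K ⧸ S.Mst) (g : K ⧸ S.Mst)
  rw [QuotientGroup.eq, inv_one, one_mul] at h
  exact h

/-- The recognition theorem: a group with a seed is PSU6(2). -/
theorem recognise : ∃ (F : Type) (_ : Field F) (_ : Fintype F),
    Fintype.card F = 4 ∧ Nonempty (K ≃* Cfsg.PSU 6 F 2) := by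
  obtain ⟨F, i1, i2, hF, ⟨e⟩⟩ := S.Mst_psu
  exact ⟨F, i1, i2, hF, ⟨((MulEquiv.subgroupCongr S.Mst_top).trans Subgroup.topEquiv).symm.trans e⟩⟩

end Seed

end Cfsg.Agent.H49.USix
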