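import Cfsg.Agent.H49.USix.Model

/-!
Incidence facts of the forty-five points: valencies, witnesses, transitivity by transvections,
the line of two orthogonal points.
-/

set_option autoImplicit false
set_option maxRecDepth 20000

namespace Cfsg.Agent.H49.USix

open Cfsg Cfsg.Agent.Compute Cfsg.Agent.Unitary Cfsg.Agent.H41.SUSix Matrix

/-- Coded counting. -/
noncomputable def cntN (n : ℕ) (f : ℕ → Bool) : ℕ :=
  Nat.rec 0 (fun i acc => cond (f i) (Nat.succ acc) acc) n

open Classical in
theorem cntN_eq (f : ℕ → Bool) : ∀ n, cntN n f =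
    ((Finset.univ : Finset (Fin n)).filter fun i : Fin n => f i.val = true).card := by
  intro n
  induction n with
  | zero => rfl
  | succ k ih =>
    have h : cntN (k + 1) f = cond (f k) (cntN k f + 1) (cntN k f) := rfl
    rw [h, Finset.card_filter, Fin.sum_univ_castSucc]
    simp only [Fin.val_castSucc, Fin.val_last]
    rw [← Finset.card_filter (fun i : Fin k => f i.val = true) Finset.univ, ← ih]
    by_cases hf : f k = true <;> simp [hf]

/-- The points orthogonal to a point, other than it. -/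
theorem nb_ok : allN 45 (fun i => Nat.beq (cntN 45 (fun j => adjC i j && !Nat.beq j i)) 12) = true := by
  decide +kernel

theorem card_nb (i : Fin 45) :
    ((Finset.univ : Finset (Fin 45)).filter fun j => Ort i j ∧ j ≠ i).card = 12 := by
  classical
  have h := (allN_iff _ _).1 nb_ok i i.2
  rw [Nat.beq_eq, cntN_eq] at h
  refine Eq.trans (congrArg Finset.card (Finset.filter_congr fun j _ => ?_)) h
  simp only [Ort, Fin.ext_iff, ne_eq, Bool.and_eq_true, Bool.not_eq_true', ← Bool.not_eq_true,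
    Nat.beq_eq]

theorem common_ok : allN 45 (fun i => allN 45 (fun j => adjC i j ||
    Nat.beq (cntN 45 (fun r => adjC i r && adjC j r)) 3)) = true := by
  decide +kernel

theorem card_common {i j : Fin 45} (h : ¬ Ort i j) :
    ((Finset.univ : Finset (Fin 45)).filter fun r => Ort i r ∧ Ort j r).card = 3 := by
  classical
  have h' := (allN_iff _ _).1 ((allN_iff _ _).1 common_ok i i.2) j j.2
  rw [Bool.or_eq_true, Nat.beq_eq, cntN_eq] at h'
  refine Eq.trans (congrArg Finset.card (Finset.filter_congr fun r _ => ?_)) (h'.resolve_left h)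
  simp [Ort]

theorem exists_common {i j : Fin 45} (h : ¬ Ort i j) : ∃ r, Ort i r ∧ Ort j r := by
  have h' := card_common h
  obtain ⟨r, hr⟩ := Finset.card_pos.1 (by omega : 0 < ((Finset.univ : Finset (Fin 45)).filter
    fun r => Ort i r ∧ Ort j r).card)
  exact ⟨r, (Finset.mem_filter.1 hr).2⟩

theorem sep_ok : allN 45 (fun i => allN 45 (fun j => Nat.beq i j ||
    anyN 45 (fun r => adjC i r && !adjC j r))) = true := by
  decide +kernel

theorem exists_sep {i j : Fin 45} (h : i ≠ j) : ∃ r, Ort i r ∧ ¬ Ort j r := by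
  have h' := (allN_iff _ _).1 ((allN_iff _ _).1 sep_ok i i.2) j j.2
  simp only [Bool.or_eq_true, Nat.beq_eq, anyN_iff, Bool.and_eq_true, Bool.not_eq_true'] at h'
  obtain ⟨r, hr, h1, h2⟩ := h'.resolve_left (fun e => h (Fin.ext e))
  exact ⟨⟨r, hr⟩, h1, fun e => by simp [Ort, h2] at e⟩

/-- A vector with prescribed values against two different points. -/
theorem exists_values {i j : Fin 45} (h : i ≠ j) (a b : K4) :
    ∃ w, hh w (pv i) = a ∧ hh w (pv j) = b := by
  obtain ⟨r, r1, r2⟩ := exists_sep h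
  obtain ⟨s, s1, s2⟩ := exists_sep h.symm
  have hr : hh (pv r) (pv i) = 0 := hh_zero_symm.1 (ort_iff.1 r1)
  have hr' : hh (pv r) (pv j) ≠ 0 := fun e => r2 (ort_symm (ort_iff.2 e))
  have hs : hh (pv s) (pv j) = 0 := hh_zero_symm.1 (ort_iff.1 s1)
  have hs' : hh (pv s) (pv i) ≠ 0 := fun e => s2 (ort_symm (ort_iff.2 e))
  refine ⟨(a / hh (pv s) (pv i)) • pv s + (b / hh (pv r) (pv j)) • pv r, ?_, ?_⟩
  · rw [hh_add_left, hh_smul_left, hh_smul_left, hr, mul_zero, add_zero, div_mul_cancel₀ _ hs']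
  · rw [hh_add_left, hh_smul_left, hh_smul_left, hs, mul_zero, zero_add, div_mul_cancel₀ _ hr']

theorem exists_value (i : Fin 45) (a : K4) : ∃ w, hh w (pv i) = a := by
  obtain ⟨j, hj⟩ : ∃ j : Fin 45, i ≠ j := exists_ne i |>.imp fun _ h => h.symm
  exact (exists_values hj a 0).imp fun _ h => h.1

/-- The base point, on which a diagonal element acts as a scalar. -/
def i₀ : Fin 45 := 1

/-- The second base point. -/
def j₀ : Fin 45 := 15

theorem point_trans_ok : allN 45 (fun i => Nat.beq i 1 || anyN 45 (fun r => anyN 45 (fun s =>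
    Nat.beq (mvC r (mvC s i)) 1))) = true := by
  decide +kernel

theorem pair_trans_ok : allN 45 (fun k => !adjC 1 k || Nat.beq k 1 || Nat.beq k 15 ||
    anyN 45 (fun r => adjC 1 r && anyN 45 (fun s => adjC 1 s &&
      Nat.beq (mvC r (mvC s k)) 15))) = true := by
  decide +kernel

theorem ort_base : Ort i₀ j₀ := by
  show adjC 1 15 = true
  decide +kernel

theorem act_tp_two (r s i : Fin 45) (n : ℕ) (h : mvC r (mvC s i) = n) :
    ((act (tp r * tp s) i : Fin 45) : ℕ) = n := by
  rw [act_mul (tp_iso r) (tp_iso s), act_tp, act_tp]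
  exact h

/-- The transvections are transitive on points. -/
theorem point_trans (i : Fin 45) :
    ∃ g ∈ Subgroup.closure (Set.range tp), Iso g ∧ act g i = i₀ := by
  have h := (allN_iff _ _).1 point_trans_ok i i.2
  simp only [Bool.or_eq_true, Nat.beq_eq, anyN_iff] at h
  rcases h with e | ⟨r, hr, s, hs, e⟩
  · exact ⟨1, one_mem _, Iso.one, by rw [act_one]; exact Fin.ext e⟩
  · exact ⟨tp ⟨r, hr⟩ * tp ⟨s, hs⟩,
      mul_mem (Subgroup.subset_closure ⟨_, rfl⟩) (Subgroup.subset_closure ⟨_, rfl⟩),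
      (tp_iso _).mul (tp_iso _), Fin.ext (act_tp_two ⟨r, hr⟩ ⟨s, hs⟩ i _ e)⟩

/-- The transvections are transitive on ordered pairs of orthogonal points. -/
theorem pair_trans {i j : Fin 45} (h : Ort i j) (hne : i ≠ j) :
    ∃ g ∈ Subgroup.closure (Set.range tp), Iso g ∧ act g i = i₀ ∧ act g j = j₀ := by
  obtain ⟨g, hg, hgi, e⟩ := point_trans i
  set k := act g j with hk
  have hk1 : Ort i₀ k := e ▸ (ort_act hgi).2 h
  have hk2 : k ≠ i₀ := fun e' => hne (act_inj hgi (e.trans e'.symm))
  have h' := (allN_iff _ _).1 pair_trans_ok k k.2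
  simp only [Bool.or_eq_true, Bool.not_eq_true', Nat.beq_eq, anyN_iff, Bool.and_eq_true] at h'
  rcases h' with ((e1 | e1) | e1) | ⟨r, hr, r1, s, hs, s1, e1⟩
  · exact absurd hk1 (by show ¬ adjC 1 k = true; rw [e1]; simp)
  · exact absurd (Fin.ext e1) hk2
  · exact ⟨g, hg, hgi, e, Fin.ext e1⟩
  · set t := tp ⟨r, hr⟩ * tp ⟨s, hs⟩ with ht
    have hti : Iso t := (tp_iso _).mul (tp_iso _)
    have fixb : ∀ q : Fin 45, Ort i₀ q → act (tp q) i₀ = i₀ := fun q hq => by
      refine tp_injective ?_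
      rw [← conj_tp (tp_iso q), (tp_commute_iff.2 (ort_symm hq)).eq, mul_inv_cancel_right]
    refine ⟨t * g, mul_mem (mul_mem (Subgroup.subset_closure ⟨_, rfl⟩)
      (Subgroup.subset_closure ⟨_, rfl⟩)) hg, hti.mul hgi, ?_, ?_⟩
    · rw [act_mul hti hgi, e, ht, act_mul (tp_iso _) (tp_iso _), fixb ⟨s, hs⟩ s1, fixb ⟨r, hr⟩ r1]
    · rw [act_mul hti hgi, ← hk]
      exact Fin.ext (act_tp_two ⟨r, hr⟩ ⟨s, hs⟩ k _ e1)

/-- The line through two points. -/
noncomputable def line (i j : Fin 45) : Finset (Fin 45) :=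
  (Finset.univ : Finset (Fin 45)).filter fun k => Ort i k ∧ Ort j k

theorem mem_line {i j k : Fin 45} : k ∈ line i j ↔ Ort i k ∧ Ort j k := by simp [line]

theorem line_ok : allN 45 (fun i => allN 45 (fun j => !adjC i j || Nat.beq i j ||
    (Nat.beq (cntN 45 (fun r => adjC i r && adjC j r)) 5 &&
    allN 45 (fun k => !(adjC i k && adjC j k) || Nat.beq k i ||
      Nat.beq (Nat.land (getP 45 rowLit i) (getP 45 rowLit k))
        (Nat.land (getP 45 rowLit i) (getP 45 rowLit j)))))) = true := by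
  decide +kernel

theorem card_line {i j : Fin 45} (h : Ort i j) (hne : i ≠ j) : (line i j).card = 5 := by
  classical
  have h' := (allN_iff _ _).1 ((allN_iff _ _).1 line_ok i i.2) j j.2
  simp only [Bool.or_eq_true, Bool.not_eq_true', Nat.beq_eq, Bool.and_eq_true] at h'
  rcases h' with (e | e) | ⟨e, -⟩
  · exact absurd h (by simp [Ort, e])
  · exact absurd (Fin.ext e) hne
  · rw [cntN_eq] at e
    refine Eq.trans (congrArg Finset.card (Finset.filter_congr fun r _ => ?_)) e
    simp [Ort]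

theorem getP_one_land (a b n : ℕ) :
    getP 1 (Nat.land a b) n = Nat.land (getP 1 a n) (getP 1 b n) := by
  show ((a &&& b) >>> (1 * n)) &&& (2 ^ 1 - 1) =
    ((a >>> (1 * n)) &&& (2 ^ 1 - 1)) &&& ((b >>> (1 * n)) &&& (2 ^ 1 - 1))
  rw [Nat.shiftRight_and_distrib]
  refine Nat.eq_of_testBit_eq fun m => ?_
  simp only [Nat.testBit_and]
  cases (2 ^ 1 - 1).testBit m <;> simp

theorem bit_land_iff (a b n : ℕ) : (Nat.beq (getP 1 (Nat.land a b) n) 1 = true) ↔
    (Nat.beq (getP 1 a n) 1 = true ∧ Nat.beq (getP 1 b n) 1 = true) := by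
  have key : ∀ x < 2, ∀ y < 2, Nat.land x y = 1 ↔ (x = 1 ∧ y = 1) := by decide
  simp only [Nat.beq_eq, getP_one_land]
  exact key _ (getP_lt 1 _ _) _ (getP_lt 1 _ _)

/-- A line is determined by any of its pairs through one of the given points. -/
theorem line_eq {i j k : Fin 45} (h : Ort i j) (hne : i ≠ j) (hk : k ∈ line i j) (hki : k ≠ i) :
    line i k = line i j := by
  classical
  have h' := (allN_iff _ _).1 ((allN_iff _ _).1 line_ok i i.2) j j.2
  simp only [Bool.or_eq_true, Bool.not_eq_true', Nat.beq_eq, Bool.and_eq_true, allN_iff] at h'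
  rcases h' with (e | e) | ⟨-, e⟩
  · exact absurd h (by simp [Ort, e])
  · exact absurd (Fin.ext e) hne
  · obtain ⟨k1, k2⟩ := mem_line.1 hk
    rcases e k k.2 with (e' | e') | e'
    · unfold Ort at k1 k2
      rw [k1, k2] at e'
      simp at e'
    · exact absurd (Fin.ext e') hki
    · ext n
      rw [mem_line, mem_line]
      show (adjC i n = true ∧ adjC k n = true) ↔ (adjC i n = true ∧ adjC j n = true)
      rw [adjC, adjC, adjC, ← bit_land_iff, ← bit_land_iff, e']

theorem line_clique {i j a b : Fin 45} (h : Ort i j) (hne : i ≠ j) (ha : a ∈ line i j)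
    (hb : b ∈ line i j) : Ort a b := by
  by_cases hai : a = i
  · exact hai ▸ (mem_line.1 hb).1
  · have := line_eq h hne ha hai ▸ hb
    exact (mem_line.1 this).2

theorem line_span_ok : allN 45 (fun i => allN 45 (fun j => !adjC i j || Nat.beq i j ||
    allN 45 (fun k => !(adjC i k && adjC j k) || anyN 4 (fun a => anyN 4 (fun b =>
      Nat.beq (pc k) (Nat.xor (sc4 a (pc i)) (sc4 b (pc j)))))))) = true := by
  decide +kernel

/-- The points orthogonal to two orthogonal points lie in their span. -/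
theorem mem_span {i j k : Fin 45} (h : Ort i j) (hne : i ≠ j) (h1 : Ort i k) (h2 : Ort j k) :
    ∃ a b : K4, pv k = a • pv i + b • pv j := by
  have h' := (allN_iff _ _).1 ((allN_iff _ _).1 line_span_ok i i.2) j j.2
  simp only [Bool.or_eq_true, Bool.not_eq_true', Nat.beq_eq, Bool.and_eq_true, allN_iff,
    anyN_iff] at h'
  rcases h' with (e | e) | e
  · exact absurd h (by simp [Ort, e])
  · exact absurd (Fin.ext e) hne
  · unfold Ort at h1 h2
    rcases e k k.2 with e' | ⟨a, ha, b, hb, e'⟩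
    · rw [h1, h2] at e'
      simp at e'
    · exact ⟨fe a, fe b, by rw [pv, e', d4_xor, d4_sc4 ha, d4_sc4 hb]; rfl⟩

/-- The diagonal vector. -/
def diagD : W4 := ![ω₄, ω₄, ω₄, 1]

theorem base_diag : ∀ k : Fin 4, diagD k * pv i₀ k = ω₄ * pv i₀ k := by decide +kernel

theorem diagD_cube : ∀ k : Fin 4, diagD k ^ 2 * diagD k = 1 := by decide +kernel

end Cfsg.Agent.H49.USix
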