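import Cfsg.Agent.H49.USix.Recognise

/-!
The involutions of the centraliser of `z`: `z`, members, products of adjacent members, and products
`z x y` for two members over different orthogonal points.
-/

set_option autoImplicit false
set_option linter.unusedSectionVars false
set_option maxRecDepth 20000

namespace Cfsg.Agent.H49.USix

open Cfsg Matrix
open Cfsg.Agent.H41.SUSix (K4 ap ω₄)
open H76.LocallyS3 (cj cj_cj cj_injective commute_cj_iff)

theorem tp_mul_ne {a b i : Fin 45} (hne : a ≠ b) : tp a * tp b ≠ tp i := by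
  intro e
  obtain ⟨w, w1, w2⟩ := exists_values hne 1 0
  have h := Equiv.congr_fun e w
  rw [Equiv.Perm.mul_apply, tp_apply b, w2, zero_smul, add_zero, tp_apply, tp_apply, w1, one_smul] at h
  have hia : a = i := pv_point (add_left_cancel h)
  subst hia
  exact tp_ne_one b (mul_eq_left.1 e)

theorem perp_ok : ∀ v : Fin 256, hh (d4 v) (pv i₀) = 0 → hh (d4 v) (pv j₀) = 0 →
    ∃ a b : K4, ∀ k : Fin 4, d4 v k = a * pv i₀ k + b * pv j₀ k := by
  decide +kernel

theorem perp_base {w : W4} (h1 : hh w (pv i₀) = 0) (h2 : hh w (pv j₀) = 0) :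
    ∃ a b : K4, w = a • pv i₀ + b • pv j₀ := by
  obtain ⟨v, rfl⟩ := d4_surj w
  obtain ⟨a, b, h⟩ := perp_ok v h1 h2
  exact ⟨a, b, funext h⟩

theorem perp_span {i j : Fin 45} (h : Ort i j) (hne : i ≠ j) {w : W4} (h1 : hh w (pv i) = 0)
    (h2 : hh w (pv j) = 0) : ∃ a b : K4, w = a • pv i + b • pv j := by
  obtain ⟨g, -, hg, hi, hj⟩ := pair_trans h hne
  obtain ⟨c, hc, e⟩ := act_spec hg i
  obtain ⟨d, hd, e'⟩ := act_spec hg j
  rw [hi] at e
  rw [hj] at e'
  have k1 : hh (g w) (pv i₀) = 0 := by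
    have h3 := hg.herm w (pv i)
    rw [e, h1, hh_smul_right, mul_eq_zero, k4_sq_zero] at h3
    exact h3.resolve_left hc
  have k2 : hh (g w) (pv j₀) = 0 := by
    have h3 := hg.herm w (pv j)
    rw [e', h2, hh_smul_right, mul_eq_zero, k4_sq_zero] at h3
    exact h3.resolve_left hd
  obtain ⟨a, b, hab⟩ := perp_base k1 k2
  refine ⟨a * c⁻¹, b * d⁻¹, g.injective ?_⟩
  rw [hg.add, hg.smul, hg.smul, e, e', smul_smul, smul_smul, inv_mul_cancel_right₀ hc,
    inv_mul_cancel_right₀ hd]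
  exact hab

namespace Seed

variable {K : Type*} [Group K] [Finite K] {z : K} {Q : Subgroup K} (S : Seed z Q)

/-- The products of three pairwise adjacent members off a line. -/
def IsTri (c : K) : Prop :=
  ∃ g : K, ∃ x y : K, x ∈ S.D1 ∧ y ∈ S.D1 ∧ Ort (S.pt x) (S.pt y) ∧ S.pt x ≠ S.pt y ∧
    c = cj g (z * x * y)

/-- The products of two adjacent members commuting with `z`. -/
def IsPair (c : K) : Prop :=
  ∃ a b : K, a ∈ insert z S.D1 ∧ b ∈ insert z S.D1 ∧ S.Adj a b ∧ c = a * b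

include S

/-- A multiple of a point is the image of a pair product. -/
theorem pair_over {x q : K} (hx : x ∈ S.D1) (hq : q ∈ Q) {a : K4} (ha : a ≠ 0)
    (he : S.π q = a • pv (S.pt x)) :
    ∃ u v : K, u ∈ S.D1 ∧ v ∈ S.D1 ∧ S.pt u = S.pt x ∧ S.pt v = S.pt x ∧ u ≠ v ∧ q = u * v := by
  obtain ⟨w, hw⟩ := exists_value (S.pt x) a
  obtain ⟨r, hr, rfl⟩ := S.π_surj w
  obtain ⟨m, hm, e, hπ⟩ := S.cj_Q (S.D1_comm hx) (S.D1_sq hx) (S.ρ_pt hx) hr
  rw [hw, ← he] at hπ
  have hy : cj r x ∈ S.D1 := S.D1_cj hx (S.le r hr)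
  have hne : cj r x ≠ x := fun h => ha ((hw.symm.trans ((S.cj_Q_fix_iff hx hr).1 h)))
  have hmm : m = cj r x * x := by rw [e, mul_assoc, S.D1_sq hx, mul_one]
  rcases S.π_eq hm hq hπ with h | h
  · exact ⟨cj r x, x, hy, hx, S.pt_cj_Q hx hr, rfl, hne, h.trans hmm⟩
  · -- shift by an element moving the image
    obtain ⟨t, ht⟩ : ∃ t : K4, H41.LFi.trK (a ^ 2 * t) = 1 := by
      have key : ∀ a : K4, a ≠ 0 → ∃ t : K4, H41.LFi.trK (a ^ 2 * t) = 1 := by decide +kernel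
      exact key a ha
    obtain ⟨w', hw'⟩ := exists_value (S.pt x) t
    obtain ⟨s, hs, rfl⟩ := S.π_surj w'
    have hp : pol4 (S.π m) (S.π s) = 1 := by
      have sym : pol4 (S.π m) (S.π s) = pol4 (S.π s) (S.π m) := by
        rw [pol4, pol4, add_comm (S.π m), add_assoc, add_assoc, add_comm (wt4 (S.π m))]
      rw [sym, pol4_eq, hπ, he, hh_smul_right, hw', ht]
    have hsm : cj s m = z * m := by
      have h' := S.comm m hm s hs
      rw [hp] at h'
      rw [cj, h', H92.ExtraForm.zp, if_neg one_ne_zero,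
        show m * s * z = z * (m * s) from S.le _ (mul_mem hm hs), mul_assoc, mul_assoc,
        mul_inv_cancel, mul_one]
    refine ⟨cj s (cj r x), cj s x, S.D1_cj hy (S.le s hs), S.D1_cj hx (S.le s hs),
      (S.pt_cj_Q hy hs).trans (S.pt_cj_Q hx hr), S.pt_cj_Q hx hs, fun h' => hne (cj_injective s h'), ?_⟩
    rw [h, ← hsm, hmm, cj_mul']

/-- Three mutually adjacent members off a line. -/
theorem isTri_of {x a b : K} (hx : x ∈ S.D1) (ha : a ∈ S.D1) (hb : b ∈ S.D1)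
    (hp : S.pt a = S.pt b) (hne : a ≠ b) (ho : Ort (S.pt x) (S.pt a)) (hpx : S.pt x ≠ S.pt a) :
    S.IsTri (x * (a * b)) := by
  obtain ⟨g, hg⟩ := S.D1_conj ha
  have hgi : cj g⁻¹ a = z := by rw [← hg, cj_inv_cj']
  have hb' := S.cj_mem_D1 hgi (S.adj_of_fibre ha hb hp hne)
  have hax : S.Adj a x := S.adj_symm (S.adj_of_ort hx ha ho hpx)
  have hx' := S.cj_mem_D1 hgi hax
  have hbx : S.Adj x b := S.adj_of_ort hx hb (hp ▸ ho) (hp ▸ hpx)
  have hadj' := (S.adj_cj_iff g⁻¹).2 hbx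
  refine ⟨g, cj g⁻¹ b, cj g⁻¹ x, hb', hx',
    ((S.adj_iff hb' hx').1 (S.adj_symm hadj')).2, fun he => ?_, ?_⟩
  · obtain ⟨r, r1, r2⟩ := exists_sep hpx.symm
    obtain ⟨t, ht, htr⟩ := S.exists_member r
    have hra : r ≠ S.pt a := fun e => r2 (by rw [e]; exact ho)
    have hat : S.Adj a t := S.adj_of_ort ha ht (by rw [htr]; exact r1) (by rw [htr]; exact hra.symm)
    have hbt : S.Adj b t := S.adj_of_ort hb ht (by rw [htr, ← hp]; exact r1)
      (by rw [htr, ← hp]; exact hra.symm)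
    have ht' := S.cj_mem_D1 hgi hat
    have hxt : ¬ S.Adj x t := fun h => r2 (htr ▸ ((S.adj_iff hx ht).1 h).2)
    refine hxt ((S.adj_cj_iff g⁻¹).1 ((S.adj_iff hx' ht').2 ⟨fun e => ?_, ?_⟩))
    · exact r2 (htr ▸ cj_injective g⁻¹ e ▸ ort_refl _)
    · rw [← he]
      exact ((S.adj_iff hb' ht').1 ((S.adj_cj_iff g⁻¹).2 hbt)).2
  · rw [cj_mul', cj_mul', hg, cj_cj_inv', cj_cj_inv',
      show x * (a * b) = (a * b) * x from
        ((S.adj_commute (S.adj_symm hax)).mul_right (S.adj_commute hbx)).eq]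

/-- The involutions of the centraliser. -/
theorem invol_class {c : K} (hc : c * z = z * c) (h2 : c * c = 1) :
    c = 1 ∨ c = z ∨ c ∈ S.D1 ∨ S.IsPair c ∨ S.IsTri c := by
  have hρ2 : S.ρ c * S.ρ c = 1 := by rw [← S.ρ_mul c c hc hc, h2, S.ρ_one]
  rcases invol_cases (S.ρ_iso c hc) hρ2 with h | ⟨i, h⟩ | ⟨i, j, hij, hne, h⟩
  · -- in the core
    have hq := (S.ρ_ker c hc).1 h
    have hwt := (S.sq_iff hq).1 h2
    by_cases h0 : S.π c = 0
    · rcases (S.π_zero c hq).1 h0 with e | e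
      · exact Or.inl e
      · exact Or.inr (Or.inl e)
    obtain ⟨i, a, ha, e⟩ := exists_point h0 ((iso_iff _).2 hwt)
    obtain ⟨x, hx, rfl⟩ := S.exists_member i
    obtain ⟨u, v, hu, hv, pu, pv', hne, e'⟩ := S.pair_over hx hq (inv_ne_zero ha)
      (by rw [e, inv_smul_smul₀ ha])
    exact Or.inr (Or.inr (Or.inr (Or.inl ⟨u, v, Or.inr hu, Or.inr hv,
      S.adj_of_fibre hu hv (pu.trans pv'.symm) hne, e'⟩)))
  · -- over a transvection
    obtain ⟨x, hx, rfl⟩ := S.exists_member i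
    have cx := S.D1_comm hx
    have hq : x * c ∈ Q := (S.ρ_ker _ (S.cz_mul cx hc)).1 (by
      rw [S.ρ_mul x c cx hc, S.ρ_pt hx, h, tp_sq])
    set q := x * c with hqdef
    have hcq : c = x * q := by rw [hqdef, ← mul_assoc, S.D1_sq hx, one_mul]
    have hxqx : cj x q = q⁻¹ := by
      rw [cj, hqdef, _root_.mul_inv_rev, inv_eq_of_mul_eq_one_right (S.D1_sq hx),
        inv_eq_of_mul_eq_one_right h2, ← mul_assoc, S.D1_sq hx, one_mul]
    have hw : hh (S.π q) (pv (S.pt x)) = 0 := by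
      have h' := congrArg S.π hxqx
      rw [S.π_cj cx hq, S.ρ_pt hx, S.π_inv hq, tp_apply, add_eq_left, smul_eq_zero] at h'
      exact h'.resolve_right (pv_ne _)
    have hfix : cj q x = x := (S.cj_Q_fix_iff hx hq).2 hw
    have hqq : q * q = 1 := by
      have : c * c = x * x * (q * q) := by
        rw [hcq]
        have hcm : q * x = x * q := cj_fix_iff.1 hfix
        rw [mul_assoc, ← mul_assoc q, hcm, mul_assoc x q, ← mul_assoc]
      rw [h2, S.D1_sq hx, one_mul] at this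
      exact this.symm
    by_cases h0 : S.π q = 0
    · rcases (S.π_zero q hq).1 h0 with e | e
      · exact Or.inr (Or.inr (Or.inl (by rw [hcq, e, mul_one]; exact hx)))
      · exact Or.inr (Or.inr (Or.inr (Or.inl ⟨x, z, Or.inr hx, Or.inl rfl,
          S.adj_symm (S.adj_z_iff.2 hx), by rw [hcq, e]⟩)))
    obtain ⟨j, a, ha, e⟩ := exists_point h0 ((iso_iff _).2 ((S.sq_iff hq).1 hqq))
    have hea : S.π q = a⁻¹ • pv j := by rw [e, inv_smul_smul₀ ha]
    by_cases hji : j = S.pt x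
    · subst hji
      obtain ⟨w, hw'⟩ := exists_value (S.pt x) a⁻¹
      obtain ⟨r, hr, rfl⟩ := S.π_surj w
      obtain ⟨m, hm, em, hπ⟩ := S.cj_Q cx (S.D1_sq hx) (S.ρ_pt hx) hr
      rw [hw', ← hea] at hπ
      have hmx : cj m x = x := (S.cj_Q_fix_iff hx hm).2 (by rw [hπ]; exact hw)
      rcases S.π_eq hm hq hπ with e' | e'
      · refine Or.inr (Or.inr (Or.inl ?_))
        rw [hcq, e', ← cj_fix_iff.1 hmx, ← em]
        exact S.D1_cj hx (S.le r hr)
      · refine Or.inr (Or.inr (Or.inr (Or.inl ⟨z, cj r x, Or.inl rfl,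
          Or.inr (S.D1_cj hx (S.le r hr)), S.adj_z_iff.2 (S.D1_cj hx (S.le r hr)), ?_⟩)))
        rw [hcq, e', ← mul_assoc, cx, mul_assoc, ← cj_fix_iff.1 hmx, ← em]
    · obtain ⟨y, hy, rfl⟩ := S.exists_member j
      obtain ⟨u, v, hu, hv, pu, pv', hne, e'⟩ := S.pair_over hy hq (inv_ne_zero ha) hea
      refine Or.inr (Or.inr (Or.inr (Or.inr ?_)))
      rw [hcq, e']
      refine S.isTri_of hx hu hv (pu.trans pv'.symm) hne ?_ (fun h' => hji (h'.trans pu).symm)
      rw [pu]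
      rw [hea, hh_smul_left, mul_eq_zero, or_iff_right (inv_ne_zero ha)] at hw
      exact ort_symm (ort_iff.2 hw)
  · -- over two transvections
    obtain ⟨x, hx, rfl⟩ := S.exists_member i
    obtain ⟨y, hy, rfl⟩ := S.exists_member j
    have cx := S.D1_comm hx
    have cy := S.D1_comm hy
    have hxy : Commute x y := (S.commute_iff hx hy).2 hij
    have cxy := S.cz_mul cx cy
    have hxy2 : x * y * (x * y) = 1 := by
      rw [← pow_two, hxy.mul_pow, pow_two, pow_two, S.D1_sq hx, S.D1_sq hy, one_mul]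
    have hρxy : S.ρ (x * y) = S.ρ c := by rw [S.ρ_mul x y cx cy, S.ρ_pt hx, S.ρ_pt hy, h]
    have hq : x * y * c ∈ Q := (S.ρ_ker _ (S.cz_mul cxy hc)).1 (by
      rw [S.ρ_mul _ c cxy hc, hρxy, hρ2])
    set q := x * y * c with hqdef
    have hcq : c = x * y * q := by rw [hqdef, ← mul_assoc, hxy2, one_mul]
    have hqinv : cj (x * y) q = q⁻¹ := by
      rw [cj, hqdef, _root_.mul_inv_rev (x * y) c, inv_eq_of_mul_eq_one_right hxy2,
        inv_eq_of_mul_eq_one_right h2, ← mul_assoc (x * y) (x * y) c, hxy2, one_mul]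
    have hw : hh (S.π q) (pv (S.pt x)) = 0 ∧ hh (S.π q) (pv (S.pt y)) = 0 := by
      have h' := congrArg S.π hqinv
      rw [S.π_cj cxy hq, S.π_inv hq, hρxy, h, Equiv.Perm.mul_apply, tp_apply, tp_apply, hh_add_left,
        hh_smul_left, hh_zero_symm.1 (ort_iff.1 hij), mul_zero, add_zero, add_assoc, add_eq_left] at h'
      have h3 : hh (S.π q) (pv (S.pt y)) = 0 := by
        by_contra hb
        have e : pv (S.pt y) = ((hh (S.π q) (pv (S.pt y)))⁻¹ * hh (S.π q) (pv (S.pt x))) •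
            pv (S.pt x) := by
          have key : ∀ p r : W4, p + r = 0 → p = r := fun p r h => by
            rw [← add_zero p, ← vec_add_self r, ← add_assoc, h, zero_add]
          rw [mul_smul, ← key _ _ h', inv_smul_smul₀ hb]
        exact hne (pv_point e).symm
      rw [h3, zero_smul, zero_add, smul_eq_zero] at h'
      exact ⟨h'.resolve_right (pv_ne _), h3⟩
    obtain ⟨a, b, hab⟩ := perp_span hij hne hw.1 hw.2
    obtain ⟨w, hwa, hwb⟩ := exists_values hne a b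
    obtain ⟨r, hr, rfl⟩ := S.π_surj w
    obtain ⟨m, hm, em, hπ⟩ := S.cj_Q cx (S.D1_sq hx) (S.ρ_pt hx) hr
    obtain ⟨n, hn, en, hπn⟩ := S.cj_Q cy (S.D1_sq hy) (S.ρ_pt hy) hr
    rw [hwa] at hπ
    rw [hwb] at hπn
    have hfix : cj n x = x := (S.cj_Q_fix_iff hx hn).2 (by
      rw [hπn, hh_smul_left, hh_zero_symm.1 (ort_iff.1 hij), mul_zero])
    have hprod : cj r x * cj r y = m * n * (x * y) := by
      rw [em, en]
      calc m * x * (n * y) = m * (x * n) * y := by group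
        _ = m * (n * x) * y := by rw [cj_fix_iff.1 hfix]
        _ = _ := by group
    have hmn : S.π (m * n) = S.π q := by rw [S.π_mul m hm n hn, hπ, hπn, hab]
    have hxyq : q * (x * y) = x * y * q :=
      (((show Commute q x from cj_fix_iff.1 ((S.cj_Q_fix_iff hx hq).2 hw.1)).mul_right
        (show Commute q y from cj_fix_iff.1 ((S.cj_Q_fix_iff hy hq).2 hw.2)))).eq
    have hx' := S.D1_cj hx (S.le r hr)
    have hy' := S.D1_cj hy (S.le r hr)
    have ho' : Ort (S.pt (cj r x)) (S.pt (cj r y)) := by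
      rw [S.pt_cj_Q hx hr, S.pt_cj_Q hy hr]; exact hij
    have hne' : S.pt (cj r x) ≠ S.pt (cj r y) := by
      rw [S.pt_cj_Q hx hr, S.pt_cj_Q hy hr]; exact hne
    rcases S.π_eq (mul_mem hm hn) hq hmn with e | e
    · refine Or.inr (Or.inr (Or.inr (Or.inl ⟨cj r x, cj r y, Or.inr hx', Or.inr hy',
        S.adj_of_ort hx' hy' ho' hne', ?_⟩)))
      rw [hprod, hcq, ← hxyq, e]
    · refine Or.inr (Or.inr (Or.inr (Or.inr ⟨1, cj r x, cj r y, hx', hy', ho', hne', ?_⟩)))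
      rw [cj_one', mul_assoc, hprod, hcq, ← hxyq, e, mul_assoc]

/-- All triangles are conjugate. -/
theorem tri_conj {c x y : K} (hc : S.IsTri c) (hx : x ∈ S.D1) (hy : y ∈ S.D1)
    (ho : Ort (S.pt x) (S.pt y)) (hne : S.pt x ≠ S.pt y) : ∃ g : K, cj g c = z * x * y := by
  obtain ⟨g, u, v, hu, hv, ho', hne', rfl⟩ := hc
  obtain ⟨a, ha, a1, a2⟩ := S.exists_pair_map ho' hne'
  obtain ⟨b, hb, b1, b2⟩ := S.exists_pair_map ho hne
  have hd : b⁻¹ * a * z = z * (b⁻¹ * a) := S.cz_mul (S.cz_inv hb) ha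
  have hact : ∀ i j : Fin 45, act (S.ρ a) i = act (S.ρ b) j → act (S.ρ (b⁻¹ * a)) i = j := by
    intro i j e
    rw [S.ρ_mul _ _ (S.cz_inv hb) ha, S.ρ_inv hb, act_mul (S.ρ_iso b hb).inv (S.ρ_iso a ha), e,
      ← act_mul (S.ρ_iso b hb).inv (S.ρ_iso b hb), inv_mul_cancel, act_one]
  have pu : S.pt (cj (b⁻¹ * a) u) = S.pt x := by
    rw [S.pt_cj hu hd]; exact hact _ _ (a1.trans b1.symm)
  have pv' : S.pt (cj (b⁻¹ * a) v) = S.pt y := by
    rw [S.pt_cj hv hd]; exact hact _ _ (a2.trans b2.symm)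
  obtain ⟨q, hq, e1, e2⟩ := S.pair_orbit (S.D1_cj hu hd) (S.D1_cj hv hd) hx hy
    (by rw [pu, pv']; exact hne) pu.symm pv'.symm
  refine ⟨q * (b⁻¹ * a) * g⁻¹, ?_⟩
  rw [cj_cj, inv_mul_cancel_right, cj_mul', cj_mul', S.cj_z (S.cz_mul (S.le q hq) hd), ← cj_cj,
    ← cj_cj (x := v), e1, e2]

end Seed

end Cfsg.Agent.H49.USix
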