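import Cfsg.Agent.H49.USix.Local

/-!
The connected component of `z` in the commuting graph of the orbit of the seed: 693 members, any
two of them commute or have product of order three; its stabiliser.
-/

set_option autoImplicit false
set_option linter.unusedSectionVars false
set_option maxRecDepth 20000

namespace Cfsg.Agent.H49.USix

open Cfsg Matrix
open Cfsg.Agent.H41.SUSix (K4 ap ω₄)
open H76.LocallyS3 (cj cj_cj cj_injective commute_cj_iff)

theorem cj_cj_inv' {K : Type*} [Group K] (g x : K) : cj g (cj g⁻¹ x) = x := by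
  rw [cj_cj, mul_inv_cancel, cj_one']

namespace Seed

variable {K : Type*} [Group K] [Finite K] {z : K} {Q : Subgroup K} (S : Seed z Q)

/-- The members at distance two from `z`. -/
def D2 : Set K := {w | w ≠ z ∧ w ∉ S.D1 ∧ ∃ x ∈ S.D1, S.Adj x w}

/-- The members of `D1` adjacent to a given element. -/
def mu (w : K) : Set K := {x | x ∈ S.D1 ∧ S.Adj x w}

include S

theorem pt_injOn {w : K} (hw : w ∈ S.D2) : Set.InjOn S.pt (S.mu w) := by
  intro a ha b hb e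
  by_contra hne
  rcases S.common_fibre ha.1 hb.1 e hne ha.2 hb.2 with h | h
  · exact hw.1 h
  · exact hw.2.1 h

theorem cj_mem_D1 {g a b : K} (e : cj g a = z) (h : S.Adj a b) : cj g b ∈ S.D1 := by
  have h' := (S.adj_cj_iff g).2 h
  rw [e] at h'
  exact S.adj_z_iff.1 h'

/-- Two members adjacent to `x`, seen from `x`. -/
theorem transport {x u : K} (hx : x ∈ S.D1) (hu : S.Adj x u) :
    ∃ h : K, cj h x = z ∧ cj h z ∈ S.D1 ∧ cj h u ∈ S.D1 := by
  obtain ⟨g, hg⟩ := S.D1_conj hx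
  have e : cj g⁻¹ x = z := by rw [← hg, cj_inv_cj']
  refine ⟨g⁻¹, e, ?_, ?_⟩
  · exact S.cj_mem_D1 e (S.adj_symm (S.adj_z_iff.2 hx))
  · exact S.cj_mem_D1 e hu

theorem far_local {x w : K} (hw : w ∈ S.D2) {h : K} (hz : cj h z ∈ S.D1) (hwh : cj h w ∈ S.D1) :
    ¬ Ort (S.pt (cj h z)) (S.pt (cj h w)) := by
  intro ho
  refine hw.2.1 (S.adj_z_iff.1 ((S.adj_cj_iff h).1 ?_))
  exact (S.adj_iff hz hwh).2 ⟨fun e => hw.1 (cj_injective h e).symm, ho⟩

theorem card_mu_nb {x w : K} (hw : w ∈ S.D2) (hx : x ∈ S.mu w) :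
    {u | u ∈ S.mu w ∧ S.Adj x u}.ncard = 12 := by
  classical
  obtain ⟨h, e, hz, hwh⟩ := S.transport hx.1 hx.2
  have hno := S.far_local (x := x) hw hz hwh
  let P : Finset (Fin 45) := (Finset.univ : Finset (Fin 45)).filter
    fun r => Ort (S.pt (cj h z)) r ∧ Ort (S.pt (cj h w)) r
  have he : cj h '' {u | u ∈ S.mu w ∧ S.Adj x u} = {v | v ∈ S.D1 ∧ S.pt v ∈ P} := by
    ext v
    simp only [P, Finset.mem_filter, Finset.mem_univ, true_and]
    constructor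
    · rintro ⟨u, ⟨⟨hu1, hu2⟩, hxu⟩, rfl⟩
      have hv : cj h u ∈ S.D1 := S.cj_mem_D1 e hxu
      exact ⟨hv, ((S.adj_iff hz hv).1 ((S.adj_cj_iff h).2 (S.adj_z_iff.2 hu1))).2,
        ((S.adj_iff hwh hv).1 ((S.adj_cj_iff h).2 (S.adj_symm hu2))).2⟩
    · rintro ⟨hv, o1, o2⟩
      refine ⟨cj h⁻¹ v, ⟨⟨?_, ?_⟩, ?_⟩, cj_cj_inv' h v⟩
      · rw [← S.adj_z_iff, ← S.adj_cj_iff h, cj_cj_inv']
        exact (S.adj_iff hz hv).2 ⟨fun e' => hno (by rw [← e'] at o2; exact ort_symm o2), o1⟩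
      · rw [← S.adj_cj_iff h, cj_cj_inv']
        exact S.adj_symm ((S.adj_iff hwh hv).2 ⟨fun e' => hno (by rw [← e'] at o1; exact o1), o2⟩)
      · rw [← S.adj_cj_iff h, cj_cj_inv', e]
        exact S.adj_z_iff.2 hv
  rw [← Set.ncard_image_of_injective _ (cj_injective h), he, S.card_over, _root_.Cfsg.Agent.H49.USix.card_common hno]

theorem pt_mu_nb {x w : K} (hw : w ∈ S.D2) (hx : x ∈ S.mu w) (j : Fin 45) (hj : Ort (S.pt x) j)
    (hne : j ≠ S.pt x) : ∃ u ∈ S.mu w, S.pt u = j := by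
  classical
  let T := {u | u ∈ S.mu w ∧ S.Adj x u}
  have hinj : Set.InjOn S.pt T := fun a ha b hb e => S.pt_injOn hw ha.1 hb.1 e
  have hsub : S.pt '' T ⊆
      (((Finset.univ : Finset (Fin 45)).filter fun r => Ort (S.pt x) r ∧ r ≠ S.pt x : Finset (Fin 45)) :
        Set (Fin 45)) := by
    rintro _ ⟨u, ⟨hu, hxu⟩, rfl⟩
    simp only [Finset.coe_filter, Finset.mem_univ, true_and, Set.mem_setOf_eq]
    exact ⟨((S.adj_iff hx.1 hu.1).1 hxu).2,
      fun e => S.adj_ne hxu (S.pt_injOn hw hx hu e.symm)⟩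
  have heq := Set.eq_of_subset_of_ncard_le hsub (by
    rw [hinj.ncard_image, S.card_mu_nb hw hx, Set.ncard_coe_finset, card_nb]) (Finset.finite_toSet _)
  obtain ⟨u, hu, e⟩ : j ∈ S.pt '' T := by
    rw [heq]
    simp only [Finset.coe_filter, Finset.mem_univ, true_and, Set.mem_setOf_eq]
    exact ⟨hj, hne⟩
  exact ⟨u, hu.1, e⟩

theorem pt_mu {w : K} (hw : w ∈ S.D2) (j : Fin 45) : ∃ u ∈ S.mu w, S.pt u = j := by
  obtain ⟨x, hx, hxw⟩ := hw.2.2
  by_cases h : Ort (S.pt x) j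
  · by_cases hne : j = S.pt x
    · exact ⟨x, ⟨hx, hxw⟩, hne.symm⟩
    · exact S.pt_mu_nb hw ⟨hx, hxw⟩ j h hne
  · obtain ⟨r, r1, r2⟩ := exists_common h
    obtain ⟨u, hu, eu⟩ := S.pt_mu_nb hw ⟨hx, hxw⟩ r r1
      (fun e => h (ort_symm (by rw [e] at r2; exact r2)))
    obtain ⟨v, hv, ev⟩ := S.pt_mu_nb hw hu j (by rw [eu]; exact ort_symm r2)
      (fun e => h (by rw [e, eu]; exact r1))
    exact ⟨v, hv, ev⟩

theorem card_mu {w : K} (hw : w ∈ S.D2) : (S.mu w).ncard = 45 := by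
  have e : S.pt '' S.mu w = Set.univ := Set.eq_univ_iff_forall.2 fun j => by
    obtain ⟨u, hu, e⟩ := S.pt_mu hw j
    exact ⟨u, hu, e⟩
  rw [← (S.pt_injOn hw).ncard_image, e, Set.ncard_univ, Nat.card_eq_fintype_card, Fintype.card_fin]

/-- The three layers. -/
def Dc : Set K := insert z (S.D1 ∪ S.D2)

theorem mem_Dc_of_adj_D1 {x u : K} (hx : x ∈ S.D1) (h : S.Adj x u) : u ∈ S.Dc := by
  by_cases e : u = z
  · exact Or.inl e
  · by_cases e1 : u ∈ S.D1
    · exact Or.inr (Or.inl e1)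
    · exact Or.inr (Or.inr ⟨e, e1, x, hx, h⟩)

theorem Dc_closed {d u : K} (hd : d ∈ S.Dc) (h : S.Adj d u) : u ∈ S.Dc := by
  rcases hd with rfl | hd | hd
  · exact Or.inr (Or.inl (S.adj_z_iff.1 h))
  · exact S.mem_Dc_of_adj_D1 hd h
  · obtain ⟨x, hx, hxd⟩ := hd.2.2
    obtain ⟨g, hg⟩ := S.adj_conj_left h
    have hu : cj g⁻¹ u ∈ S.D1 := by
      rw [← S.adj_z_iff]
      have h' := (S.adj_cj_iff g⁻¹).2 h
      rwa [← hg, cj_inv_cj'] at h'
    have hgd : cj g⁻¹ d = z := by rw [← hg, cj_inv_cj']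
    have hx' : cj g⁻¹ x ∈ S.D1 := S.cj_mem_D1 hgd (S.adj_symm hxd)
    have hz' : cj g⁻¹ z ∈ S.D2 := by
      refine ⟨fun e => ?_, fun e => ?_, cj g⁻¹ x, hx', (S.adj_cj_iff g⁻¹).2
        (S.adj_symm (S.adj_z_iff.2 hx))⟩
      · exact hd.1 (cj_injective g⁻¹ (hgd.trans e.symm))
      · have e' := (S.adj_cj_iff g).2 (S.adj_z_iff.2 e)
        rw [cj_cj_inv', hg] at e'
        exact hd.2.1 (S.adj_z_iff.1 (S.adj_symm e'))
    obtain ⟨v, hv, ev⟩ := S.pt_mu hz' (S.pt (cj g⁻¹ u))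
    have hzv : cj g v ∈ S.D1 := by
      rw [← S.adj_z_iff]
      exact S.adj_symm (by
        have h' := (S.adj_cj_iff g).2 hv.2
        rwa [cj_cj_inv'] at h')
    by_cases e : cj g⁻¹ u = v
    · rw [← cj_cj_inv' g u, e]
      exact Or.inr (Or.inl hzv)
    · refine S.mem_Dc_of_adj_D1 hzv ?_
      rw [← cj_cj_inv' g u]
      exact (S.adj_cj_iff g).2 ((S.adj_iff hv.1 hu).2 ⟨Ne.symm e, by rw [ev]; exact ort_refl _⟩)

/-- Reachability. -/
def Reach (a b : K) : Prop := Relation.ReflTransGen S.Adj a b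

theorem reach_symm {a b : K} (h : S.Reach a b) : S.Reach b a := by
  induction h with
  | refl => exact Relation.ReflTransGen.refl
  | tail _ h2 ih => exact Relation.ReflTransGen.head (S.adj_symm h2) ih

theorem reach_cj (g : K) {a b : K} (h : S.Reach a b) : S.Reach (cj g a) (cj g b) := by
  induction h with
  | refl => exact Relation.ReflTransGen.refl
  | tail _ h2 ih => exact Relation.ReflTransGen.tail ih (S.adj_cj g h2)

theorem mem_Dc_iff {w : K} : w ∈ S.Dc ↔ S.Reach z w := by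
  constructor
  · rintro (rfl | h | h)
    · exact Relation.ReflTransGen.refl
    · exact Relation.ReflTransGen.single (S.adj_z_iff.2 h)
    · obtain ⟨x, hx, hxw⟩ := h.2.2
      exact (Relation.ReflTransGen.single (S.adj_z_iff.2 hx)).tail hxw
  · intro h
    induction h with
    | refl => exact Or.inl rfl
    | tail _ h2 ih => exact S.Dc_closed ih h2

theorem z_mem_Dc : z ∈ S.Dc := Or.inl rfl

theorem Dc_of_D1 {x : K} (hx : x ∈ S.D1) : x ∈ S.Dc := Or.inr (Or.inl hx)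

/-- The stabiliser of the component. -/
def Mst : Subgroup K where
  carrier := {g | cj g z ∈ S.Dc}
  one_mem' := by rw [Set.mem_setOf_eq, cj_one']; exact S.z_mem_Dc
  mul_mem' := by
    intro a b ha hb
    rw [Set.mem_setOf_eq, ← cj_cj, S.mem_Dc_iff]
    exact (S.mem_Dc_iff.1 ha).trans (S.reach_cj a (S.mem_Dc_iff.1 hb))
  inv_mem' := by
    intro a ha
    rw [Set.mem_setOf_eq, S.mem_Dc_iff]
    have h := S.reach_cj a⁻¹ (S.mem_Dc_iff.1 ha)
    rw [cj_inv_cj'] at h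
    exact S.reach_symm h

theorem mem_Mst {g : K} : g ∈ S.Mst ↔ cj g z ∈ S.Dc := Iff.rfl

theorem Mst_of_comm {c : K} (hc : c * z = z * c) : c ∈ S.Mst := by
  rw [S.mem_Mst, S.cj_z hc]; exact S.z_mem_Dc

theorem Dc_cj {g d : K} (hg : g ∈ S.Mst) (hd : d ∈ S.Dc) : cj g d ∈ S.Dc :=
  S.mem_Dc_iff.2 ((S.mem_Dc_iff.1 hg).trans (S.reach_cj g (S.mem_Dc_iff.1 hd)))

theorem Dc_conj {d : K} (hd : d ∈ S.Dc) : ∃ g ∈ S.Mst, cj g z = d := by
  rcases hd with h | h | h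
  · exact ⟨1, one_mem _, (cj_one' z).trans h.symm⟩
  · obtain ⟨g, hg⟩ := S.D1_conj h
    exact ⟨g, S.mem_Mst.2 (hg ▸ S.Dc_of_D1 h), hg⟩
  · obtain ⟨x, hx, hxd⟩ := h.2.2
    obtain ⟨g, hg⟩ := S.adj_conj_left (S.adj_symm hxd)
    exact ⟨g, S.mem_Mst.2 (hg ▸ Or.inr (Or.inr h)), hg⟩

theorem card_adj_D1 {x : K} (hx : x ∈ S.D1) : {u | S.Adj x u}.ncard = 180 := by
  obtain ⟨g, hg⟩ := S.D1_conj hx
  have e : {u | S.Adj x u} = cj g '' S.D1 := by
    ext u
    constructor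
    · intro hu
      refine ⟨cj g⁻¹ u, ?_, cj_cj_inv' g u⟩
      rw [← S.adj_z_iff, ← S.adj_cj_iff g, hg, cj_cj_inv']
      exact hu
    · rintro ⟨v, hv, rfl⟩
      have h' := (S.adj_cj_iff g).2 (S.adj_z_iff.2 hv)
      rwa [hg] at h' 
  rw [e, Set.ncard_image_of_injective _ (cj_injective g), S.card_D1]

theorem card_adj_D2 {x : K} (hx : x ∈ S.D1) : ({u | S.Adj x u} ∩ S.D2).ncard = 128 := by
  classical
  have e : {u | S.Adj x u} ∩ S.D2 = {u | S.Adj x u} \ (insert z (S.common z x)) := by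
    ext u
    simp only [Set.mem_inter_iff, Set.mem_setOf_eq, Set.mem_sdiff, Set.mem_insert_iff, not_or, common]
    constructor
    · rintro ⟨h, h1, h2, -⟩
      exact ⟨h, h1, fun h' => h2 (S.adj_z_iff.1 h'.1)⟩
    · rintro ⟨h, h1, h2⟩
      exact ⟨h, h1, fun h' => h2 ⟨S.adj_z_iff.2 h', h⟩, x, hx, h⟩
  rw [e, Set.ncard_sdiff (by
    rintro u (rfl | ⟨-, h⟩)
    · exact S.adj_symm (S.adj_z_iff.2 hx)
    · exact h) (Set.toFinite _), S.card_adj_D1 hx,
    Set.ncard_insert_of_notMem (fun h => S.adj_ne h.1 rfl) (Set.toFinite _), S.card_common_z hx]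

theorem card_D2 : S.D2.ncard = 512 := by
  classical
  haveI := Fintype.ofFinite K
  have h := Finset.card_mul_eq_card_mul (r := fun x u : K => S.Adj x u) (s := S.D1.toFinset)
    (t := S.D2.toFinset) (m := 128) (n := 45) (fun x hx => by
      rw [← S.card_adj_D2 (Set.mem_toFinset.1 hx), Set.ncard_eq_toFinset_card']
      congr 1
      ext u
      simp [Finset.bipartiteAbove, and_comm]) (fun w hw => by
      rw [← S.card_mu (Set.mem_toFinset.1 hw), Set.ncard_eq_toFinset_card']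
      congr 1
      ext u
      rw [Finset.bipartiteBelow, Finset.mem_filter]
      exact (and_congr_left' (Set.mem_toFinset (s := S.D1))).trans (Set.mem_toFinset (s := S.mu w)).symm)
  rw [← Set.ncard_eq_toFinset_card', ← Set.ncard_eq_toFinset_card', S.card_D1] at h
  omega

theorem card_Dc : S.Dc.ncard = 693 := by
  rw [Dc, Set.ncard_insert_of_notMem ?_ (Set.toFinite _), Set.ncard_union_eq ?_ (Set.toFinite _)
    (Set.toFinite _), S.card_D1, S.card_D2]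
  · rw [Set.disjoint_left]
    exact fun u h h' => h'.2.1 h
  · rintro (h | h)
    · exact S.D1_ne_z h rfl
    · exact h.1 rfl

theorem z_far {w : K} (hw : w ∈ S.D2) : (z * w) ^ 3 = 1 ∧ ¬ Commute z w := by
  obtain ⟨x, hx, hxw⟩ := hw.2.2
  obtain ⟨h, -, hz, hwh⟩ := S.transport hx hxw
  obtain ⟨c3, c0⟩ := S.cube_of_not_ort hz hwh (S.far_local (x := x) hw hz hwh)
  refine ⟨?_, fun hc => c0 (commute_cj_iff.2 hc)⟩
  rw [← cj_mul', cj, conj_pow] at c3
  exact mul_eq_left.1 (mul_inv_eq_one.1 c3)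

theorem z_trichotomy {w : K} (hw : w ∈ S.Dc) :
    w = z ∨ (S.Adj z w ∧ Commute z w) ∨ ((z * w) ^ 3 = 1 ∧ ¬ Commute z w) := by
  rcases hw with e | h | h
  · exact Or.inl e
  · exact Or.inr (Or.inl ⟨S.adj_z_iff.2 h, S.adj_commute (S.adj_z_iff.2 h)⟩)
  · exact Or.inr (Or.inr (S.z_far h))

theorem trichotomy {a b : K} (ha : a ∈ S.Dc) (hb : b ∈ S.Dc) :
    b = a ∨ (S.Adj a b ∧ Commute a b) ∨ ((a * b) ^ 3 = 1 ∧ ¬ Commute a b) := by
  obtain ⟨g, hg, rfl⟩ := S.Dc_conj ha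
  have hb' := S.Dc_cj (inv_mem hg) hb
  have eb : cj g (cj g⁻¹ b) = b := cj_cj_inv' g b
  rcases S.z_trichotomy hb' with e | ⟨e1, e2⟩ | ⟨e1, e2⟩
  · exact Or.inl (by rw [← eb, e])
  · refine Or.inr (Or.inl ⟨?_, ?_⟩) <;> rw [← eb]
    · exact S.adj_cj g e1
    · exact commute_cj_iff.2 e2
  · refine Or.inr (Or.inr ⟨?_, fun hc => e2 ?_⟩)
    · rw [← eb, ← cj_mul', cj, conj_pow, e1, mul_one, mul_inv_cancel]
    · rw [← eb] at hc
      exact commute_cj_iff.1 hc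

theorem adj_iff_commute {a b : K} (ha : a ∈ S.Dc) (hb : b ∈ S.Dc) (hne : b ≠ a) :
    S.Adj a b ↔ Commute a b := by
  rcases S.trichotomy ha hb with h | ⟨h1, h2⟩ | ⟨-, h2⟩
  · exact absurd h hne
  · exact iff_of_true h1 h2
  · exact iff_of_false (fun h => h2 (S.adj_commute h)) h2

theorem card_Mst : Nat.card ↥S.Mst = 693 * 13271040 := by
  classical
  choose σ hσ hσz using fun d : ↥S.Dc => S.Dc_conj d.2
  let f : ↥S.Dc × ↥(Subgroup.centralizer ({z} : Set K)) → ↥S.Mst := fun p =>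
    ⟨σ p.1 * p.2.1, mul_mem (hσ p.1) (S.Mst_of_comm (Subgroup.mem_centralizer_singleton_iff.1 p.2.2))⟩
  have hcz : ∀ p : ↥S.Dc × ↥(Subgroup.centralizer ({z} : Set K)), cj (f p).1 z = p.1.1 := fun p => by
    show cj (σ p.1 * p.2.1) z = _
    rw [← cj_cj, S.cj_z (Subgroup.mem_centralizer_singleton_iff.1 p.2.2), hσz]
  have hf : Function.Bijective f := by
    constructor
    · intro p q e
      have h1 : p.1 = q.1 := Subtype.ext (by rw [← hcz p, ← hcz q, e])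
      refine Prod.ext h1 (Subtype.ext ?_)
      have e' : σ p.1 * p.2.1 = σ q.1 * q.2.1 := congrArg Subtype.val e
      rw [h1] at e'
      exact mul_left_cancel e'
    · intro g
      let d : ↥S.Dc := ⟨cj g.1 z, S.mem_Mst.1 g.2⟩
      refine ⟨(d, ⟨(σ d)⁻¹ * g.1, Subgroup.mem_centralizer_singleton_iff.2 (cj_fix_iff.1 ?_)⟩),
        Subtype.ext (mul_inv_cancel_left _ _)⟩
      rw [← cj_cj, show cj g.1 z = d.1 from rfl, ← hσz d, cj_inv_cj']
  rw [← Nat.card_congr (Equiv.ofBijective f hf), Nat.card_prod, Nat.card_coe_set_eq, S.card_Dc,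
    S.card_C]

end Seed

end Cfsg.Agent.H49.USix
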