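import Cfsg.Agent.H49.USix.Lines

/-!
An elementary abelian group of sixteen isometries is the group of the transvections of a line.
-/

set_option autoImplicit false
set_option maxRecDepth 20000

namespace Cfsg.Agent.H49.USix

open Cfsg Cfsg.Agent.Compute Cfsg.Agent.Unitary Cfsg.Agent.H41.SUSix Matrix

/-- Membership of the base line, coded. -/
noncomputable def inL (k : ℕ) : Bool := adjC 1 k && adjC 15 k

/-- The coded action of an involution. -/
noncomputable def appC (i j k : ℕ) : ℕ := cond (Nat.beq i j) (mvC i k) (mvC i (mvC j k))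

/-- Stabilising the base line. -/
noncomputable def stabC (i j : ℕ) : Bool :=
  adjC i j && allN 45 (fun k => !inL k || inL (appC i j k))

/-- Fixing the base line pointwise. -/
noncomputable def fixC (i j : ℕ) : Bool := allN 45 (fun k => !inL k || Nat.beq (appC i j k) k)

/-- Coded commutation, tested at two points. -/
noncomputable def comC (i j a b : ℕ) : Bool :=
  Nat.beq (appC i j (appC a b 0)) (appC a b (appC i j 0)) &&
    Nat.beq (appC i j (appC a b 3)) (appC a b (appC i j 3))

/-- The points of the base line. -/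
noncomputable def lptC (m : ℕ) : ℕ := getP 6 (packP 6 (fun m => [1, 15, 17, 21, 22].getD m 0) 5) m

/-- The code of an unordered pair of points of the base line. -/
noncomputable def pairC (t : ℕ) (i j : ℕ) : Bool :=
  Nat.ble (Nat.div t 5) (Nat.mod t 5) &&
    comC i j (lptC (Nat.div t 5)) (lptC (Nat.mod t 5))

/-- The outer involutions stabilising the base line. -/
noncomputable def outC (i j : ℕ) : Bool := stabC i j && !fixC i j

theorem fix_ok : allN 45 (fun i => allN 45 (fun j => !stabC i j ||
    cond (fixC i j) (inL i && inL j)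
      (Nat.beq (cntN 45 (fun k => inL k && Nat.beq (appC i j k) k)) 1))) = true := by
  decide +kernel

theorem cnt_ok : allN 45 (fun i => allN 45 (fun j => !outC i j ||
    Nat.ble (cntN 25 (fun t => pairC t i j)) 3)) = true := by
  decide +kernel

theorem two_ok : allN 45 (fun i => allN 45 (fun j => !outC i j ||
    allN 45 (fun a => allN 45 (fun b => !outC a b || !comC i j a b ||
      allN 45 (fun k => !inL k || Nat.beq (appC i j k) (appC a b k)) ||
      Nat.ble (cntN 25 (fun t => pairC t i j && pairC t a b)) 1)))) = true := by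
  decide +kernel

theorem agree_ok : allN 45 (fun i => allN 45 (fun j => !outC i j ||
    allN 45 (fun a => allN 45 (fun b => !outC a b ||
      allN 45 (fun k => !inL k || Nat.beq (appC i j k) k || !Nat.beq (appC i j k) (appC a b k) ||
        anyN 45 (fun f => inL f && Nat.beq (appC i j f) f && !Nat.beq (appC a b f) f) ||
        allN 45 (fun m => !inL m || Nat.beq (appC i j m) (appC a b m))))))) = true := by
  decide +kernel

theorem lpt_ok : allN 45 (fun k => !inL k || anyN 5 (fun m => Nat.beq (lptC m) k)) = true := by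
  decide +kernel

theorem lpt_lt : allN 5 (fun m => inL (lptC m) && Nat.blt (lptC m) 45) = true := by
  decide +kernel

theorem inL_iff {k : Fin 45} : inL k = true ↔ k ∈ line i₀ j₀ := by
  rw [mem_line, inL, Bool.and_eq_true]
  rfl

/-- The involution of an unordered pair. -/
noncomputable def invP (i j : Fin 45) : Equiv.Perm W4 := if i = j then tp i else tp i * tp j

theorem invP_iso (i j : Fin 45) : Iso (invP i j) := by
  unfold invP
  split_ifs
  · exact tp_iso i
  · exact (tp_iso i).mul (tp_iso j)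

theorem act_invP (i j k : Fin 45) : ((act (invP i j) k : Fin 45) : ℕ) = appC i j k := by
  unfold invP appC
  split_ifs with h
  · subst h
    rw [act_tp, Nat.beq_refl]
    rfl
  · rw [act_mul (tp_iso i) (tp_iso j), act_tp, act_tp,
      show Nat.beq i j = false by rw [← Bool.not_eq_true, Nat.beq_eq]; exact fun e => h (Fin.ext e)]
    rfl

theorem exists_invP {g : Equiv.Perm W4} (hg : Iso g) (h2 : g * g = 1) (h1 : g ≠ 1) :
    ∃ i j, Ort i j ∧ g = invP i j := by
  rcases invol_cases hg h2 with e | ⟨i, e⟩ | ⟨i, j, hij, hne, e⟩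
  · exact absurd e h1
  · exact ⟨i, i, ort_refl i, by rw [invP, if_pos rfl, e]⟩
  · exact ⟨i, j, hij, by rw [invP, if_neg hne, e]⟩

theorem invP_comm {i j : Fin 45} (h : Ort i j) : invP i j = invP j i := by
  unfold invP
  by_cases e : i = j
  · subst e; rfl
  · rw [if_neg e, if_neg (Ne.symm e), (tp_commute_iff.2 h).eq]

theorem comC_of_commute {i j a b : Fin 45} (h : Commute (invP i j) (invP a b)) :
    comC i j a b = true := by
  have t : ∀ k : Fin 45, appC i j (appC a b k) = appC a b (appC i j k) := fun k => by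
    rw [← act_invP a b k, ← act_invP, ← act_invP i j k, ← act_invP,
      ← act_mul (invP_iso i j) (invP_iso a b), h.eq, act_mul (invP_iso a b) (invP_iso i j)]
  simp only [comC, Bool.and_eq_true, Nat.beq_eq]
  exact ⟨t 0, t 3⟩

section Core

variable {E : Subgroup (Equiv.Perm W4)} (hiso : ∀ e ∈ E, Iso e) (h2 : ∀ e ∈ E, e * e = 1)
  (hc : ∀ a ∈ E, ∀ b ∈ E, a * b = b * a)
  (hstab : ∀ e ∈ E, ∀ k ∈ line i₀ j₀, act e k ∈ line i₀ j₀)
include hiso h2 hstab

theorem stab_of_mem {i j : Fin 45} (hij : Ort i j) (he : invP i j ∈ E) : stabC i j = true := by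
  simp only [stabC, Bool.and_eq_true, allN_iff, Bool.or_eq_true, Bool.not_eq_true']
  refine ⟨hij, fun k hk => ?_⟩
  cases hkk : inL k
  · exact Or.inl rfl
  · have h := hstab _ he _ ((inL_iff (k := ⟨k, hk⟩)).1 hkk)
    rw [← inL_iff, act_invP] at h
    exact Or.inr h

include hc in
/-- The base case. -/
theorem elem16_core (h16 : 16 ≤ Nat.card E) : ∀ k ∈ line i₀ j₀, tp k ∈ E := by
  classical
  let L : Finset (Fin 45) := line i₀ j₀
  let Φ : ↥E →* Equiv.Perm ↥L :=
    { toFun := fun e => Equiv.ofBijective (fun k => ⟨act e.1 k.1, hstab e.1 e.2 k.1 k.2⟩)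
        (Finite.injective_iff_bijective.1 fun a b h =>
          Subtype.ext (act_inj (hiso e.1 e.2) (congrArg Subtype.val h)))
      map_one' := Equiv.ext fun k => Subtype.ext (act_one k.1)
      map_mul' := fun e f => Equiv.ext fun k => Subtype.ext
        (act_mul (hiso e.1 e.2) (hiso f.1 f.2) k.1) }
  have hΦ : ∀ (e : ↥E) (k : ↥L), ((Φ e k : ↥L) : Fin 45) = act e.1 k.1 := fun e k => rfl
  -- every member other than one is the involution of an unordered pair
  have hrep : ∀ e ∈ E, e ≠ 1 → ∃ i j, Ort i j ∧ stabC i j = true ∧ e = invP i j := fun e he h1 => by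
    obtain ⟨i, j, hij, rfl⟩ := exists_invP (hiso e he) (h2 e he) h1
    exact ⟨i, j, hij, stab_of_mem hiso h2 hstab hij he, rfl⟩
  -- the pairs of points of the line
  let lp : Fin 5 → Fin 45 := fun m => ⟨lptC m, by
    have h := (allN_iff _ _).1 lpt_lt m m.2
    simp only [Bool.and_eq_true, Nat.blt_eq] at h
    exact h.2⟩
  have hlp : ∀ k ∈ L, ∃ m, lp m = k := fun k hk => by
    have h := (allN_iff _ _).1 lpt_ok k k.2
    rw [inL_iff.2 hk] at h
    simp only [Bool.not_true, Bool.false_or, anyN_iff, Nat.beq_eq] at h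
    obtain ⟨m, hm, e⟩ := h
    exact ⟨⟨m, hm⟩, Fin.ext e⟩
  let code : Fin 25 → Equiv.Perm W4 := fun t =>
    invP (lp ⟨t / 5, Nat.div_lt_of_lt_mul (by omega)⟩) (lp ⟨t % 5, Nat.mod_lt _ (by norm_num)⟩)
  have hker : ∀ e : ↥E, Φ e = 1 → e.1 ≠ 1 →
      ∃ t : Fin 25, (t : ℕ) / 5 ≤ t % 5 ∧ e.1 = code t := by
    intro e he h1
    obtain ⟨i, j, hij, hs, hij'⟩ := hrep e.1 e.2 h1
    have hfix : fixC i j = true := by
      simp only [fixC, allN_iff, Bool.or_eq_true, Bool.not_eq_true', Nat.beq_eq]
      intro k hk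
      cases hkk : inL k
      · exact Or.inl rfl
      · refine Or.inr ?_
        have hkL : (⟨k, hk⟩ : Fin 45) ∈ L := (inL_iff (k := ⟨k, hk⟩)).1 hkk
        have h := congrArg (fun σ : Equiv.Perm ↥L => (((σ ⟨⟨k, hk⟩, hkL⟩ : ↥L) : Fin 45) : ℕ)) he
        simp only [hΦ, Equiv.Perm.one_apply] at h
        rw [hij', act_invP] at h
        exact h
    have h := (allN_iff _ _).1 ((allN_iff _ _).1 fix_ok i i.2) j j.2
    rw [hs, hfix] at h
    simp only [Bool.not_true, Bool.false_or, cond_true, Bool.and_eq_true] at h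
    obtain ⟨m, hm⟩ := hlp i (inL_iff.1 h.1)
    obtain ⟨n, hn⟩ := hlp j (inL_iff.1 h.2)
    have hd : ∀ m n : Fin 5, (5 * (m : ℕ) + n) / 5 = m ∧ (5 * (m : ℕ) + n) % 5 = n := fun m n => by
      omega
    rcases le_total (m : ℕ) n with hle | hle
    · refine ⟨⟨5 * m + n, by omega⟩, by simp only [hd]; exact hle, ?_⟩
      simp only [code, hd, Fin.eta]
      rw [hij', hm, hn]
    · refine ⟨⟨5 * n + m, by omega⟩, by simp only [hd]; exact hle, ?_⟩
      simp only [code, hd, Fin.eta]
      rw [hij', hm, hn, invP_comm hij]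
  have hcardE : Nat.card ↥E = Nat.card Φ.ker * Nat.card Φ.range := by
    rw [← Subgroup.card_mul_index Φ.ker, Subgroup.index_ker]
  by_cases hall : ∀ e : ↥E, Φ e = 1
  · -- all fix the line pointwise
    let S : Finset (Equiv.Perm W4) :=
      insert 1 (((Finset.univ : Finset (Fin 25)).filter fun t : Fin 25 => t.val / 5 ≤ t.val % 5).image code)
    haveI : Fintype ↥E := Fintype.ofFinite _
    let EF : Finset (Equiv.Perm W4) := (Finset.univ : Finset ↥E).image Subtype.val
    have hsub : EF ⊆ S := by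
      intro e he
      obtain ⟨f, -, rfl⟩ := Finset.mem_image.1 he
      by_cases h1 : f.1 = 1
      · exact Finset.mem_insert.2 (Or.inl h1)
      · obtain ⟨t, ht, e'⟩ := hker f (hall f) h1
        exact Finset.mem_insert.2 (Or.inr (Finset.mem_image.2
          ⟨t, Finset.mem_filter.2 ⟨Finset.mem_univ _, ht⟩, e'.symm⟩))
    have hEF : EF.card = Nat.card ↥E := by
      rw [Finset.card_image_of_injective _ Subtype.val_injective, Finset.card_univ,
        Nat.card_eq_fintype_card]
    have h15 : (((Finset.univ : Finset (Fin 25)).filter fun t : Fin 25 => t.val / 5 ≤ t.val % 5)).card = 15 := by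
      decide
    have hSle : S.card ≤ EF.card := by
      refine le_trans ((Finset.card_insert_le _ _).trans (Nat.succ_le_succ Finset.card_image_le)) ?_
      rw [h15, hEF]
      exact h16
    have heq := Finset.eq_of_subset_of_card_le hsub hSle
    intro k hk
    obtain ⟨m, rfl⟩ := hlp k hk
    have : tp (lp m) ∈ EF := by
      rw [heq]
      refine Finset.mem_insert.2 (Or.inr (Finset.mem_image.2 ⟨⟨5 * m + m, by omega⟩,
        Finset.mem_filter.2 ⟨Finset.mem_univ _, by simp only; omega⟩, ?_⟩))
      have e1 : (5 * (m : ℕ) + m) / 5 = m := by omega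
      have e2 : (5 * (m : ℕ) + m) % 5 = m := by omega
      simp only [code, e1, e2, Fin.eta, invP]
      exact if_pos trivial
    obtain ⟨f, -, hf⟩ := Finset.mem_image.1 this
    rw [← hf]
    exact f.2
  -- otherwise the group is too small
  exfalso
  push Not at hall
  obtain ⟨e₀, he₀⟩ := hall
  obtain ⟨i, j, hij, hs, hij'⟩ := hrep e₀.1 e₀.2 fun h => he₀ (by
    rw [show e₀ = 1 from Subtype.ext h, map_one])
  have fixC_iff : ∀ (e : ↥E) (a b : Fin 45), e.1 = invP a b → fixC a b = true → Φ e = 1 := by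
    intro e a b hab hf
    simp only [fixC, allN_iff, Bool.or_eq_true, Bool.not_eq_true', Nat.beq_eq] at hf
    refine Equiv.ext fun k => Subtype.ext (Fin.ext ?_)
    rw [hΦ, hab, act_invP, Equiv.Perm.one_apply]
    exact (hf k.1 k.1.2).resolve_left (by rw [inL_iff.2 k.2]; simp)
  have hout : outC i j = true := by
    simp only [outC, hs, Bool.true_and, Bool.not_eq_true']
    cases hf : fixC i j
    · rfl
    · exact absurd (fixC_iff e₀ i j hij' hf) he₀
  haveI : Fintype ↥Φ.ker := Fintype.ofFinite _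
  -- bounding the kernel
  have hbound : ∀ p : ℕ → Bool, (∀ e : ↥E, Φ e = 1 → ∀ t : Fin 25, (t : ℕ) / 5 ≤ t % 5 →
      e.1 = code t → p t = true) → Nat.card Φ.ker ≤ cntN 25 p + 1 := by
    intro p hp
    let g : ↥Φ.ker → Option (Fin 25) := fun e =>
      if h : e.1.1 = 1 then none else some (hker e.1 (MonoidHom.mem_ker.1 e.2) h).choose
    have hginj : Function.Injective g := by
      intro a b hab
      simp only [g] at hab
      split_ifs at hab with ha hb hb
      · exact Subtype.ext (Subtype.ext (ha.trans hb.symm))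
      · exact Subtype.ext (Subtype.ext ((hker a.1 (MonoidHom.mem_ker.1 a.2) ha).choose_spec.2.trans
          ((congrArg code (Option.some.inj hab)).trans
            (hker b.1 (MonoidHom.mem_ker.1 b.2) hb).choose_spec.2.symm)))
    have hmem : ∀ e, g e ∈ Finset.insertNone
        ((Finset.univ : Finset (Fin 25)).filter fun t : Fin 25 => p t.val = true) := by
      intro e
      simp only [g]
      split_ifs with h
      · simp
      · rw [Finset.some_mem_insertNone, Finset.mem_filter]
        exact ⟨Finset.mem_univ _, hp e.1 (MonoidHom.mem_ker.1 e.2) _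
          (hker e.1 (MonoidHom.mem_ker.1 e.2) h).choose_spec.1
          (hker e.1 (MonoidHom.mem_ker.1 e.2) h).choose_spec.2⟩
    rw [cntN_eq, ← Finset.card_insertNone, Nat.card_eq_fintype_card, ← Finset.card_univ]
    exact Finset.card_le_card_of_injOn g (fun e _ => hmem e) hginj.injOn
  have hpair : ∀ (a b : Fin 45), invP a b ∈ E → ∀ e : ↥E, ∀ t : Fin 25, (t : ℕ) / 5 ≤ t % 5 →
      e.1 = code t → pairC t a b = true := by
    intro a b hab e t ht he
    simp only [pairC, Bool.and_eq_true]
    refine ⟨by rw [Nat.ble_eq]; exact ht, @comC_of_commute a b (lp ⟨t / 5, Nat.div_lt_of_lt_mul (by omega)⟩)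
      (lp ⟨t % 5, Nat.mod_lt _ (by norm_num)⟩) ?_⟩
    show Commute (invP a b) (code t)
    rw [← he]
    exact hc _ hab _ e.2
  have hk4 : Nat.card Φ.ker ≤ 4 := by
    have h := (allN_iff _ _).1 ((allN_iff _ _).1 cnt_ok i i.2) j j.2
    rw [hout] at h
    simp only [Bool.not_true, Bool.false_or, Nat.ble_eq] at h
    exact le_trans (hbound (fun t => pairC t i j) fun e _ t ht he =>
      hpair i j (hij' ▸ e₀.2) e t ht he) (by omega)
  -- the fixed point
  have hone : ∀ a b : Fin 45, outC a b = true →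
      ∃ f ∈ L, ∀ k ∈ L, appC a b k = k ↔ k = f := by
    intro a b hab
    simp only [outC, Bool.and_eq_true, Bool.not_eq_true'] at hab
    have h := (allN_iff _ _).1 ((allN_iff _ _).1 fix_ok a a.2) b b.2
    rw [hab.1, hab.2] at h
    simp only [Bool.not_true, Bool.false_or, cond_false, Nat.beq_eq] at h
    rw [cntN_eq, Finset.card_eq_one] at h
    obtain ⟨f, hf⟩ := h
    have hf' := Finset.ext_iff.1 hf
    simp only [Finset.mem_filter, Finset.mem_univ, true_and, Bool.and_eq_true, Nat.beq_eq,
      Finset.mem_singleton, inL_iff] at hf'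
    exact ⟨f, ((hf' f).2 rfl).1, fun k hk => ⟨fun e => (hf' k).1 ⟨hk, e⟩, fun e => ((hf' k).2 e).2⟩⟩
  obtain ⟨f, hfL, hf⟩ := hone i j hout
  have hΦf : Φ e₀ ⟨f, hfL⟩ = ⟨f, hfL⟩ := Subtype.ext (Fin.ext (by
    rw [hΦ, hij', act_invP]; exact (hf f hfL).2 rfl))
  obtain ⟨a, haL, haf⟩ := Finset.exists_mem_ne (by rw [card_line ort_base (by decide)]; norm_num :
    1 < L.card) f
  have houtOf : ∀ (e : ↥E) (c d : Fin 45), Ort c d → e.1 = invP c d → Φ e ≠ 1 → outC c d = true := by
    intro e c d hcd he hne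
    simp only [outC, stab_of_mem hiso h2 hstab hcd (he ▸ e.2), Bool.true_and, Bool.not_eq_true']
    cases hf : fixC c d
    · rfl
    · exact absurd (fixC_iff e c d he hf) hne
  -- a permutation in the image fixes the point and is determined by one other value
  have hfixf : ∀ e : ↥E, Φ e ⟨f, hfL⟩ = ⟨f, hfL⟩ := by
    intro e
    have h : Φ e₀ (Φ e ⟨f, hfL⟩) = Φ e ⟨f, hfL⟩ := by
      rw [← Equiv.Perm.mul_apply, ← map_mul,
        show e₀ * e = e * e₀ from Subtype.ext (hc _ e₀.2 _ e.2), map_mul, Equiv.Perm.mul_apply, hΦf]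
    have h' := congrArg (fun k : ↥L => ((k : Fin 45) : ℕ)) h
    simp only [hΦ] at h'
    rw [hij', act_invP] at h'
    exact Subtype.ext ((hf _ (hstab e.1 e.2 f hfL)).1 h')
  have hΦa : ∀ e : ↥E, Φ e ≠ 1 → Φ e ⟨a, haL⟩ ≠ ⟨a, haL⟩ := by
    intro e hne h
    obtain ⟨c, d, hcd, -, he⟩ := hrep e.1 e.2 fun h' => hne (by
      rw [show e = 1 from Subtype.ext h', map_one])
    obtain ⟨f', hf'L, hf'⟩ := hone c d (houtOf e c d hcd he hne)
    have t1 := congrArg (fun k : ↥L => ((k : Fin 45) : ℕ)) h
    have t2 := congrArg (fun k : ↥L => ((k : Fin 45) : ℕ)) (hfixf e)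
    simp only [hΦ] at t1 t2
    rw [he, act_invP] at t1 t2
    exact haf (((hf' a haL).1 t1).trans ((hf' f hfL).1 t2).symm)
  have hr4 : Nat.card Φ.range ≤ 4 := by
    let v : ↥Φ.range → {k : ↥L // k ≠ ⟨f, hfL⟩} := fun σ => ⟨σ.1 ⟨a, haL⟩, by
      obtain ⟨e, he⟩ := σ.2
      rw [← he]
      intro h
      exact haf (congrArg Subtype.val ((Φ e).injective (h.trans (hfixf e).symm)))⟩
    have hv : Function.Injective v := by
      rintro ⟨-, e, rfl⟩ ⟨-, g, rfl⟩ h
      have h' : Φ e ⟨a, haL⟩ = Φ g ⟨a, haL⟩ := congrArg Subtype.val h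
      apply Subtype.ext
      show Φ e = Φ g
      by_cases h1 : Φ e = 1
      · by_cases h3 : Φ g = 1
        · rw [h1, h3]
        · rw [h1, Equiv.Perm.one_apply] at h'
          exact absurd h'.symm (hΦa g h3)
      by_cases h3 : Φ g = 1
      · rw [h3, Equiv.Perm.one_apply] at h'
        exact absurd h' (hΦa e h1)
      obtain ⟨c, d, hcd, -, he⟩ := hrep e.1 e.2 fun h' => h1 (by
        rw [show e = 1 from Subtype.ext h', map_one])
      obtain ⟨c', d', hcd', -, hg⟩ := hrep g.1 g.2 fun h' => h3 (by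
        rw [show g = 1 from Subtype.ext h', map_one])
      have t := (allN_iff _ _).1 ((allN_iff _ _).1 agree_ok c c.2) d d.2
      rw [houtOf e c d hcd he h1] at t
      simp only [Bool.not_true, Bool.false_or, allN_iff] at t
      have t' := t c' c'.2 d' d'.2
      rw [houtOf g c' d' hcd' hg h3] at t'
      simp only [Bool.not_true, Bool.false_or, allN_iff] at t'
      have t'' := t' a a.2
      simp only [Bool.or_eq_true, Bool.not_eq_true', anyN_iff, Bool.and_eq_true, allN_iff,
        Nat.beq_eq] at t''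
      have ta : appC c d a = appC c' d' a := by
        have := congrArg (fun k : ↥L => ((k : Fin 45) : ℕ)) h'
        simp only [hΦ] at this
        rwa [he, hg, act_invP, act_invP] at this
      rcases t'' with (((t'' | t'') | t'') | t'') | t''
      · rw [inL_iff.2 haL] at t''; simp at t''
      · exfalso
        refine hΦa e h1 (Subtype.ext (Fin.ext ?_))
        rw [hΦ, he, act_invP]
        exact t''
      · rw [ta] at t''; simp at t''
      · exfalso
        obtain ⟨m, hm, ⟨m1, m2⟩, m3⟩ := t''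
        have hmL : (⟨m, hm⟩ : Fin 45) ∈ L := (inL_iff (k := ⟨m, hm⟩)).1 m1
        obtain ⟨f', hf'L, hf'⟩ := hone c d (houtOf e c d hcd he h1)
        have s2 := congrArg (fun k : ↥L => ((k : Fin 45) : ℕ)) (hfixf e)
        simp only [hΦ] at s2
        rw [he, act_invP] at s2
        have emf : (⟨m, hm⟩ : Fin 45) = f := ((hf' _ hmL).1 m2).trans ((hf' f hfL).1 s2).symm
        have s3 := congrArg (fun k : ↥L => ((k : Fin 45) : ℕ)) (hfixf g)
        simp only [hΦ] at s3
        rw [hg, act_invP, ← emf] at s3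
        simp only at s3
        rw [s3] at m3
        simp at m3
      · refine Equiv.ext fun k => Subtype.ext (Fin.ext ?_)
        rw [hΦ, hΦ, he, hg, act_invP, act_invP]
        exact (t'' k.1 k.1.2).resolve_left (by rw [inL_iff.2 k.2]; simp)
    refine le_trans (Nat.card_le_card_of_injective v hv) ?_
    rw [Nat.card_eq_fintype_card, Fintype.card_subtype_compl, Fintype.card_subtype_eq,
      Fintype.card_coe, card_line ort_base (by decide)]
  by_cases h2r : ∀ e : ↥E, Φ e = 1 ∨ Φ e = Φ e₀
  · have hr2 : Nat.card Φ.range ≤ 2 := by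
      let w : ↥Φ.range → Bool := fun σ => if σ.1 = 1 then false else true
      have hw : Function.Injective w := by
        rintro ⟨-, e, rfl⟩ ⟨-, g, rfl⟩ h
        apply Subtype.ext
        simp only [w] at h
        show Φ e = Φ g
        rcases h2r e with e1 | e1 <;> rcases h2r g with g1 | g1 <;>
          simp [e1, g1, he₀] at h ⊢
      exact (Nat.card_le_card_of_injective w hw).trans (by simp)
    have := Nat.mul_le_mul hk4 hr2
    omega
  · push Not at h2r
    obtain ⟨g, hg1, hg2⟩ := h2r
    obtain ⟨c, d, hcd, -, hg⟩ := hrep g.1 g.2 fun h' => hg1 (by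
      rw [show g = 1 from Subtype.ext h', map_one])
    have t := (allN_iff _ _).1 ((allN_iff _ _).1 two_ok i i.2) j j.2
    rw [hout] at t
    simp only [Bool.not_true, Bool.false_or, allN_iff] at t
    have t' := t c c.2 d d.2
    have hcom : comC i j c d = true := comC_of_commute (by
      rw [← hij', ← hg]; exact hc _ e₀.2 _ g.2)
    rw [houtOf g c d hcd hg hg1, hcom] at t'
    simp only [Bool.not_true, Bool.false_or, Bool.or_eq_true, Nat.ble_eq] at t'
    rcases t' with t' | t'
    · refine hg2 (Equiv.ext fun k => Subtype.ext (Fin.ext ?_))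
      rw [hΦ, hΦ, hg, hij', act_invP, act_invP]
      rw [allN_iff] at t'
      have := t' k.1 k.1.2
      rw [inL_iff.2 k.2] at this
      simp only [Bool.not_true, Bool.false_or, Nat.beq_eq] at this
      exact this.symm
    · have hk2 := hbound (fun s => pairC s i j && pairC s c d) fun e _ s hs he => by
        rw [Bool.and_eq_true]
        exact ⟨hpair i j (hij' ▸ e₀.2) e s hs he, hpair c d (hg ▸ g.2) e s hs he⟩
      have := Nat.mul_le_mul (le_trans hk2 (by omega : _ ≤ 2)) hr4
      omega

end Core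

/-- An elementary abelian group of at least sixteen isometries consists of the transvections of a
line and their products. -/
theorem elem16 {E : Subgroup (Equiv.Perm W4)} (hiso : ∀ e ∈ E, Iso e) (h2 : ∀ e ∈ E, e * e = 1)
    (hc : ∀ a ∈ E, ∀ b ∈ E, a * b = b * a) (h16 : 16 ≤ Nat.card E) :
    ∃ i j, Ort i j ∧ i ≠ j ∧ ∀ k ∈ line i j, tp k ∈ E := by
  obtain ⟨i, j, hij, hne, hfix⟩ := exists_fixed_line hiso h2
  obtain ⟨g, -, hg, hi, hj⟩ := pair_trans hij hne
  refine ⟨i, j, hij, hne, fun k hk => ?_⟩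
  have hline : line i₀ j₀ = (line i j).image (act g) := by rw [map_line hg, hi, hj]
  let E' := E.map (MulAut.conj g).toMonoidHom
  have hmem : ∀ x, x ∈ E' ↔ ∃ e ∈ E, g * e * g⁻¹ = x := fun x => Iff.rfl
  have key := elem16_core (E := E') ?_ ?_ ?_ ?_ ?_ (act g k)
    (by rw [hline]; exact Finset.mem_image_of_mem _ hk)
  · obtain ⟨e, he, e'⟩ := (hmem _).1 key
    rw [← conj_tp hg k] at e'
    rwa [mul_left_cancel (mul_right_cancel e')] at he
  · rintro x hx
    obtain ⟨e, he, rfl⟩ := (hmem _).1 hx
    exact (hg.mul (hiso e he)).mul hg.inv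
  · rintro x hx
    obtain ⟨e, he, rfl⟩ := (hmem _).1 hx
    calc g * e * g⁻¹ * (g * e * g⁻¹) = g * (e * e) * g⁻¹ := by group
      _ = 1 := by rw [h2 e he]; group
  · intro x hx y hy
    obtain ⟨e, he, rfl⟩ := (hmem _).1 hx
    obtain ⟨f, hf, rfl⟩ := (hmem _).1 hy
    calc g * e * g⁻¹ * (g * f * g⁻¹) = g * (e * f) * g⁻¹ := by group
      _ = g * (f * e) * g⁻¹ := by rw [hc e he f hf]
      _ = g * f * g⁻¹ * (g * e * g⁻¹) := by group
  · intro x hx m hm
    obtain ⟨e, he, rfl⟩ := (hmem _).1 hx
    rw [hline, Finset.mem_image] at hm ⊢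
    obtain ⟨m, hm, rfl⟩ := hm
    refine ⟨act e m, hfix e he m hm, ?_⟩
    rw [← act_mul hg (hiso e he), ← act_mul ((hg.mul (hiso e he)).mul hg.inv) hg,
      inv_mul_cancel_right]
  · exact h16.trans (le_of_eq (Nat.card_congr
      (E.equivMapOfInjective _ (MulAut.conj g).injective).toEquiv))

end Cfsg.Agent.H49.USix
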