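import Cfsg.Agent.H49.USix.Setup

/-!
The elements inducing transvections which are conjugate to the seed: each point carries exactly
one orbit of the core.
-/

set_option autoImplicit false
set_option linter.unusedSectionVars false
set_option maxRecDepth 20000

namespace Cfsg.Agent.H49.USix

open Cfsg Cfsg.Agent.Compute Matrix
open Cfsg.Agent.H41.SUSix (K4 ap mulC addC ω₄)
open H76.LocallyS3 (cj cj_cj cj_injective commute_cj_iff)

/-- The diagonal scalar on the residue of the base point. -/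
def diagE : W4 := ![ω₄ * ω₄, ω₄ * ω₄, ω₄, ω₄]

/-- The diagonal matrix as an element of the special unitary group. -/
theorem exists_diag : ∃ g : ↥(Cfsg.SU 4 K4 2), ∀ w k, ap g w k = diagE k * w k := by
  have hp : ∀ k, diagE k * diagE k ^ 2 = 1 := by decide +kernel
  have hd : (∏ k, diagE k) = 1 := by decide +kernel
  refine ⟨Unitary.toSU (M := Matrix.diagonal diagE) (fun u v => ?_) (by rw [Matrix.det_diagonal, hd]),
    fun w k => Matrix.mulVec_diagonal _ _ _⟩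
  simp only [hermForm, Matrix.mulVec_diagonal]
  refine Finset.sum_congr rfl fun k _ => ?_
  rw [mul_pow]
  linear_combination (u k * v k ^ 2) * hp k

/-- The two transvections moving the base line among the lines at the base point. -/
def u₂ : Fin 45 := 25

/-- The second of them. -/
def u₃ : Fin 45 := 35

theorem coset_ok : allN 45 (fun k => !adjC 1 k || Nat.beq k 1 || (adjC 1 k && adjC 15 k) ||
    (adjC 1 (mvC 25 k) && adjC 15 (mvC 25 k)) || (adjC 1 (mvC 35 k) && adjC 15 (mvC 35 k))) =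
      true := by
  decide +kernel

theorem coset (k : Fin 45) (h : Ort i₀ k) (hne : k ≠ i₀) : k ∈ line i₀ j₀ ∨
    act (tp u₂) k ∈ line i₀ j₀ ∨ act (tp u₃) k ∈ line i₀ j₀ := by
  have t := (allN_iff _ _).1 coset_ok k k.2
  simp only [Bool.or_eq_true, Bool.and_eq_true, Bool.not_eq_true', Nat.beq_eq] at t
  simp only [mem_line, act_tp]
  rcases t with (((t | t) | t) | t) | t
  · exact absurd h (by show ¬ adjC 1 k = true; simp [t])
  · exact absurd (Fin.ext t) hne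
  · exact Or.inl t
  · exact Or.inr (Or.inl t)
  · exact Or.inr (Or.inr t)

theorem diag_base : ∀ k : Fin 4, diagE k * pv i₀ k = ω₄ * ω₄ * pv i₀ k := by decide +kernel

theorem diag_j₀ : ∀ k : Fin 4, diagE k * pv j₀ k = ω₄ * pv j₀ k := by decide +kernel

theorem diag_u : ∀ k : Fin 4, diagE k * pv u₂ k = ω₄ * pv u₂ k ∧
    diagE k * pv u₃ k = ω₄ * pv u₃ k := by decide +kernel

theorem ort_u : Ort i₀ u₂ ∧ Ort i₀ u₃ := by
  show adjC 1 25 = true ∧ adjC 1 35 = true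
  decide +kernel

/-- The residue is moved by the diagonal. -/
theorem diag_residue : ∀ v : Fin 256, ∀ c : K4, hh (d4 v) (pv i₀) = 0 →
    (∀ k : Fin 4, d4 v k + diagE k * d4 v k = c * pv i₀ k) →
    ∃ a : K4, ∀ k : Fin 4, d4 v k = a * pv i₀ k := by
  decide +kernel

namespace Seed

variable {K : Type*} [Group K] [Finite K] {z : K} {Q : Subgroup K} (S : Seed z Q)

/-- The conjugates of the seed in the centraliser. -/
def D1 : Set K := {x | ∃ c : K, c * z = z * c ∧ cj c S.x₁ = x}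

include S

theorem x₁_sq : S.x₁ * S.x₁ = 1 := by
  obtain ⟨g, hg⟩ := S.x₁_conj
  rw [← hg]
  exact cj_self_sq S.z_sq

theorem x₁_mem : S.x₁ ∈ S.D1 := ⟨1, S.cz_one, cj_one' _⟩

theorem D1_cj {x c : K} (hx : x ∈ S.D1) (hc : c * z = z * c) : cj c x ∈ S.D1 := by
  obtain ⟨d, hd, rfl⟩ := hx
  exact ⟨c * d, S.cz_mul hc hd, (cj_cj c d _).symm⟩

theorem D1_comm {x : K} (hx : x ∈ S.D1) : x * z = z * x := by
  obtain ⟨d, hd, rfl⟩ := hx
  exact S.cz_cj hd S.x₁_comm

theorem D1_sq {x : K} (hx : x ∈ S.D1) : x * x = 1 := by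
  obtain ⟨d, hd, rfl⟩ := hx
  exact cj_self_sq S.x₁_sq

theorem D1_conj {x : K} (hx : x ∈ S.D1) : ∃ g : K, cj g z = x := by
  obtain ⟨d, hd, rfl⟩ := hx
  obtain ⟨g, hg⟩ := S.x₁_conj
  exact ⟨d * g, by rw [← cj_cj, hg]⟩

theorem D1_not {x : K} (hx : x ∈ S.D1) : ¬ ∃ g : K, cj g z = z * x := by
  obtain ⟨d, hd, rfl⟩ := hx
  rintro ⟨g, hg⟩
  refine S.pair_not ⟨d⁻¹ * g, ?_⟩
  rw [← cj_cj, hg, cj_mul', cj_inv_cj', S.cj_z (S.cz_inv hd)]

theorem D1_ne_z_mul {x y : K} (hx : x ∈ S.D1) (hy : y ∈ S.D1) : y ≠ z * x := fun e =>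
  S.D1_not hx (e ▸ S.D1_conj hy)

theorem exists_pt {x : K} (hx : x ∈ S.D1) : ∃ i, S.ρ x = tp i := by
  obtain ⟨d, hd, rfl⟩ := hx
  exact ⟨_, S.ρ_cj_tp hd S.x₁_comm S.ρ_x₁⟩

open Classical in
/-- The point of a member. -/
noncomputable def pt (x : K) : Fin 45 := if h : ∃ i, S.ρ x = tp i then h.choose else i₀

theorem ρ_pt {x : K} (hx : x ∈ S.D1) : S.ρ x = tp (S.pt x) := by
  have h := S.exists_pt hx
  rw [pt, dif_pos h]
  exact h.choose_spec

theorem pt_eq {x : K} (hx : x ∈ S.D1) {i : Fin 45} (h : S.ρ x = tp i) : S.pt x = i :=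
  tp_injective ((S.ρ_pt hx).symm.trans h)

theorem pt_x₁ : S.pt S.x₁ = i₀ := S.pt_eq S.x₁_mem S.ρ_x₁

theorem pt_cj {x c : K} (hx : x ∈ S.D1) (hc : c * z = z * c) :
    S.pt (cj c x) = act (S.ρ c) (S.pt x) :=
  S.pt_eq (S.D1_cj hx hc) (S.ρ_cj_tp hc (S.D1_comm hx) (S.ρ_pt hx))

theorem pt_cj_Q {x q : K} (hx : x ∈ S.D1) (hq : q ∈ Q) : S.pt (cj q x) = S.pt x := by
  rw [S.pt_cj hx (S.le q hq), S.ρ_of_Q hq, act_one]

/-- Members whose product lies over the line of their point are conjugate in the core. -/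
theorem orbit_of_span {x y : K} (hx : x ∈ S.D1) (hy : y ∈ S.D1) {r : K} (hr : r ∈ Q)
    (hyr : y = r * x) {a : K4} (ha : S.π r = a • pv (S.pt x)) : ∃ q ∈ Q, cj q x = y := by
  obtain ⟨w, hw⟩ := exists_value (S.pt x) a
  obtain ⟨q, hq, rfl⟩ := S.π_surj w
  obtain ⟨m, hm, e, hπ⟩ := S.cj_Q (S.D1_comm hx) (S.D1_sq hx) (S.ρ_pt hx) hq
  rw [hw, ← ha] at hπ
  refine ⟨q, hq, ?_⟩
  rcases S.π_eq hr hm hπ.symm with e' | e'
  · rw [e, e', hyr]
  · exfalso
    refine S.D1_ne_z_mul hy (S.D1_cj hx (S.le q hq)) ?_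
    rw [e, e', hyr, mul_assoc]

/-- The base fibre is one orbit. -/
theorem base_orbit {c : K} (hc : c * z = z * c) (hfix : act (S.ρ c) i₀ = i₀) :
    ∃ q ∈ Q, cj c S.x₁ = cj q S.x₁ := by
  classical
  let G0 : K → Prop := fun g => g * z = z * g ∧ ∃ q ∈ Q, cj g S.x₁ = cj q S.x₁
  have hmul : ∀ g h, G0 g → G0 h → G0 (g * h) := by
    rintro g h ⟨hg, q, hq, e⟩ ⟨hh', r, hr, e'⟩
    refine ⟨S.cz_mul hg hh', cj g r * q, mul_mem (S.cj_mem hg hr) hq, ?_⟩
    rw [← cj_cj, e', cj_cj, ← cj_cj (cj g r), ← e, cj_cj]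
    congr 1
    simp [cj, mul_assoc]
  have hQ : ∀ q ∈ Q, G0 q := fun q hq => ⟨S.le q hq, q, hq, rfl⟩
  -- the diagonal element
  obtain ⟨D, hD⟩ := exists_diag
  obtain ⟨d, hd, hdρ⟩ := S.ρ_surj D
  have hdv : ∀ (i : Fin 45) (e : K4), (∀ k, diagE k * pv i k = e * pv i k) →
      act (S.ρ d) i = i := fun i e he => act_eq (S.ρ_iso d hd) (c := e) (by
    rw [hdρ]
    funext k
    rw [hD, he]
    rfl)
  have hd0 : G0 d := ⟨hd, S.stab_line d hd (hdv i₀ _ diag_base) (by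
    rw [hdv j₀ _ diag_j₀]; exact mem_line.2 ⟨ort_base, ort_refl _⟩)⟩
  -- the transvections commuting with it
  have htr : ∀ u : Fin 45, Ort i₀ u → (∀ k, diagE k * pv u k = ω₄ * pv u k) →
      ∀ g, g * z = z * g → S.ρ g = tp u → G0 g := by
    intro u hu hdu g hg hgu
    set y := cj g S.x₁ with hy
    have hyD : y ∈ S.D1 := S.D1_cj S.x₁_mem hg
    have hyt : S.ρ y = tp i₀ := by
      rw [hy, S.ρ_cj hg S.x₁_comm, hgu, S.ρ_x₁, (tp_commute_iff.2 (ort_symm hu)).eq,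
        mul_inv_cancel_right]
    have hptx : S.pt S.x₁ = i₀ := S.pt_x₁
    -- the commutator of the two lifts lies in the core
    have hρgd : S.ρ (g * d) = S.ρ (d * g) := by
      rw [S.ρ_mul g d hg hd, S.ρ_mul d g hd hg, hgu]
      have h := conj_tp (S.ρ_iso d hd) u
      rw [hdv u _ hdu] at h
      exact (mul_inv_eq_iff_eq_mul.1 h).symm
    have hgd : (d * g)⁻¹ * (g * d) ∈ Q := S.mem_Q_of_ρ (S.cz_mul hd hg) (S.cz_mul hg hd) hρgd.symm
    -- the diagonal element maps `y` into its orbit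
    obtain ⟨q1, hq1, e1⟩ : ∃ q1 ∈ Q, cj d y = cj q1 y := by
      obtain ⟨-, q, hq, e⟩ := hd0
      refine ⟨cj (d * g) ((d * g)⁻¹ * (g * d))⁻¹ * cj g q,
        mul_mem (S.cj_mem (S.cz_mul hd hg) (inv_mem hgd)) (S.cj_mem hg hq), ?_⟩
      have e2 : cj (cj g q) y = cj (g * d) S.x₁ := by
        rw [hy, cj_cj, ← cj_cj g d, e, cj_cj]
        congr 1
        simp [cj, mul_assoc]
      rw [← cj_cj, e2, cj_cj, cj_cj]
      congr 1
      simp [cj, mul_assoc]
    obtain ⟨-, q, hq, eq⟩ := hd0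
    -- write `y` over the seed
    have hr : y * S.x₁ ∈ Q := by
      have h := S.mem_Q_of_ρ (c := y) (d := S.x₁) (S.D1_comm hyD) S.x₁_comm (by rw [hyt, S.ρ_x₁])
      rwa [inv_eq_of_mul_eq_one_right (S.D1_sq hyD)] at h
    set r := y * S.x₁ with hr'
    have hyr : y = r * S.x₁ := by rw [hr', mul_assoc, S.x₁_sq, mul_one]
    set w := S.π r
    have hw : hh w (pv i₀) = 0 := by
      have e : cj S.x₁ r = r⁻¹ := by
        rw [cj, hr', _root_.mul_inv_rev, inv_eq_of_mul_eq_one_right (S.D1_sq hyD),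
          inv_eq_of_mul_eq_one_right S.x₁_sq]
        simp only [mul_assoc, S.x₁_sq, mul_one]
      have h := congrArg S.π e
      rw [S.π_cj S.x₁_comm hr, S.ρ_x₁, S.π_inv hr, tp_apply, add_eq_left, smul_eq_zero] at h
      exact h.resolve_right (pv_ne i₀)
    have hspan : ∃ c : K4, w + S.ρ d w = c • pv i₀ := by
      have e3 : cj q1 y = cj d r * cj q S.x₁ := by rw [← e1, hyr, cj_mul', eq]
      obtain ⟨m1, hm1, f1, g1⟩ := S.cj_Q (S.D1_comm hyD) (S.D1_sq hyD) hyt hq1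
      obtain ⟨m2, hm2, f2, g2⟩ := S.cj_Q S.x₁_comm S.x₁_sq S.ρ_x₁ hq
      rw [f1, f2] at e3
      have e4 : m1 * r = cj d r * m2 := mul_right_cancel (b := S.x₁) (by
        rw [mul_assoc m1, ← hyr, e3, mul_assoc (cj d r)])
      have h := congrArg S.π e4
      rw [S.π_mul _ hm1 _ hr, S.π_mul _ (S.cj_mem hd hr) _ hm2, S.π_cj hd hr, g1, g2] at h
      refine ⟨hh (S.π q1) (pv i₀) + hh (S.π q) (pv i₀), ?_⟩
      rw [add_smul]
      have key : ∀ p w a b : W4, p + w = a + b → w + a = p + b := fun p w a b h => by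
        calc w + a = (p + p) + (w + a) + (b + b) := by simp only [vec_add_self, zero_add, add_zero]
          _ = p + b + ((p + w) + (a + b)) := by abel
          _ = p + b := by rw [h, vec_add_self, add_zero]
      exact key _ _ _ _ h
    obtain ⟨c0, hc0⟩ := hspan
    obtain ⟨v, hv⟩ := d4_surj w
    obtain ⟨a, ha⟩ := diag_residue v c0 (by rw [hv]; exact hw) fun k => by
      have h := congrFun hc0 k
      rw [Pi.add_apply, hdρ, hD] at h
      rw [hv]
      exact h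
    obtain ⟨q2, hq2, e2⟩ := S.orbit_of_span S.x₁_mem hyD hr hyr (a := a) (by
      rw [hptx]; funext k; exact (show w k = _ by rw [← hv]; exact ha k))
    exact ⟨hg, q2, hq2, e2.symm⟩
  -- reduce to the stabiliser of the line
  set k := act (S.ρ c) j₀ with hk
  have hk1 : Ort i₀ k := hfix ▸ (ort_act (S.ρ_iso c hc)).2 ort_base
  have hk2 : k ≠ i₀ := fun e => absurd (act_inj (S.ρ_iso c hc) (e.trans hfix.symm)) (by decide)
  rcases coset k hk1 hk2 with h | h
  · exact S.stab_line c hc hfix h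
  have main : ∀ u : Fin 45, Ort i₀ u → (∀ k, diagE k * pv u k = ω₄ * pv u k) →
      act (tp u) k ∈ line i₀ j₀ → ∃ q ∈ Q, cj c S.x₁ = cj q S.x₁ := by
    intro u hu hdu hmem
    obtain ⟨g, hg, hgu⟩ := S.exists_tp u
    have hgi : act (S.ρ g) i₀ = i₀ := by
      rw [hgu]
      refine tp_injective ?_
      rw [← conj_tp (tp_iso u), (tp_commute_iff.2 (ort_symm hu)).eq, mul_inv_cancel_right]
    have h1 : G0 (g * c) := ⟨S.cz_mul hg hc, S.stab_line _ (S.cz_mul hg hc)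
      (by rw [S.ρ_mul g c hg hc, act_mul (S.ρ_iso g hg) (S.ρ_iso c hc), hfix, hgi])
      (by rw [S.ρ_mul g c hg hc, act_mul (S.ρ_iso g hg) (S.ρ_iso c hc), ← hk, hgu]; exact hmem)⟩
    have h2 : G0 g⁻¹ := htr u hu hdu _ (S.cz_inv hg) (by rw [S.ρ_inv hg, hgu, tp_inv])
    have h3 := hmul _ _ h2 h1
    rw [inv_mul_cancel_left] at h3
    exact h3.2
  rcases h with h | h
  · exact main u₂ ort_u.1 (fun k => (diag_u k).1) h
  · exact main u₃ ort_u.2 (fun k => (diag_u k).2) h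

end Seed

end Cfsg.Agent.H49.USix
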