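import Cfsg.Agent.H49.USix.Incidence

/-!
Involutive isometries are transvections or products of two transvections at orthogonal points.
-/

set_option autoImplicit false
set_option maxRecDepth 20000

namespace Cfsg.Agent.H49.USix

open Cfsg Cfsg.Agent.Compute Cfsg.Agent.Unitary Cfsg.Agent.H41.SUSix Matrix

theorem hh_self_conj (u : W4) : hh u u ^ 2 = hh u u := (hh_swap u u).symm

/-- An involutive isometry other than the identity splits off a transvection. -/
theorem invol_step {g : Equiv.Perm W4} (hg : Iso g) (h2 : g * g = 1) (hne : g ≠ 1) :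
    ∃ (i : Fin 45) (x : W4), hh x (pv i) ≠ 0 ∧ g (pv i) = pv i ∧ (tp i * g) x = x ∧
      Commute g (tp i) ∧ ∀ w, g w = w → hh w (pv i) = 0 ∧ (tp i * g) w = w := by
  have hgg : ∀ w, g (g w) = w := fun w => Equiv.congr_fun h2 w
  have adj : ∀ u v, hh (g u) v = hh u (g v) := fun u v => by
    conv_lhs => rw [← hgg v]
    rw [hg.herm]
  obtain ⟨x, hx⟩ : ∃ x, hh (g x + x) x ≠ 0 := by
    by_contra hcon
    push Not at hcon
    refine hne (Equiv.ext fun x => ?_)
    have hz : g x + x = 0 := hh_nondeg fun y => ?_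
    · rw [Equiv.Perm.one_apply]
      have key : ∀ a b : K4, a + b = 0 → a = b := by decide +kernel
      exact funext fun i => key _ _ (congrFun hz i)
    · rw [hh_zero_symm]
      have bil : ∀ c : K4, c ^ 2 * hh (g x + x) y + c * hh (g x + x) y ^ 2 = 0 := by
        intro c
        have h := hcon (x + c • y)
        rw [hg.add, hg.smul,
          show g x + c • g y + (x + c • y) = (g x + x) + c • (g y + y) by rw [smul_add]; abel,
          hh_add_left, hh_add_right, hh_add_right, hh_smul_left, hh_smul_left, hh_smul_right,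
          hh_smul_right, hcon x, hcon y, mul_zero, mul_zero, add_zero, zero_add] at h
        have e : hh (g y + y) x = hh (g x + x) y ^ 2 := by
          rw [← hh_swap, hh_add_left, adj y x, hh_add_right]
        rw [e] at h
        exact h
      have key : ∀ b : K4, (∀ c : K4, c ^ 2 * b + c * b ^ 2 = 0) → b = 0 := by decide +kernel
      exact key _ bil
  set u := g x + x with hu
  have hgu : g u = u := by rw [hu, hg.add, hgg, add_comm]
  have hu0 : u ≠ 0 := fun e => hx (by rw [e, hh_zero_left])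
  have hfix : ∀ w, g w = w → hh w u = 0 := fun w hw => by
    rw [hu, hh_add_right, ← adj, hw, k4_add_self]
  have huu : hh u u = 0 := hfix u hgu
  have hux : hh x u = 1 := by
    have e : hh x u = hh u x := by rw [hu, hh_add_right, hh_add_left, adj x x]
    have e2 := hh_swap u x
    rw [e] at e2
    have key : ∀ a : K4, a ≠ 0 → a = a ^ 2 → a = 1 := by decide +kernel
    rw [e]
    exact key _ hx e2
  obtain ⟨i, c, hc, hi⟩ := exists_point hu0 huu
  have hti : ∀ w, tp i w = trv u w := eq_trv_iff.2 ⟨c, hc, hi⟩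
  have hgi : g (pv i) = pv i := by rw [hi, hg.smul, hgu]
  refine ⟨i, x, ?_, hgi, ?_, ?_, fun w hw => ?_⟩
  · rw [hi, hh_smul_right, hux, mul_one, Ne, k4_sq_zero]
    exact hc
  · show tp i (g x) = x
    have e : hh (g x) u = 1 := by
      conv_lhs => rw [← hgu]
      rw [hg.herm, hux]
    rw [hti, trv, e, one_smul, hu, ← add_assoc, vec_add_self, zero_add]
  · have e : act g i = i := act_eq hg (c := 1) (by rw [hgi, one_smul])
    have h := conj_tp hg i
    rw [e] at h
    exact mul_inv_eq_iff_eq_mul.1 h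
  · refine ⟨by rw [hi, hh_smul_right, hfix w hw, mul_zero], ?_⟩
    show tp i (g w) = w
    rw [hw, hti, trv, hfix w hw, zero_smul, add_zero]

/-- The involutive isometries. -/
theorem invol_cases {g : Equiv.Perm W4} (hg : Iso g) (h2 : g * g = 1) :
    g = 1 ∨ (∃ i, g = tp i) ∨ ∃ i j, Ort i j ∧ i ≠ j ∧ g = tp i * tp j := by
  by_cases h1 : g = 1
  · exact Or.inl h1
  obtain ⟨i, x, hxi, hgi, hgx, hci, -⟩ := invol_step hg h2 h1
  have sq : ∀ (k : Fin 45) (f : Equiv.Perm W4), f * f = 1 → Commute f (tp k) →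
      (tp k * f) * (tp k * f) = 1 := fun k f hf hk => by
    rw [mul_assoc, ← mul_assoc f, hk.eq, mul_assoc, hf, mul_one, tp_sq]
  have back : ∀ (k : Fin 45) (f : Equiv.Perm W4), tp k * f = 1 → f = tp k := fun k f e => by
    rw [← tp_inv k]
    exact eq_inv_of_mul_eq_one_right e
  by_cases h1' : tp i * g = 1
  · exact Or.inr (Or.inl ⟨i, back i g h1'⟩)
  have hg1 := (tp_iso i).mul hg
  obtain ⟨j, y, hyj, -, hgy, hcj, hfj⟩ := invol_step hg1 (sq i g h2 hci) h1'
  have g1i : (tp i * g) (pv i) = pv i := by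
    show tp i (g (pv i)) = pv i
    rw [hgi, tp_apply, pv_iso, zero_smul, add_zero]
  obtain ⟨hij0, g2i⟩ := hfj _ g1i
  obtain ⟨hxj, g2x⟩ := hfj _ hgx
  have hne : i ≠ j := fun e => hxi (e ▸ hxj)
  have hort : Ort i j := ort_iff.2 hij0
  by_cases h1'' : tp j * (tp i * g) = 1
  · refine Or.inr (Or.inr ⟨i, j, hort, hne, ?_⟩)
    rw [← back j _ h1'', ← mul_assoc, tp_sq, one_mul]
  exfalso
  obtain ⟨k, -, -, -, -, -, hfk⟩ := invol_step ((tp_iso j).mul hg1) (sq j _ (sq i g h2 hci) hcj) h1''
  have g2j : (tp j * (tp i * g)) (pv j) = pv j := by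
    have e : act (tp i * g) j = j := tp_injective (by
      rw [← conj_tp hg1, hcj.eq, mul_inv_cancel_right])
    obtain ⟨c, hc, hcv⟩ := act_spec hg1 j
    rw [e] at hcv
    have hc1 : c = 1 := by
      have h := congrArg (tp i * g : Equiv.Perm W4) hcv
      conv_lhs at h => rw [← Equiv.Perm.mul_apply, sq i g h2 hci, Equiv.Perm.one_apply]
      rw [hg1.smul, hcv, smul_smul] at h
      have key : ∀ c : K4, c * c = 1 → c = 1 := by decide +kernel
      refine key c (smul_left_injective K4 (pv_ne j) ?_)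
      show (c * c) • pv j = (1 : K4) • pv j
      rw [one_smul, ← h]
    show tp j ((tp i * g) (pv j)) = pv j
    rw [hcv, hc1, one_smul, tp_apply, pv_iso, zero_smul, add_zero]
  have k1 := (hfk _ g2i).1
  have k2 := (hfk _ g2j).1
  have k3 := (hfk _ g2x).1
  have k4 := (hfk _ hgy).1
  obtain ⟨a, b, hab⟩ := mem_span hort hne (ort_iff.2 k1) (ort_iff.2 k2)
  rw [hab, hh_add_right, hh_smul_right, hh_smul_right, hxj, mul_zero, add_zero, mul_eq_zero,
    or_iff_left hxi, k4_sq_zero] at k3
  rw [hab, k3, zero_smul, zero_add, hh_smul_right, mul_eq_zero, or_iff_left hyj, k4_sq_zero] at k4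
  exact pv_ne k (by rw [hab, k3, k4, zero_smul, zero_smul, add_zero])

end Cfsg.Agent.H49.USix
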