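import Cfsg.Agent.H49.USix.Invol

/-!
The twenty-seven lines, and a line fixed by a group of involutive isometries.
-/

set_option autoImplicit false
set_option maxRecDepth 20000

namespace Cfsg.Agent.H49.USix

open Cfsg Cfsg.Agent.Compute Cfsg.Agent.Unitary Cfsg.Agent.H41.SUSix Matrix

theorem line_comm (i j : Fin 45) : line i j = line j i := by
  ext k
  simp [mem_line, and_comm]

theorem left_mem_line {i j : Fin 45} (h : Ort i j) : i ∈ line i j :=
  mem_line.2 ⟨ort_refl i, ort_symm h⟩

theorem right_mem_line {i j : Fin 45} (h : Ort i j) : j ∈ line i j :=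
  mem_line.2 ⟨h, ort_refl j⟩

/-- A line is the line of any two of its points. -/
theorem line_pair {i j a b : Fin 45} (h : Ort i j) (hne : i ≠ j) (ha : a ∈ line i j)
    (hb : b ∈ line i j) (hab : a ≠ b) : line a b = line i j := by
  by_cases hai : a = i
  · subst hai
    exact line_eq h hne hb (Ne.symm hab)
  · have e1 : line a i = line i j := by rw [line_comm, line_eq h hne ha hai]
    rw [← e1] at hb ⊢
    exact line_eq (ort_symm (mem_line.1 ha).1) hai hb (Ne.symm hab)

theorem map_line {g : Equiv.Perm W4} (hg : Iso g) (i j : Fin 45) :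
    (line i j).image (act g) = line (act g i) (act g j) := by
  ext k
  rw [Finset.mem_image]
  constructor
  · rintro ⟨a, ha, rfl⟩
    exact mem_line.2 ⟨(ort_act hg).2 (mem_line.1 ha).1, (ort_act hg).2 (mem_line.1 ha).2⟩
  · intro hk
    obtain ⟨a, rfl⟩ := (Finite.injective_iff_surjective.1 (act_inj hg)) k
    exact ⟨a, mem_line.2 ⟨(ort_act hg).1 (mem_line.1 hk).1, (ort_act hg).1 (mem_line.1 hk).2⟩, rfl⟩

/-- The ordered pairs of different orthogonal points. -/
noncomputable def ortPairs : Finset (Fin 45 × Fin 45) :=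
  (Finset.univ : Finset (Fin 45 × Fin 45)).filter fun p => Ort p.1 p.2 ∧ p.2 ≠ p.1

theorem card_ortPairs : ortPairs.card = 540 := by
  classical
  rw [ortPairs, Finset.card_filter, Fintype.sum_prod_type]
  simp only [← Finset.card_filter]
  rw [Finset.sum_congr rfl fun i _ => card_nb i]
  simp

/-- The lines. -/
noncomputable def lineSet : Finset (Finset (Fin 45)) := ortPairs.image fun p => line p.1 p.2

theorem mem_lineSet {L : Finset (Fin 45)} :
    L ∈ lineSet ↔ ∃ i j, Ort i j ∧ i ≠ j ∧ line i j = L := by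
  simp only [lineSet, ortPairs, Finset.mem_image, Finset.mem_filter, Finset.mem_univ, true_and,
    Prod.exists]
  exact ⟨fun ⟨a, b, h, e⟩ => ⟨a, b, h.1, h.2.symm, e⟩, fun ⟨a, b, h, hn, e⟩ => ⟨a, b, ⟨h, hn.symm⟩, e⟩⟩

theorem card_lineSet : lineSet.card = 27 := by
  classical
  have h := Finset.card_eq_sum_card_image (fun p : Fin 45 × Fin 45 => line p.1 p.2) ortPairs
  have hf : ∀ L ∈ lineSet, (ortPairs.filter fun p => line p.1 p.2 = L).card = 20 := by
    intro L hL
    obtain ⟨i, j, hij, hne, rfl⟩ := mem_lineSet.1 hL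
    have e : (ortPairs.filter fun p => line p.1 p.2 = line i j) = (line i j).offDiag := by
      ext ⟨a, b⟩
      rw [Finset.mem_filter, Finset.mem_offDiag, ortPairs, Finset.mem_filter]
      constructor
      · rintro ⟨⟨-, hab, hn⟩, e⟩
        exact ⟨e ▸ left_mem_line hab, e ▸ right_mem_line hab, fun e' => hn e'.symm⟩
      · rintro ⟨ha, hb, hn⟩
        exact ⟨⟨Finset.mem_univ _, line_clique hij hne ha hb, fun e' => hn e'.symm⟩,
          line_pair hij hne ha hb hn⟩
    rw [e, Finset.offDiag_card, card_line hij hne]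
  rw [card_ortPairs] at h
  change 540 = ∑ L ∈ lineSet, (ortPairs.filter fun p => line p.1 p.2 = L).card at h
  rw [Finset.sum_congr rfl hf, Finset.sum_const, smul_eq_mul] at h
  omega

theorem map_lineSet {g : Equiv.Perm W4} (hg : Iso g) {L : Finset (Fin 45)} (hL : L ∈ lineSet) :
    L.image (act g) ∈ lineSet := by
  obtain ⟨i, j, hij, hne, rfl⟩ := mem_lineSet.1 hL
  exact mem_lineSet.2 ⟨_, _, (ort_act hg).2 hij, fun e => hne (act_inj hg e), (map_line hg i j).symm⟩

/-- Involutive isometries forming a group fix a line. -/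
theorem exists_fixed_line {E : Subgroup (Equiv.Perm W4)} (hiso : ∀ e ∈ E, Iso e)
    (h2 : ∀ e ∈ E, e * e = 1) :
    ∃ i j, Ort i j ∧ i ≠ j ∧ ∀ e ∈ E, ∀ k ∈ line i j, act e k ∈ line i j := by
  classical
  haveI : Fact (Nat.Prime 2) := ⟨Nat.prime_two⟩
  letI : MulAction ↥E ↥lineSet :=
    { smul := fun e L => ⟨L.1.image (act e.1), map_lineSet (hiso e e.2) L.2⟩
      one_smul := fun L => Subtype.ext (by
        show L.1.image (act ((1 : ↥E) : Equiv.Perm W4)) = L.1
        rw [OneMemClass.coe_one, show act (1 : Equiv.Perm W4) = id from funext act_one, Finset.image_id])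
      mul_smul := fun e f L => Subtype.ext (by
        show L.1.image (act ((e * f : ↥E) : Equiv.Perm W4)) = (L.1.image (act f.1)).image (act e.1)
        rw [Finset.image_image]
        exact Finset.image_congr fun k _ => act_mul (hiso e e.2) (hiso f f.2) k) }
  have hp : IsPGroup 2 ↥E := fun e => ⟨1, Subtype.ext (by
    show (e : Equiv.Perm W4) ^ 2 ^ 1 = 1
    rw [pow_one, pow_two, h2 e e.2])⟩
  obtain ⟨⟨L, hL⟩, hfix⟩ := hp.nonempty_fixed_point_of_prime_not_dvd_card ↥lineSet (by
    rw [Nat.card_eq_fintype_card, Fintype.card_coe, card_lineSet]; norm_num)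
  obtain ⟨i, j, hij, hne, rfl⟩ := mem_lineSet.1 hL
  refine ⟨i, j, hij, hne, fun e he k hk => ?_⟩
  have h := congrArg Subtype.val (hfix ⟨e, he⟩)
  change (line i j).image (act e) = line i j at h
  rw [← h]
  exact Finset.mem_image_of_mem _ hk

end Cfsg.Agent.H49.USix
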