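import Cfsg.Agent.H49.USix.Fibre

/-!
The 180 members over the forty-five points and their commutation: two members commute exactly when
their points are orthogonal, and otherwise their product has order three.
-/

set_option autoImplicit false
set_option linter.unusedSectionVars false
set_option maxRecDepth 20000

namespace Cfsg.Agent.H49.USix

open Cfsg Matrix
open Cfsg.Agent.H41.SUSix (K4 ap ω₄)
open H76.LocallyS3 (cj cj_cj cj_injective commute_cj_iff)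

namespace Seed

variable {K : Type*} [Group K] [Finite K] {z : K} {Q : Subgroup K} (S : Seed z Q)

/-- The adjacency. -/
def Adj (a b : K) : Prop := AdjP z S.x₁ a b

include S

theorem adj_cj (g : K) {a b : K} (h : S.Adj a b) : S.Adj (cj g a) (cj g b) := by
  obtain ⟨f, ha, hb⟩ := h
  exact ⟨g * f, by rw [← cj_cj, ha], by rw [← cj_cj, hb]⟩

theorem adj_cj_iff (g : K) {a b : K} : S.Adj (cj g a) (cj g b) ↔ S.Adj a b :=
  ⟨fun h => by simpa only [cj_inv_cj'] using S.adj_cj g⁻¹ h, S.adj_cj g⟩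

theorem adj_symm {a b : K} (h : S.Adj a b) : S.Adj b a := by
  obtain ⟨f, ha, hb⟩ := h
  obtain ⟨g, hg1, hg2⟩ := S.swap
  exact ⟨f * g, by rw [← cj_cj, hg1, hb], by rw [← cj_cj, hg2, ha]⟩

theorem adj_commute {a b : K} (h : S.Adj a b) : Commute a b := by
  obtain ⟨f, ha, hb⟩ := h
  rw [← ha, ← hb]
  exact commute_cj_iff.2 (show Commute z S.x₁ from S.x₁_comm.symm)

theorem x₁_ne_z : S.x₁ ≠ z := fun e => by
  have h := S.ρ_x₁
  rw [e, S.ρ_of_Q S.hzQ] at h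
  exact tp_ne_one i₀ h.symm

theorem adj_ne {a b : K} (h : S.Adj a b) : a ≠ b := by
  obtain ⟨f, ha, hb⟩ := h
  rw [← ha, ← hb]
  exact fun e => S.x₁_ne_z (cj_injective f e).symm

theorem adj_z_iff {x : K} : S.Adj z x ↔ x ∈ S.D1 :=
  ⟨fun ⟨g, hg, hx⟩ => ⟨g, cj_fix_iff.1 hg, hx⟩, fun ⟨c, hc, hx⟩ => ⟨c, S.cj_z hc, hx⟩⟩

theorem adj_conj_left {a b : K} (h : S.Adj a b) : ∃ g : K, cj g z = a :=
  h.imp fun _ hg => hg.1

theorem adj_pair_not {a b : K} (h : S.Adj a b) : ¬ ∃ g : K, cj g z = a * b := by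
  rintro ⟨g, hg⟩
  obtain ⟨f, ha, hb⟩ := h
  exact S.pair_not ⟨f⁻¹ * g, by rw [← cj_cj, hg, ← ha, ← hb, ← cj_mul', cj_inv_cj']⟩

theorem D1_ne_z {x : K} (hx : x ∈ S.D1) : x ≠ z := (S.adj_ne (S.adj_z_iff.2 hx)).symm

/-- Members over the same point are conjugate in the core. -/
theorem fibre_orbit {x y : K} (hx : x ∈ S.D1) (hy : y ∈ S.D1) (h : S.pt x = S.pt y) :
    ∃ q ∈ Q, cj q x = y := by
  obtain ⟨a, ha, hax⟩ := hx
  obtain ⟨b, hb, hby⟩ := hy
  have hfix : act (S.ρ (a⁻¹ * b)) i₀ = i₀ := by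
    have h' := h
    rw [← hax, ← hby, S.pt_cj S.x₁_mem ha, S.pt_cj S.x₁_mem hb, S.pt_x₁] at h'
    rw [S.ρ_mul _ _ (S.cz_inv ha) hb, S.ρ_inv ha, act_mul (S.ρ_iso a ha).inv (S.ρ_iso b hb), ← h',
      ← act_mul (S.ρ_iso a ha).inv (S.ρ_iso a ha), inv_mul_cancel, act_one]
  obtain ⟨q, hq, e⟩ := S.base_orbit (S.cz_mul (S.cz_inv ha) hb) hfix
  refine ⟨cj a q, S.cj_mem ha hq, ?_⟩
  rw [← hax, ← hby, cj_cj]
  have e' := congrArg (cj a) e
  rw [cj_cj, cj_cj, mul_inv_cancel_left] at e'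
  rw [e']
  congr 1
  simp [cj]

theorem cj_Q_fix_iff {x q : K} (hx : x ∈ S.D1) (hq : q ∈ Q) :
    cj q x = x ↔ hh (S.π q) (pv (S.pt x)) = 0 := by
  refine ⟨S.hh_zero_of_commute (S.D1_comm hx) (S.D1_sq hx) (S.ρ_pt hx) hq, fun h => ?_⟩
  obtain ⟨m, hm, e, hπ⟩ := S.cj_Q (S.D1_comm hx) (S.D1_sq hx) (S.ρ_pt hx) hq
  rw [h, zero_smul] at hπ
  rcases (S.π_zero m hm).1 hπ with e' | e'
  · rw [e, e', one_mul]
  · exact absurd (by rw [e, e']) (S.D1_ne_z_mul hx (S.D1_cj hx (S.le q hq)))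

theorem cj_Q_eq_iff {x q r : K} (hx : x ∈ S.D1) (hq : q ∈ Q) (hr : r ∈ Q) :
    cj q x = cj r x ↔ hh (S.π q) (pv (S.pt x)) = hh (S.π r) (pv (S.pt x)) := by
  have key : ∀ a b : K4, a + b = 0 ↔ b = a := by decide +kernel
  have h : cj q x = cj r x ↔ cj (r⁻¹ * q) x = x := by
    rw [← cj_cj]
    exact ⟨fun e => by rw [e, cj_inv_cj'], fun e => by
      conv_rhs => rw [← e, cj_cj, mul_inv_cancel, cj_one']⟩
  rw [h, S.cj_Q_fix_iff hx (mul_mem (inv_mem hr) hq), S.π_mul _ (inv_mem hr) _ hq, S.π_inv hr,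
    hh_add_left]
  exact key _ _

/-- The core is transitive on pairs of members over two different points. -/
theorem pair_orbit {x y x' y' : K} (hx : x ∈ S.D1) (hy : y ∈ S.D1) (hx' : x' ∈ S.D1)
    (hy' : y' ∈ S.D1) (hne : S.pt x ≠ S.pt y) (h1 : S.pt x' = S.pt x) (h2 : S.pt y' = S.pt y) :
    ∃ q ∈ Q, cj q x = x' ∧ cj q y = y' := by
  obtain ⟨a, ha, ea⟩ := S.fibre_orbit hx hx' h1.symm
  obtain ⟨b, hb, eb⟩ := S.fibre_orbit hy hy' h2.symm
  obtain ⟨w, w1, w2⟩ := exists_values hne (hh (S.π a) (pv (S.pt x))) (hh (S.π b) (pv (S.pt y)))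
  obtain ⟨q, hq, rfl⟩ := S.π_surj w
  exact ⟨q, hq, ((S.cj_Q_eq_iff hx hq ha).2 w1).trans ea, ((S.cj_Q_eq_iff hy hq hb).2 w2).trans eb⟩

theorem adj_of_fibre {x y : K} (hx : x ∈ S.D1) (hy : y ∈ S.D1) (h : S.pt x = S.pt y) (hne : x ≠ y) :
    S.Adj x y := by
  obtain ⟨c, hc, hcx⟩ := hx
  have hy' : cj c⁻¹ y ∈ S.D1 := S.D1_cj hy (S.cz_inv hc)
  obtain ⟨q, hq, e⟩ := S.fibre_orbit S.x₁_mem hy' (by
    rw [S.pt_cj hy (S.cz_inv hc), ← h, ← hcx, S.pt_cj S.x₁_mem hc, S.ρ_inv hc,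
      ← act_mul (S.ρ_iso c hc).inv (S.ρ_iso c hc), inv_mul_cancel, act_one])
  have h1 := S.adj_cj c (S.adj_fibre q hq fun e' => hne (by
    rw [← hcx, ← cj_inv_cj' c⁻¹ y, inv_inv, ← e, e']))
  rwa [e, hcx, cj_cj, mul_inv_cancel, cj_one'] at h1

theorem adj_of_ort {x y : K} (hx : x ∈ S.D1) (hy : y ∈ S.D1) (h : Ort (S.pt x) (S.pt y))
    (hne : S.pt x ≠ S.pt y) : S.Adj x y := by
  obtain ⟨c, hc, ho, hn, hA⟩ := S.adj_orth
  have hy₀ : cj c S.x₁ ∈ S.D1 := S.D1_cj S.x₁_mem hc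
  have hp : S.pt (cj c S.x₁) = act (S.ρ c) i₀ := by rw [S.pt_cj S.x₁_mem hc, S.pt_x₁]
  obtain ⟨a, ha, a1, a2⟩ := S.exists_pair_map ho hn.symm
  obtain ⟨b, hb, b1, b2⟩ := S.exists_pair_map h hne
  have ra : b⁻¹ * a * z = z * (b⁻¹ * a) := S.cz_mul (S.cz_inv hb) ha
  have hact : ∀ i j : Fin 45, act (S.ρ a) i = act (S.ρ b) j → act (S.ρ (b⁻¹ * a)) i = j := by
    intro i j e
    rw [S.ρ_mul _ _ (S.cz_inv hb) ha, S.ρ_inv hb, act_mul (S.ρ_iso b hb).inv (S.ρ_iso a ha), e,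
      ← act_mul (S.ρ_iso b hb).inv (S.ρ_iso b hb), inv_mul_cancel, act_one]
  obtain ⟨q, hq, e1, e2⟩ := S.pair_orbit (S.D1_cj S.x₁_mem ra) (S.D1_cj hy₀ ra) hx hy
    (by rw [S.pt_cj S.x₁_mem ra, S.pt_cj hy₀ ra, S.pt_x₁, hp]
        exact fun e => hn (act_inj (S.ρ_iso _ ra) e).symm)
    (by rw [S.pt_cj S.x₁_mem ra, S.pt_x₁]; exact (hact _ _ (a1.trans b1.symm)).symm)
    (by rw [S.pt_cj hy₀ ra, hp]; exact (hact _ _ (a2.trans b2.symm)).symm)
  have h' := S.adj_cj q (S.adj_cj (b⁻¹ * a) hA)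
  rwa [e1, e2] at h'

theorem cube_of_not_ort {x y : K} (hx : x ∈ S.D1) (hy : y ∈ S.D1) (h : ¬ Ort (S.pt x) (S.pt y)) :
    (x * y) ^ 3 = 1 ∧ ¬ Commute x y := by
  have cx := S.D1_comm hx
  have cy := S.D1_comm hy
  have hρ : S.ρ (x * y) = tp (S.pt x) * tp (S.pt y) := by
    rw [S.ρ_mul x y cx cy, S.ρ_pt hx, S.ρ_pt hy]
  have hnc : ∀ u v : K, u ∈ S.D1 → v ∈ S.D1 → ¬ Ort (S.pt u) (S.pt v) → ¬ Commute u v := by
    intro u v hu hv hn hc
    refine hn (tp_commute_iff.1 ?_)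
    show tp (S.pt u) * tp (S.pt v) = tp (S.pt v) * tp (S.pt u)
    rw [← S.ρ_pt hu, ← S.ρ_pt hv, ← S.ρ_mul u v (S.D1_comm hu) (S.D1_comm hv), hc.eq,
      S.ρ_mul v u (S.D1_comm hv) (S.D1_comm hu)]
  refine ⟨?_, hnc x y hx hy h⟩
  have cxy := S.cz_mul cx cy
  have hpow : ∀ n : ℕ, (x * y) ^ n * z = z * (x * y) ^ n ∧ S.ρ ((x * y) ^ n) = S.ρ (x * y) ^ n := by
    intro n
    induction n with
    | zero => exact ⟨by simp, by rw [pow_zero, pow_zero, S.ρ_one]⟩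
    | succ n ih =>
      rw [pow_succ, pow_succ]
      exact ⟨S.cz_mul ih.1 cxy, by rw [S.ρ_mul _ _ ih.1 cxy, ih.2]⟩
  have h12 : (x * y) ^ 12 = 1 := by
    have hq : (x * y) ^ 3 ∈ Q := (S.ρ_ker _ (hpow 3).1).1 (by rw [(hpow 3).2, hρ, tp_cube h])
    rw [show 12 = 3 * 4 from rfl, pow_mul]
    exact S.pow_four hq
  set u := (x * y) ^ 4 with hu
  have cu := (hpow 4).1
  have hu3 : u ^ 3 = 1 := by rw [hu, ← pow_mul]; exact h12
  have hxu : x * u * x = u⁻¹ := by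
    have e : ∀ n : ℕ, x * (x * y) ^ n * x = ((x * y) ^ n)⁻¹ := fun n => by
      have hx' := inv_eq_of_mul_eq_one_right (S.D1_sq hx)
      have hyx : (x * y)⁻¹ = x * (x * y) * x⁻¹ := by
        rw [_root_.mul_inv_rev, inv_eq_of_mul_eq_one_right (S.D1_sq hy), hx', ← mul_assoc,
          S.D1_sq hx, one_mul]
      rw [← inv_pow, hyx, conj_pow, hx']
    exact e 4
  have hy' : cj u x = x * u := by
    have huu : u * u = u⁻¹ := eq_inv_of_mul_eq_one_left (by rw [← hu3]; simp [pow_succ, mul_assoc])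
    have hxu' : u * x = x * u⁻¹ := by
      rw [← hxu, ← mul_assoc, ← mul_assoc, S.D1_sq hx, one_mul]
    rw [cj, hxu', mul_assoc, ← _root_.mul_inv_rev, huu, inv_inv]
  have hy'D : cj u x ∈ S.D1 := S.D1_cj hx cu
  have hpt : S.pt (cj u x) = S.pt y := by
    refine S.pt_eq hy'D ?_
    rw [hy', S.ρ_mul x u cx cu, (hpow 4).2, hρ, S.ρ_pt hx, pow_succ, tp_cube h, one_mul, ← mul_assoc,
      tp_sq, one_mul]
  obtain ⟨q, hq, e1, e2⟩ := S.pair_orbit hx hy'D hx hy (fun e => h (by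
    rw [hpt] at e; rw [e]; exact ort_refl _)) rfl hpt.symm
  rw [← e1, ← e2, ← cj_mul', hy', ← mul_assoc, S.D1_sq hx, one_mul]
  show (q * u * q⁻¹) ^ 3 = 1
  rw [conj_pow, hu3, mul_one, mul_inv_cancel]

theorem commute_iff {x y : K} (hx : x ∈ S.D1) (hy : y ∈ S.D1) :
    Commute x y ↔ Ort (S.pt x) (S.pt y) := by
  refine ⟨fun hc => by_contra fun h => (S.cube_of_not_ort hx hy h).2 hc, fun h => ?_⟩
  by_cases hp : S.pt x = S.pt y
  · by_cases e : x = y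
    · subst e; exact Commute.refl x
    · exact S.adj_commute (S.adj_of_fibre hx hy hp e)
  · exact S.adj_commute (S.adj_of_ort hx hy h hp)

theorem adj_iff {x y : K} (hx : x ∈ S.D1) (hy : y ∈ S.D1) :
    S.Adj x y ↔ x ≠ y ∧ Ort (S.pt x) (S.pt y) := by
  refine ⟨fun h => ⟨S.adj_ne h, (S.commute_iff hx hy).1 (S.adj_commute h)⟩, fun ⟨hne, h⟩ => ?_⟩
  by_cases hp : S.pt x = S.pt y
  · exact S.adj_of_fibre hx hy hp hne
  · exact S.adj_of_ort hx hy h hp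

/-! ### Counting -/

theorem exists_member (i : Fin 45) : ∃ x ∈ S.D1, S.pt x = i := by
  obtain ⟨c, hc, h⟩ := S.exists_point_map i
  exact ⟨cj c S.x₁, S.D1_cj S.x₁_mem hc, by rw [S.pt_cj S.x₁_mem hc, S.pt_x₁, h]⟩

/-- The members over a point. -/
def fib (i : Fin 45) : Set K := {x | x ∈ S.D1 ∧ S.pt x = i}

theorem card_fib (i : Fin 45) : (S.fib i).ncard = 4 := by
  classical
  obtain ⟨x, hx, rfl⟩ := S.exists_member i
  have hq : ∀ a : K4, ∃ q ∈ Q, hh (S.π q) (pv (S.pt x)) = a := fun a => by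
    obtain ⟨w, hw⟩ := exists_value (S.pt x) a
    obtain ⟨q, hq, rfl⟩ := S.π_surj w
    exact ⟨q, hq, hw⟩
  choose q hq hqa using hq
  have himg : S.fib (S.pt x) = Set.range (fun a : K4 => cj (q a) x) := by
    ext y
    constructor
    · rintro ⟨hy, hp⟩
      obtain ⟨r, hr, e⟩ := S.fibre_orbit hx hy hp.symm
      exact ⟨hh (S.π r) (pv (S.pt x)), by
        show cj (q _) x = y
        rw [(S.cj_Q_eq_iff hx (hq _) hr).2 (hqa _), e]⟩
    · rintro ⟨a, rfl⟩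
      exact ⟨S.D1_cj hx (S.le _ (hq a)), S.pt_cj_Q hx (hq a)⟩
  have hinj : Function.Injective (fun a : K4 => cj (q a) x) := fun a b e => by
    have := (S.cj_Q_eq_iff hx (hq a) (hq b)).1 e
    rwa [hqa, hqa] at this
  rw [himg, Set.ncard_range_of_injective hinj, Nat.card_eq_fintype_card, H41.SUSix.hK]
  norm_num

theorem card_over (P : Finset (Fin 45)) : {x | x ∈ S.D1 ∧ S.pt x ∈ P}.ncard = 4 * P.card := by
  classical
  induction P using Finset.induction_on with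
  | empty => simp
  | insert i P hi ih =>
    have e : {x | x ∈ S.D1 ∧ S.pt x ∈ insert i P} = S.fib i ∪ {x | x ∈ S.D1 ∧ S.pt x ∈ P} := by
      ext x
      simp only [fib, Finset.mem_insert, Set.mem_setOf_eq, Set.mem_union]
      tauto
    rw [e, Set.ncard_union_eq ?_ (Set.toFinite _) (Set.toFinite _), S.card_fib, ih,
      Finset.card_insert_of_notMem hi]
    · ring
    · rw [Set.disjoint_left]
      rintro x ⟨-, hx⟩ ⟨-, hx'⟩
      exact hi (hx ▸ hx')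

theorem card_D1 : S.D1.ncard = 180 := by
  have h := S.card_over Finset.univ
  simp only [Finset.mem_univ, and_true, Set.setOf_mem_eq, Finset.card_univ, Fintype.card_fin] at h
  exact h

/-- The common neighbours of a pair. -/
def common (a b : K) : Set K := {w | S.Adj a w ∧ S.Adj b w}

theorem common_z {x : K} (hx : x ∈ S.D1) :
    S.common z x = {w | w ∈ S.D1 ∧ Ort (S.pt x) (S.pt w)} \ {x} := by
  ext w
  simp only [common, Set.mem_setOf_eq, Set.mem_sdiff, Set.mem_singleton_iff, S.adj_z_iff]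
  constructor
  · rintro ⟨hw, h⟩
    obtain ⟨hne, ho⟩ := (S.adj_iff hx hw).1 h
    exact ⟨⟨hw, ho⟩, hne.symm⟩
  · rintro ⟨⟨hw, ho⟩, hne⟩
    exact ⟨hw, (S.adj_iff hx hw).2 ⟨fun e => hne e.symm, ho⟩⟩

theorem card_common_z {x : K} (hx : x ∈ S.D1) : (S.common z x).ncard = 51 := by
  classical
  let P : Finset (Fin 45) := (Finset.univ : Finset (Fin 45)).filter fun j => Ort (S.pt x) j
  have hP : P.card = 13 := by
    have e : P = insert (S.pt x)
        ((Finset.univ : Finset (Fin 45)).filter fun j => Ort (S.pt x) j ∧ j ≠ S.pt x) := by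
      ext j
      simp only [P, Finset.mem_filter, Finset.mem_univ, true_and, Finset.mem_insert]
      exact ⟨fun h => (eq_or_ne j (S.pt x)).imp id fun e => ⟨h, e⟩,
        fun h => h.elim (fun e => e ▸ ort_refl _) And.left⟩
    rw [e, Finset.card_insert_of_notMem (by simp), card_nb]
  have h := S.card_over P
  simp only [P, Finset.mem_filter, Finset.mem_univ, true_and] at h
  rw [S.common_z hx, Set.ncard_sdiff_singleton_of_mem (show x ∈ {w | w ∈ S.D1 ∧ Ort (S.pt x) (S.pt w)}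
    from ⟨hx, ort_refl _⟩), h, hP]

theorem card_common {a b : K} (h : S.Adj a b) : (S.common a b).ncard = 51 := by
  obtain ⟨g, ha, hb⟩ := h
  have e : S.common a b = cj g '' S.common z S.x₁ := by
    ext w
    constructor
    · rintro ⟨h1, h2⟩
      refine ⟨cj g⁻¹ w, ⟨?_, ?_⟩, by rw [cj_cj, mul_inv_cancel, cj_one']⟩
      · rw [← ha] at h1; simpa only [cj_inv_cj'] using S.adj_cj g⁻¹ h1
      · rw [← hb] at h2; simpa only [cj_inv_cj'] using S.adj_cj g⁻¹ h2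
    · rintro ⟨v, ⟨h1, h2⟩, rfl⟩
      exact ⟨ha ▸ S.adj_cj g h1, hb ▸ S.adj_cj g h2⟩
  rw [e, Set.ncard_image_of_injective _ (cj_injective g), S.card_common_z S.x₁_mem]

/-- A common neighbour of two members over one point is `z` or lies over the points. -/
theorem common_fibre {a b w : K} (ha : a ∈ S.D1) (hb : b ∈ S.D1) (hp : S.pt a = S.pt b) (hne : a ≠ b)
    (hwa : S.Adj a w) (hwb : S.Adj b w) : w = z ∨ w ∈ S.D1 := by
  classical
  let T : Set K := insert z ({u | u ∈ S.D1 ∧ Ort (S.pt a) (S.pt u)} \ {a, b})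
  have hT : T ⊆ S.common a b := by
    rintro u (rfl | ⟨⟨hu, ho⟩, hu'⟩)
    · exact ⟨S.adj_symm (S.adj_z_iff.2 ha), S.adj_symm (S.adj_z_iff.2 hb)⟩
    · simp only [Set.mem_insert_iff, Set.mem_singleton_iff, not_or] at hu'
      exact ⟨(S.adj_iff ha hu).2 ⟨Ne.symm hu'.1, ho⟩,
        (S.adj_iff hb hu).2 ⟨Ne.symm hu'.2, hp ▸ ho⟩⟩
  have hS : {u | u ∈ S.D1 ∧ Ort (S.pt a) (S.pt u)}.ncard = 52 := by
    have h := S.card_common_z ha
    rw [S.common_z ha, Set.ncard_sdiff_singleton_of_mem (show a ∈ {u | u ∈ S.D1 ∧ Ort (S.pt a) (S.pt u)}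
      from ⟨ha, ort_refl _⟩)] at h
    omega
  have hc : T.ncard = 51 := by
    rw [Set.ncard_insert_of_notMem (fun h => S.D1_ne_z h.1.1 rfl) (Set.toFinite _),
      Set.ncard_sdiff (by
        rintro u (rfl | rfl)
        · exact ⟨ha, ort_refl _⟩
        · exact ⟨hb, hp ▸ ort_refl _⟩) (Set.toFinite _), hS, Set.ncard_pair hne]
  have heq := Set.eq_of_subset_of_ncard_le hT
    (by rw [S.card_common (S.adj_of_fibre ha hb hp hne), hc]) (Set.toFinite _)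
  have hw : w ∈ T := by rw [heq]; exact ⟨hwa, hwb⟩
  rcases hw with rfl | ⟨⟨h, -⟩, -⟩
  · exact Or.inl rfl
  · exact Or.inr h

end Seed

end Cfsg.Agent.H49.USix
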