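import Cfsg.Agent.H49.USix.Points
import Cfsg.Agent.H61.Isolated
import Cfsg.Agent.Cores.GlaubermanZStar

/-!
The centraliser of the product of two adjacent members fixes the point of the members: the image
of `z` is isolated modulo the product, and the odd core is trivial.
-/

set_option autoImplicit false
set_option linter.unusedSectionVars false

namespace Cfsg.Agent.H49.USix

open Cfsg
open H76.LocallyS3 (cj cj_cj cj_injective commute_cj_iff)

/-- The Z*-theorem for isolated involutions. -/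
theorem zstar_isolated {G : Type*} [Group G] [Finite G] {u : G} (hu : u * u = 1) (h1 : u ≠ 1)
    (hiso : Cfsg.IsIsolated u) (g : G) : u * g * u⁻¹ * g⁻¹ ∈ oddCore G := by
  haveI : Fact (Nat.Prime 2) := ⟨Nat.prime_two⟩
  have ho : orderOf u = 2 := orderOf_eq_prime (by rw [sq, hu]) h1
  have hz : IsPGroup 2 (Subgroup.zpowers u) :=
    IsPGroup.of_card (n := 1) (by rw [Nat.card_zpowers, ho, pow_one])
  obtain ⟨P, hP⟩ := hz.exists_le_sylow
  exact Cores.glaubermanZStar P ho (hP (Subgroup.mem_zpowers u))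
    (fun k hk => H61.eq_of_conj_mem hiso P.isPGroup' (hP (Subgroup.mem_zpowers u)) hk) g

/-- An involution without fixed points on a normal subgroup inverts it. -/
theorem inv_of_fpf {G : Type*} [Group G] [Finite G] {N : Subgroup G} [hN : N.Normal] {t : G}
    (ht : t * t = 1) (hf : ∀ a ∈ N, Commute t a → a = 1) {a : G} (ha : a ∈ N) :
    t * a * t⁻¹ = a⁻¹ := by
  classical
  let f : ↥N → ↥N := fun b =>
    ⟨b.1⁻¹ * (t * b.1 * t⁻¹), mul_mem (inv_mem b.2) (hN.conj_mem b.1 b.2 t)⟩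
  have hinj : Function.Injective f := by
    intro b c e
    have e' : b.1⁻¹ * (t * b.1 * t⁻¹) = c.1⁻¹ * (t * c.1 * t⁻¹) := congrArg Subtype.val e
    refine Subtype.ext (mul_inv_eq_one.1 (hf _ (mul_mem c.2 (inv_mem b.2)) ?_)).symm
    show t * (c.1 * b.1⁻¹) = c.1 * b.1⁻¹ * t
    calc t * (c.1 * b.1⁻¹) = c.1 * (c.1⁻¹ * (t * c.1 * t⁻¹)) * t * b.1⁻¹ := by group
      _ = c.1 * (b.1⁻¹ * (t * b.1 * t⁻¹)) * t * b.1⁻¹ := by rw [e']
      _ = c.1 * b.1⁻¹ * t := by group
  obtain ⟨b, hb⟩ := (Finite.injective_iff_surjective.1 hinj) ⟨a, ha⟩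
  have e : b.1⁻¹ * (t * b.1 * t⁻¹) = a := congrArg Subtype.val hb
  have ht' : t⁻¹ = t := inv_eq_of_mul_eq_one_right ht
  rw [← e, ht']
  simp only [_root_.mul_inv_rev, inv_inv, ht', mul_assoc, ← mul_assoc t t, ht, one_mul, mul_one]

/-- An isometry fixing the perp of an isotropic vector squares to the identity. -/
theorem sq_one_of_fix_perp {g : Equiv.Perm W4} (hg : Iso g) {v : W4} (hv : hh v v = 0)
    (h : ∀ w, hh w v = 0 → g w = w) : g * g = 1 := by
  refine Equiv.ext fun w => ?_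
  have hd : hh (g w + w) v = 0 := by
    rw [hh_add_left]
    conv_lhs => arg 1; rw [← h v hv, hg.herm]
    exact k4_add_self _
  have e := h _ hd
  rw [hg.add] at e
  exact add_right_cancel (e.trans (add_comm _ _))

namespace Seed

variable {K : Type*} [Group K] [Finite K] {z : K} {Q : Subgroup K} (S : Seed z Q)

include S

theorem comm_D1_z {x : K} (hx : x ∈ S.D1) : Commute z x := (S.D1_comm hx).symm

theorem h_sq {x : K} (hx : x ∈ S.D1) : (z * x) * (z * x) = 1 := by
  rw [mul_assoc, ← mul_assoc x, S.D1_comm hx, mul_assoc z x, S.D1_sq hx, mul_one, S.z_sq]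

theorem pair_ne_one {x : K} (hx : x ∈ S.D1) : z * x ≠ 1 := fun h => by
  have e := eq_inv_of_mul_eq_one_left h
  rw [inv_eq_of_mul_eq_one_right (S.D1_sq hx)] at e
  exact S.D1_ne_z hx e.symm

/-- The two decompositions of a pair product. -/
theorem pair_conj_cases {x s : K} (hx : x ∈ S.D1) (hs : ∃ u : K, Commute u (z * x) ∧ cj u z = s)
    (hsz : s * z = z * s) : s = z ∨ s = x := by
  obtain ⟨u, hu, rfl⟩ := hs
  have hsx : cj u z * cj u x = z * x := by rw [← cj_mul']; exact cj_fix_iff.2 hu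
  have ht : cj u x * z = z * cj u x := by
    have e : cj u x = cj u z * (z * x) := by rw [← hsx, ← mul_assoc, cj_self_sq S.z_sq, one_mul]
    rw [e]
    exact S.cz_mul hsz (S.cz_mul rfl (S.D1_comm hx))
  rcases S.conj_in_cent hsz ⟨u, rfl⟩ with e | e
  · exact Or.inl e
  rcases S.conj_in_cent ht (S.Dz_cj (S.D1_conj hx) u) with e' | e'
  · right
    rw [e'] at hsx
    exact mul_right_cancel (hsx.trans (S.D1_comm hx).symm)
  · exfalso
    have hρ := congrArg S.ρ hsx
    rw [S.ρ_mul _ _ (S.D1_comm e) (S.D1_comm e'), S.ρ_mul _ _ rfl (S.D1_comm hx), S.ρ_pt e,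
      S.ρ_pt e', S.ρ_pt hx, (S.ρ_ker z rfl).2 S.hzQ, one_mul] at hρ
    by_cases hp : S.pt (cj u z) = S.pt (cj u x)
    · rw [hp, tp_sq] at hρ
      exact tp_ne_one _ hρ.symm
    · exact tp_mul_ne hp hρ

/-- A conjugate of `z` in the centraliser of a pair product and in the component is one of the pair. -/
theorem pair_conj_Dc {x s : K} (hx : x ∈ S.D1) (hs : ∃ u : K, Commute u (z * x) ∧ cj u z = s)
    (hD : s ∈ S.Dc) : s = z ∨ s = x := by
  refine S.pair_conj_cases hx hs ?_
  have hsh : Commute s (z * x) := by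
    obtain ⟨u, hu, rfl⟩ := hs
    rw [← cj_fix_iff.2 hu, commute_cj_iff]
    exact (Commute.refl z).mul_right (S.comm_D1_z hx)
  rcases S.trichotomy S.z_mem_Dc hD with e | ⟨-, e⟩ | ⟨e3, e0⟩
  · rw [e]
  · exact e.symm.eq
  rcases S.trichotomy (S.Dc_of_D1 hx) hD with e | ⟨-, e⟩ | ⟨e3', -⟩
  · exact absurd (by rw [e]; exact S.comm_D1_z hx) e0
  · have h := (hsh.mul_right e.symm)
    rw [mul_assoc, S.D1_sq hx, mul_one] at h
    exact h.eq
  · exfalso
    have hx' : x * s = z * s * (z * x) := by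
      rw [mul_assoc z s, hsh.eq]
      simp only [← mul_assoc, S.z_sq, one_mul]
    have hc : Commute (z * s) (z * x) :=
      (((Commute.refl z).mul_right (S.comm_D1_z hx))).mul_left hsh
    rw [hx', hc.mul_pow, e3, one_mul, pow_three, S.h_sq hx, mul_one] at e3'
    exact S.pair_ne_one hx e3'

theorem pair_not_Q {x : K} (hx : x ∈ S.D1) : z * x ∉ Q := fun h => by
  have h' := S.ρ_of_Q h
  rw [S.ρ_mul _ _ rfl (S.D1_comm hx), S.ρ_of_Q S.hzQ, one_mul, S.ρ_pt hx] at h'
  exact tp_ne_one _ h'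

/-- The centraliser of a pair product through `z`. -/
theorem pair_cent {x v : K} (hx : x ∈ S.D1) (hv : Commute v (z * x)) : v ∈ S.Mst := by
  classical
  let H : Subgroup K := Subgroup.centralizer ({z * x} : Set K)
  have memH : ∀ {w : K}, w ∈ H ↔ Commute w (z * x) := fun {w} =>
    Subgroup.mem_centralizer_singleton_iff
  let h : ↥H := ⟨z * x, memH.2 (Commute.refl _)⟩
  let zH : ↥H := ⟨z, memH.2 ((Commute.refl z).mul_right (S.comm_D1_z hx))⟩
  have hh2 : h * h = 1 := Subtype.ext (S.h_sq hx)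
  let N : Subgroup ↥H :=
    { carrier := {n | n = 1 ∨ n = h}
      one_mem' := Or.inl rfl
      mul_mem' := fun {a b} ha hb => by
        rcases ha with rfl | rfl <;> rcases hb with rfl | rfl <;> simp [hh2]
      inv_mem' := fun {a} ha => by
        rcases ha with rfl | rfl <;> simp [inv_eq_of_mul_eq_one_right hh2] }
  haveI hN : N.Normal := ⟨fun n hn g => by
    have hc : g * h = h * g := Subtype.ext (memH.1 g.2).eq
    rcases hn with rfl | rfl
    · exact Or.inl (by group)
    · exact Or.inr (by rw [hc, mul_inv_cancel_right])⟩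
  let q : ↥H →* ↥H ⧸ N := QuotientGroup.mk' N
  have hq1 : ∀ {a : ↥H}, q a = 1 ↔ a = 1 ∨ a = h := fun {a} =>
    (QuotientGroup.eq_one_iff a)
  have hu : q zH * q zH = 1 := by
    rw [← map_mul, show zH * zH = 1 from Subtype.ext S.z_sq, map_one]
  have hu1 : q zH ≠ 1 := fun e => by
    rcases hq1.1 e with e | e
    · exact S.z_ne (congrArg Subtype.val e)
    · have e' : z = z * x := congrArg Subtype.val e
      exact S.pair_not_Q hx (Eq.subst (motive := fun w => w ∈ Q) e' S.hzQ)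
  -- isolation
  have hiso : Cfsg.IsIsolated (q zH) := by
    intro a ha
    obtain ⟨g, rfl⟩ := QuotientGroup.mk'_surjective N a
    set s : K := cj g.1 z with hs
    have hsd : ∃ u : K, Commute u (z * x) ∧ cj u z = s := ⟨g.1, memH.1 g.2, rfl⟩
    have e : q (zH * (g * zH * g⁻¹) * (g * zH * g⁻¹ * zH)⁻¹) = 1 := by
      simp only [map_mul, map_inv]
      exact mul_inv_eq_one.2 ha.eq
    have hsz : s = z ∨ s = x := by
      rcases hq1.1 e with e | e
      · refine S.pair_conj_cases hx hsd ?_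
        exact (mul_inv_eq_one.1 (congrArg Subtype.val e)).symm
      · have e' : z * s = z * x * (s * z) := mul_inv_eq_iff_eq_mul.1 (congrArg Subtype.val e)
        have hsh : Commute s (z * x) := memH.1 (g * zH * g⁻¹).2
        have hsx : cj s z = x := by
          have hss : s * s = 1 := cj_self_sq S.z_sq
          rw [cj, inv_eq_of_mul_eq_one_right hss]
          calc s * z * s = (z * x) * (z * x) * (s * z) * s := by rw [S.h_sq hx, one_mul]
            _ = z * x * (z * s) * s := by rw [e']; simp only [mul_assoc]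
            _ = z * x * z := by rw [mul_assoc (z * x), mul_assoc z s, hss, mul_one]
            _ = x := by rw [mul_assoc, S.D1_comm hx, ← mul_assoc, S.z_sq, one_mul]
        refine S.pair_conj_Dc hx hsd (S.Dc_of_mem ⟨g.1, rfl⟩ (S.mem_Mst.2 ?_))
        rw [hsx]; exact S.Dc_of_D1 hx
    rw [← map_mul, ← map_inv, ← map_mul]
    rcases hsz with e | e
    · exact congrArg q (Subtype.ext e)
    · rw [← mul_inv_eq_one, ← map_inv, ← map_mul]
      refine hq1.2 (Or.inr (Subtype.ext ?_))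
      show s * z⁻¹ = z * x
      rw [e, S.z_inv, S.D1_comm hx]
  have hZ := zstar_isolated hu hu1 hiso
  set O := oddCore (↥H ⧸ N) with hO
  have hodd : Odd (Nat.card ↥O) := Cores.odd_card_oddCore
  obtain ⟨m, hm⟩ := hodd
  have hpowO : ∀ a ∈ O, a ^ (2 * m + 1) = 1 := fun a ha => by
    rw [← hm]
    exact orderOf_dvd_iff_pow_eq_one.1 (Subgroup.orderOf_dvd_natCard O ha)
  -- odd lifts
  have lift : ∀ a ∈ O, ∃ o : ↥H, q o = a ∧ o ^ (2 * m + 1) = 1 := by
    intro a ha
    obtain ⟨o, rfl⟩ := QuotientGroup.mk'_surjective N a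
    have h1 := hpowO _ ha
    have h2 : (o ^ (2 * m + 1)) * (o ^ (2 * m + 1)) = 1 := by
      rw [← map_pow] at h1
      rcases hq1.1 h1 with e | e <;> rw [e]
      · exact one_mul 1
      · exact hh2
    refine ⟨o ^ (2 * m + 2), ?_, ?_⟩
    · rw [map_pow, show 2 * m + 2 = 2 * m + 1 + 1 by omega, pow_succ, h1, one_mul]
    · rw [← pow_mul, show (2 * m + 2) * (2 * m + 1) = (2 * m + 1) * 2 * (m + 1) by ring,
        pow_mul, pow_mul, sq, h2, one_pow]
  have lift_unique : ∀ o o' : ↥H, q o = q o' → o ^ (2 * m + 1) = 1 → o' ^ (2 * m + 1) = 1 →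
      o = o' := by
    intro o o' e h1 h2
    have hd : q (o⁻¹ * o') = 1 := by rw [map_mul, map_inv, e, inv_mul_cancel]
    rcases hq1.1 hd with e' | e'
    · exact inv_mul_eq_one.1 e'
    · exfalso
      rw [inv_mul_eq_iff_eq_mul] at e'
      have hc : Commute o h := Subtype.ext (memH.1 o.2).eq
      rw [e', hc.mul_pow, h1, one_mul, pow_succ, pow_mul, sq, hh2, one_pow, one_mul] at h2
      exact hu1 (absurd (S.pair_not_Q hx) (not_not.2 (by
        rw [show z * x = 1 from congrArg Subtype.val h2]; exact Q.one_mem)))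
  -- elements centralising the pair
  have fix_z : ∀ o : ↥H, q o ∈ O → o ^ (2 * m + 1) = 1 → Commute o.1 z → o = 1 := by
    intro o hoO hop hoz
    have hox : Commute o.1 x := by
      have h' := (hoz.mul_right (memH.1 o.2))
      rwa [← mul_assoc, S.z_sq, one_mul] at h'
    have hfix : ∀ w, hh w (pv (S.pt x)) = 0 → S.ρ o.1 w = w := by
      intro w hw
      obtain ⟨r, hr, rfl⟩ := S.π_surj w
      have hrx : Commute r x := cj_fix_iff.1 ((S.cj_Q_fix_iff hx hr).2 hw)
      let rH : ↥H := ⟨r, memH.2 ((show Commute r z from S.le r hr).mul_right hrx)⟩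
      let c : ↥H := o * rH * o⁻¹ * rH⁻¹
      have hcQ : c.1 ∈ Q := mul_mem (S.norm o.1 hoz.eq r hr) (inv_mem hr)
      have hcO : q c ∈ O := by
        have e : q c = q o * (q rH * (q o)⁻¹ * (q rH)⁻¹) := by
          simp only [c, map_mul, map_inv, mul_assoc]
        rw [e]
        exact mul_mem hoO ((inferInstance : O.Normal).conj_mem _ (inv_mem hoO) _)
      have h4 : q c ^ 4 = 1 := by
        rw [← map_pow, show c ^ 4 = 1 from Subtype.ext (S.pow_four hcQ), map_one]
      have hc1 : q c = 1 := by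
        have h := Nat.dvd_gcd (orderOf_dvd_of_pow_eq_one h4) (orderOf_dvd_of_pow_eq_one (hpowO _ hcO))
        have hg : Nat.gcd 4 (2 * m + 1) = 1 := by
          have h2 : Nat.Coprime 2 (2 * m + 1) := (Nat.Prime.coprime_iff_not_dvd Nat.prime_two).2 (by omega)
          exact Nat.Coprime.pow_left 2 h2
        rw [hg, Nat.dvd_one, orderOf_eq_one_iff] at h
        exact h
      rcases hq1.1 hc1 with e | e
      · have e' : o.1 * r * o.1⁻¹ = r := mul_inv_eq_one.1 (congrArg Subtype.val e)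
        rw [← S.ρ_π _ hoz.eq r hr, e']
      · exact absurd (Eq.subst (motive := fun w => w ∈ Q) (congrArg Subtype.val e : c.1 = z * x) hcQ)
          (S.pair_not_Q hx)
    have h2 := sq_one_of_fix_perp (S.ρ_iso _ hoz.eq) (pv_iso _) hfix
    have hpow : ∀ n : ℕ, S.ρ (o.1 ^ n) = S.ρ o.1 ^ n := by
      intro n
      induction n with
      | zero => rw [pow_zero, pow_zero, S.ρ_one]
      | succ n ih => rw [pow_succ, pow_succ, S.ρ_mul _ _ (hoz.pow_left n).eq hoz.eq, ih]
    have h1 : o.1 ^ (2 * m + 1) = 1 := congrArg Subtype.val hop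
    have hQ : o.1 ∈ Q := (S.ρ_ker _ hoz.eq).1 (by
      have e := hpow (2 * m + 1)
      rw [h1, S.ρ_one, pow_succ, pow_mul, sq, h2, one_pow, one_mul] at e
      exact e.symm)
    have h4 := S.pow_four hQ
    have h := Nat.dvd_gcd (orderOf_dvd_of_pow_eq_one h4) (orderOf_dvd_of_pow_eq_one h1)
    have hg : Nat.gcd 4 (2 * m + 1) = 1 := by
      have h2 : Nat.Coprime 2 (2 * m + 1) := (Nat.Prime.coprime_iff_not_dvd Nat.prime_two).2 (by omega)
      exact Nat.Coprime.pow_left 2 h2
    rw [hg, Nat.dvd_one, orderOf_eq_one_iff] at h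
    exact Subtype.ext h
  -- members over the point of the pair invert the odd core
  have hmem : ∀ y : K, y ∈ S.D1 → S.pt y = S.pt x → ∃ hy : y ∈ H,
      ∀ a ∈ O, q ⟨y, hy⟩ * a * (q ⟨y, hy⟩)⁻¹ = a⁻¹ := by
    intro y hy hp
    have hyx : Commute y x := (S.commute_iff hy hx).2 (by rw [hp]; exact ort_refl _)
    have hyH : y ∈ H := memH.2 ((show Commute y z from S.D1_comm hy).mul_right hyx)
    refine ⟨hyH, fun a ha => inv_of_fpf (by
      rw [← map_mul, show (⟨y, hyH⟩ : ↥H) * ⟨y, hyH⟩ = 1 from Subtype.ext (S.D1_sq hy), map_one]) ?_ ha⟩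
    intro b hb hc
    obtain ⟨o, rfl, ho⟩ := lift b hb
    have hyo : (⟨y, hyH⟩ : ↥H) * o * (⟨y, hyH⟩ : ↥H)⁻¹ = o := by
      refine lift_unique _ _ ?_ (by rw [conj_pow, ho, mul_one, mul_inv_cancel]) ho
      rw [map_mul, map_mul, map_inv, hc.eq, mul_inv_cancel_right]
    have hyo' : Commute o.1 y :=
      (mul_inv_eq_iff_eq_mul.1 (congrArg Subtype.val hyo)).symm
    have hoH : Commute o.1 (z * x) := memH.1 o.2
    have hD : cj o.1 z ∈ S.Dc := by
      refine S.Dc_of_comm ⟨o.1, rfl⟩ (S.Dc_of_D1 hy) ?_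
      rw [← cj_fix_iff.2 hyo'.eq, commute_cj_iff]
      exact (S.D1_comm hy).symm
    have hoz : Commute o.1 z := by
      rcases S.pair_conj_Dc hx ⟨o.1, hoH, rfl⟩ hD with e | e
      · exact cj_fix_iff.1 e
      · have e2 : cj o.1 x = z := by
          have h' : cj o.1 (z * x) = z * x := cj_fix_iff.2 hoH.eq
          rw [cj_mul', e] at h'
          calc cj o.1 x = (x * x) * cj o.1 x := by rw [S.D1_sq hx, one_mul]
            _ = x * (z * x) := by rw [mul_assoc, h']
            _ = z := by rw [← mul_assoc, S.D1_comm hx, mul_assoc, S.D1_sq hx, mul_one]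
        have h2 : Commute (o.1 ^ 2) z := cj_fix_iff.1 (by rw [sq, ← cj_cj, e, e2])
        have e3 : o.1 = (o.1 ^ 2) ^ (m + 1) := by
          rw [← pow_mul, show 2 * (m + 1) = 2 * m + 1 + 1 by ring, pow_succ,
            show o.1 ^ (2 * m + 1) = 1 from congrArg Subtype.val ho, one_mul]
        rw [e3]
        exact h2.pow_left _
    rw [fix_z o hb ho hoz, map_one]
  -- the centre is a product of members, so the odd core is trivial
  have hcen : ∀ a ∈ O, Commute (q zH) a := by
    intro a ha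
    obtain ⟨r, hr, er⟩ := S.π_surj ((1 : H41.SUSix.K4) • pv (S.pt x))
    have er' : S.π (z * r) = (1 : H41.SUSix.K4) • pv (S.pt x) := (S.π_zmul hr).trans er
    obtain ⟨u1, v1, hu1', hv1, pu1, pv1, -, e1⟩ := S.pair_over hx hr one_ne_zero er
    obtain ⟨u2, v2, hu2, hv2, pu2, pv2, -, e2⟩ := S.pair_over hx (mul_mem S.hzQ hr) one_ne_zero er'
    obtain ⟨m1, i1⟩ := hmem u1 hu1' pu1
    obtain ⟨n1, j1⟩ := hmem v1 hv1 pv1
    obtain ⟨m2, i2⟩ := hmem u2 hu2 pu2
    obtain ⟨n2, j2⟩ := hmem v2 hv2 pv2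
    have key : ∀ s t : ↥H ⧸ N, (∀ b ∈ O, s * b * s⁻¹ = b⁻¹) → (∀ b ∈ O, t * b * t⁻¹ = b⁻¹) →
        ∀ b ∈ O, Commute (s * t) b := by
      intro s t hs ht b hb
      refine mul_inv_eq_iff_eq_mul.1 ?_
      rw [show s * t * b * (s * t)⁻¹ = s * (t * b * t⁻¹) * s⁻¹ by group, ht b hb,
        hs _ (inv_mem hb), inv_inv]
    have ez : zH = ⟨u2, m2⟩ * ⟨v2, n2⟩ * (⟨u1, m1⟩ * ⟨v1, n1⟩)⁻¹ := Subtype.ext (by
      show z = u2 * v2 * (u1 * v1)⁻¹
      rw [← e1, ← e2, mul_inv_cancel_right])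
    rw [ez, map_mul, map_inv, map_mul, map_mul]
    exact (key _ _ i2 j2 a ha).mul_left (key _ _ i1 j1 a ha).inv_left
  have hbot : ∀ a ∈ O, a = 1 := by
    intro a ha
    obtain ⟨o, rfl, ho⟩ := lift a ha
    have hzo : zH * o * zH⁻¹ = o := by
      refine lift_unique _ _ ?_ (by rw [conj_pow, ho, mul_one, mul_inv_cancel]) ho
      rw [map_mul, map_mul, map_inv, (hcen _ ha).eq, mul_inv_cancel_right]
    rw [fix_z o ha ho (mul_inv_eq_iff_eq_mul.1 (congrArg Subtype.val hzo)).symm, map_one]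
  -- conclusion
  let vH : ↥H := ⟨v, memH.2 hv⟩
  have hc := hbot _ (hZ (q vH))
  rw [← map_inv, ← map_mul, ← map_inv, ← map_mul, ← map_mul] at hc
  rcases hq1.1 hc with e | e
  · refine S.Mst_of_comm ?_
    have e' : z * v * z⁻¹ * v⁻¹ = 1 := congrArg Subtype.val e
    exact (mul_inv_eq_iff_eq_mul.1 (mul_inv_eq_one.1 e')).symm
  · refine S.mem_Mst.2 ?_
    have e' : z * v * z⁻¹ * v⁻¹ = z * x := congrArg Subtype.val e
    have e'' : cj v z = x := by
      rw [S.z_inv, mul_assoc, mul_assoc, mul_right_inj] at e'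
      rw [cj, mul_assoc]
      exact e'
    rw [e'']
    exact S.Dc_of_D1 hx

/-- The centraliser of a pair product fixes the point of the pair. -/
theorem pair_fix {d e v : K} (hadj : S.Adj d e) (hv : Commute v (d * e)) {a : K ⧸ S.Mst}
    (ha : d • a = a) : v • a = a := by
  obtain ⟨g, rfl⟩ := S.adj_conj_left hadj
  rw [S.fix_iff] at ha
  subst ha
  have he : cj g⁻¹ e ∈ S.D1 := S.cj_mem_D1 (cj_inv_cj' g z) hadj
  rw [S.smul_mk_eq]
  refine S.pair_cent he ?_
  rw [show z * cj g⁻¹ e = cj g⁻¹ (cj g z * e) by rw [cj_mul', cj_inv_cj'], commute_cj_iff]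
  exact hv

/-- A pair product fixes only the point of the pair. -/
theorem pair_fix_unique {d e : K} (hadj : S.Adj d e) {a b : K ⧸ S.Mst} (ha : d • a = a)
    (hb : (d * e) • b = b) : b = a := by
  have hd2 := S.Dz_sq (S.adj_conj_left hadj)
  have h2 : d * e * (d * e) = 1 := by
    have hc := (S.adj_commute hadj).eq
    have he2 : e * e = 1 := S.Dz_sq (S.adj_conj_left (S.adj_symm hadj))
    calc d * e * (d * e) = d * (e * d) * e := by simp only [mul_assoc]
      _ = (d * d) * (e * e) := by rw [← hc]; simp only [mul_assoc]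
      _ = 1 := by rw [hd2, he2, one_mul]
  obtain ⟨f, hf, hfc⟩ := S.exists_commute_Xp h2 hb
  exact S.fix_unique hf.1 hf.2 (S.pair_fix hadj hfc.symm ha)

end Seed

end Cfsg.Agent.H49.USix
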