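import Cfsg.Agent.H49.USix.PlaneModel

/-!
No product of three mutually adjacent members off a line is conjugate to `z`: otherwise the normaliser
of the elementary abelian group of order `2 ^ 9` of a plane would contain an element of order 43.
-/

set_option autoImplicit false
set_option linter.unusedSectionVars false
set_option maxRecDepth 20000

namespace Cfsg.Agent.H49.USix

open Cfsg Matrix
open Cfsg.Agent.H41.SUSix (K4 ap ω₄)
open Cfsg.Agent.H92.ExtraForm (zp zp_inj zp_add)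
open H76.LocallyS3 (cj cj_cj cj_injective commute_cj_iff)

theorem pol4_symm (u v : W4) : pol4 u v = pol4 v u := by
  rw [pol4, pol4, add_comm u, add_assoc, add_assoc, add_comm (wt4 u)]

/-- The polar as an additive map. -/
noncomputable def polHom4 : W4 →+ W4 →+ ZMod 2 :=
  AddMonoidHom.mk' (fun u => AddMonoidHom.mk' (pol4 u) (fun v w => by
    rw [pol4_eq, pol4_eq, pol4_eq, hh_add_right, H41.LFi.trK_add]))
    fun u v => AddMonoidHom.ext fun w => by
      show pol4 (u + v) w = pol4 u w + pol4 v w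
      rw [pol4_eq, pol4_eq, pol4_eq, hh_add_left, H41.LFi.trK_add]

theorem k4_trace_zero : ∀ b : K4, (∀ c : K4, H41.LFi.trK (c * b) = 0) → b = 0 := by decide +kernel

theorem hh_zero_of_pol {w v : W4} (h : ∀ c : K4, pol4 (c • v) w = 0) : hh w v = 0 :=
  hh_zero_symm.1 (k4_trace_zero _ fun c => by rw [← hh_smul_left, ← pol4_eq]; exact h c)

theorem isQuad4 : H92.F2Forms.IsQuad (fun u : W4 => wt4 u) polHom4 :=
  ⟨fun u v => by
    show wt4 (u + v) = wt4 u + wt4 v + pol4 u v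
    have key : ∀ a b c : ZMod 2, a = b + c + (a + b + c) := by decide
    exact key _ _ _,
  fun w h => hh_nondeg fun v => by
    rw [hh_zero_symm]
    exact hh_zero_of_pol fun c => h (c • v)⟩

theorem singular_bound {W : AddSubgroup W4} (h : ∀ w ∈ W, wt4 w = 0) : Nat.card W ≤ 16 := by
  have h1 := isQuad4.card_sq_le h
  have h2 : Nat.card W4 = 256 := by
    rw [Nat.card_fun, Nat.card_fin, Nat.card_eq_fintype_card]
    decide +kernel
  rw [h2] at h1
  by_contra hcon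
  push Not at hcon
  have := Nat.mul_le_mul hcon hcon
  norm_num at this
  omega

namespace Seed

variable {K : Type*} [Group K] [Finite K] {z : K} {Q : Subgroup K} (S : Seed z Q)

/-- The twenty-one members of the base plane. -/
def P21 : Set K := insert z {x | x ∈ S.D1 ∧ S.pt x ∈ line i₀ j₀}

/-- The plane group. -/
def Ab : Subgroup K := Subgroup.closure S.P21

/-- An elementary abelian subgroup through `z`. -/
structure Elem2 (z : K) (Y : Subgroup K) : Prop where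
  hz : z ∈ Y
  sq : ∀ y ∈ Y, y * y = 1
  comm : ∀ a ∈ Y, ∀ b ∈ Y, a * b = b * a

include S

theorem P21_z {x : K} (hx : x ∈ S.P21) : x * z = z * x := by
  rcases hx with e | h
  · rw [e]
  · exact S.D1_comm h.1

theorem P21_comm {x y : K} (hx : x ∈ S.P21) (hy : y ∈ S.P21) : Commute x y := by
  rcases hx with e | hx
  · rw [e]; exact (S.P21_z hy).symm
  rcases hy with e | hy
  · rw [e]; exact S.D1_comm hx.1
  exact (S.commute_iff hx.1 hy.1).2 (line_clique ort_base (by decide) hx.2 hy.2)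

theorem P21_sq {x : K} (hx : x ∈ S.P21) : x * x = 1 := by
  rcases hx with e | h
  · rw [e, S.z_sq]
  · exact S.D1_sq h.1

theorem P21_Dc {x : K} (hx : x ∈ S.P21) : x ∈ insert z S.D1 := hx.imp id And.left

theorem Ab_comm : ∀ a ∈ S.Ab, ∀ b ∈ S.Ab, a * b = b * a := by
  have h1 : ∀ a ∈ S.Ab, ∀ p ∈ S.P21, Commute a p := fun a ha p hp =>
    Subgroup.closure_induction (p := fun a _ => Commute a p) (fun x hx => S.P21_comm hx hp)
      (Commute.one_left p) (fun _ _ _ _ => Commute.mul_left) (fun _ _ => Commute.inv_left) ha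
  exact fun a ha b hb => Subgroup.closure_induction (p := fun b _ => Commute a b)
    (fun x hx => h1 a ha x hx) (Commute.one_right a) (fun _ _ _ _ => Commute.mul_right)
    (fun _ _ => Commute.inv_right) hb

theorem Ab_elem : Elem2 z S.Ab := by
  refine ⟨Subgroup.subset_closure (Or.inl rfl), fun y hy => ?_, S.Ab_comm⟩
  have h : y ∈ S.Ab ∧ y * y = 1 := by
    refine Subgroup.closure_induction (p := fun y _ => y ∈ S.Ab ∧ y * y = 1) ?_ ?_ ?_ ?_ hy
    · exact fun x hx => ⟨Subgroup.subset_closure hx, S.P21_sq hx⟩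
    · exact ⟨one_mem _, one_mul 1⟩
    · rintro a b _ _ ⟨ha, ha'⟩ ⟨hb, hb'⟩
      refine ⟨mul_mem ha hb, ?_⟩
      rw [mul_assoc, ← mul_assoc b, S.Ab_comm b hb a ha, mul_assoc a b, hb', mul_one, ha']
    · rintro a _ ⟨ha, ha'⟩
      exact ⟨inv_mem ha, by rw [← _root_.mul_inv_rev, ha', inv_one]⟩
  exact h.2

variable {Y : Subgroup K}

theorem elem_z (hY : Elem2 z Y) {y : K} (hy : y ∈ Y) : y * z = z * y := hY.comm y hy z hY.hz

/-- The action of an elementary subgroup. -/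
noncomputable def imY (hY : Elem2 z Y) : ↥Y →* Equiv.Perm W4 :=
  MonoidHom.mk' (fun y => S.ρ y) fun a b =>
    S.ρ_mul a b (S.elem_z hY a.2) (S.elem_z hY b.2)

theorem card_split (hY : Elem2 z Y) :
    Nat.card ↥Y = Nat.card ↥(Y ⊓ Q) * Nat.card ↥(S.imY hY).range := by
  have hk : (S.imY hY).ker = (Y ⊓ Q).subgroupOf Y := by
    ext y
    rw [MonoidHom.mem_ker, Subgroup.mem_subgroupOf, Subgroup.mem_inf, and_iff_right y.2]
    exact S.ρ_ker _ (S.elem_z hY y.2)
  rw [← Subgroup.card_mul_index (S.imY hY).ker, Subgroup.index_ker, hk,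
    Nat.card_congr (Subgroup.subgroupOfEquivOfLe inf_le_left).toEquiv]

theorem range_iso (hY : Elem2 z Y) :
    (∀ e ∈ (S.imY hY).range, Iso e) ∧ (∀ e ∈ (S.imY hY).range, e * e = 1) ∧
      ∀ a ∈ (S.imY hY).range, ∀ b ∈ (S.imY hY).range, a * b = b * a := by
  refine ⟨?_, ?_, ?_⟩
  · rintro _ ⟨y, rfl⟩
    exact S.ρ_iso _ (S.elem_z hY y.2)
  · rintro _ ⟨y, rfl⟩
    rw [← map_mul, show y * y = 1 from Subtype.ext (hY.sq _ y.2), map_one]
  · rintro _ ⟨a, rfl⟩ _ ⟨b, rfl⟩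
    rw [← map_mul, ← map_mul, show a * b = b * a from Subtype.ext (hY.comm _ a.2 _ b.2)]

theorem card_core_le (hY : Elem2 z Y) : Nat.card ↥(Y ⊓ Q) ≤ 32 := by
  classical
  let f : ↥(Y ⊓ Q) →* Multiplicative W4 := MonoidHom.mk' (fun q => Multiplicative.ofAdd (S.π q))
    fun a b => by rw [← ofAdd_add]; exact congrArg _ (S.π_mul a a.2.2 b b.2.2)
  have hk : Nat.card f.ker ≤ 2 := by
    let g : f.ker → Bool := fun q => decide (((q : ↥(Y ⊓ Q)) : K) = 1)
    have hg : Function.Injective g := by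
      intro a b e
      have key : ∀ q : f.ker, ((q : ↥(Y ⊓ Q)) : K) = 1 ∨ ((q : ↥(Y ⊓ Q)) : K) = z := fun q =>
        (S.π_zero _ q.1.2.2).1 (ofAdd_eq_one.1 q.2)
      simp only [g, decide_eq_decide] at e
      refine Subtype.ext (Subtype.ext ?_)
      rcases key a with ha | ha <;> rcases key b with hb | hb
      · exact ha.trans hb.symm
      · exact ha.trans (e.1 ha).symm
      · exact (e.2 hb).trans hb.symm
      · exact ha.trans hb.symm
    simpa using Nat.card_le_card_of_injective g hg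
  have hr : Nat.card f.range ≤ 16 := by
    let W : AddSubgroup W4 :=
      { carrier := {w | ∃ q ∈ Y ⊓ Q, S.π q = w}
        zero_mem' := ⟨1, one_mem _, S.π_one⟩
        add_mem' := by
          rintro _ _ ⟨a, ha, rfl⟩ ⟨b, hb, rfl⟩
          exact ⟨a * b, mul_mem ha hb, S.π_mul a ha.2 b hb.2⟩
        neg_mem' := by
          rintro _ ⟨a, ha, rfl⟩
          refine ⟨a, ha, funext fun i => ?_⟩
          have key : ∀ x : K4, x = -x := by decide +kernel
          exact key _ }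
    refine le_trans ?_ (singular_bound (W := W) ?_)
    · refine Nat.card_le_card_of_injective (fun e : f.range =>
        (⟨Multiplicative.toAdd e.1, by
          obtain ⟨q, hq⟩ := e.2
          exact ⟨q.1, q.2, by rw [← hq]; rfl⟩⟩ : W)) fun a b h => ?_
      have h' : Multiplicative.toAdd a.1 = Multiplicative.toAdd b.1 := congrArg (fun w : W => (w : W4)) h
      exact Subtype.ext (Multiplicative.toAdd.injective h')
    · rintro _ ⟨q, hq, rfl⟩
      exact (S.sq_iff hq.2).1 (hY.sq q hq.1)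
  rw [← Subgroup.card_mul_index f.ker, Subgroup.index_ker]
  exact Nat.mul_le_mul hk hr

theorem range_le (hY : Elem2 z Y) (hL : ∀ k ∈ line i₀ j₀, tp k ∈ (S.imY hY).range) :
    Nat.card ↥(S.imY hY).range ≤ 16 := by
  obtain ⟨h1, h2, h3⟩ := S.range_iso hY
  exact card_le_sixteen h1 h2 fun e he k hk => h3 e he _ (hL k hk)

theorem lift_L (k : Fin 45) (hk : k ∈ line i₀ j₀) :
    tp k ∈ (S.imY S.Ab_elem).range := by
  obtain ⟨x, hx, rfl⟩ := S.exists_member k
  exact ⟨⟨x, Subgroup.subset_closure (Or.inr ⟨hx, hk⟩)⟩, S.ρ_pt hx⟩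

theorem scal_mem {k : Fin 45} (hk : k ∈ line i₀ j₀) (a : K4) :
    ∃ q ∈ S.Ab ⊓ Q, S.π q = a • pv k := by
  by_cases ha : a = 0
  · exact ⟨1, one_mem _, by rw [S.π_one, ha, zero_smul]⟩
  obtain ⟨x, hx, rfl⟩ := S.exists_member k
  obtain ⟨q, hq, e⟩ := S.π_surj (a • pv (S.pt x))
  obtain ⟨u, v, hu, hv, pu, pv', -, e'⟩ := S.pair_over hx hq ha e
  refine ⟨q, ⟨?_, hq⟩, e⟩
  rw [e']
  exact mul_mem (Subgroup.subset_closure (Or.inr ⟨hu, by rw [pu]; exact hk⟩))
    (Subgroup.subset_closure (Or.inr ⟨hv, by rw [pv']; exact hk⟩))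

theorem span_mem {q : K} (hq : q ∈ Q) {a b : K4} (h : S.π q = a • pv i₀ + b • pv j₀) : q ∈ S.Ab := by
  obtain ⟨u, hu, eu⟩ := S.scal_mem (left_mem_line ort_base) a
  obtain ⟨v, hv, ev⟩ := S.scal_mem (right_mem_line ort_base) b
  have hπ : S.π (u * v) = S.π q := by rw [S.π_mul u hu.2 v hv.2, eu, ev, h]
  rcases S.π_eq (mul_mem hu.2 hv.2) hq hπ with e | e
  · rw [e]; exact mul_mem hu.1 hv.1
  · rw [e]; exact mul_mem S.Ab_elem.hz (mul_mem hu.1 hv.1)

theorem core_Ab_ge : 32 ≤ Nat.card ↥(S.Ab ⊓ Q) := by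
  classical
  have h : ∀ p : K4 × K4, ∃ q ∈ Q, S.π q = p.1 • pv i₀ + p.2 • pv j₀ := fun p => S.π_surj _
  choose q hq hπ using h
  let f : (K4 × K4) × Bool → ↥(S.Ab ⊓ Q) := fun p => cond p.2
    ⟨z * q p.1, mul_mem S.Ab_elem.hz (S.span_mem (hq _) (hπ _)), mul_mem S.hzQ (hq _)⟩
    ⟨q p.1, S.span_mem (hq _) (hπ _), hq _⟩
  have hf : Function.Injective f := by
    rintro ⟨p, e⟩ ⟨p', e'⟩ heq
    have hπeq : ∀ p e, S.π ((f (p, e) : ↥(S.Ab ⊓ Q)) : K) = p.1 • pv i₀ + p.2 • pv j₀ := by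
      intro p e
      cases e
      · exact hπ p
      · exact (S.π_zmul (hq p)).trans (hπ p)
    have h1 := hπeq p e
    rw [heq, hπeq p' e'] at h1
    have hp : p = p' := by
      have h2 := congrArg (fun w => hh w) h1
      obtain ⟨w, w1, w2⟩ := exists_values (show i₀ ≠ j₀ by decide) 1 0
      obtain ⟨w', w1', w2'⟩ := exists_values (show i₀ ≠ j₀ by decide) 0 1
      have a1 := congrArg (fun u => hh u w) h1
      have a2 := congrArg (fun u => hh u w') h1
      simp only [hh_add_left, hh_smul_left] at a1 a2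
      rw [hh_swap w (pv i₀), hh_swap w (pv j₀)] at a1
      rw [hh_swap w' (pv i₀), hh_swap w' (pv j₀)] at a2
      simp only [w1, w2, w1', w2', one_pow,
        zero_pow two_ne_zero, mul_one, mul_zero, add_zero, zero_add] at a1 a2
      exact Prod.ext a1.symm a2.symm
    subst hp
    have hval := congrArg Subtype.val heq
    cases e <;> cases e' <;> first
      | rfl
      | exact absurd (mul_eq_right.1 hval.symm) S.z_ne
      | exact absurd (mul_eq_right.1 hval) S.z_ne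
  have := Nat.card_le_card_of_injective f hf
  simp only [Nat.card_prod, Nat.card_eq_fintype_card (α := K4), Nat.card_eq_fintype_card (α := Bool),
    H41.SUSix.hK, Fintype.card_bool] at this
  omega

theorem exists_code (m n : Fin 5) : code5 m n ∈ (S.imY S.Ab_elem).range := by
  by_cases h : m = n
  · subst h
    rw [code5_diag]
    exact S.lift_L _ (lp_mem m)
  · rw [code5_pair h]
    exact mul_mem (S.lift_L _ (lp_mem m)) (S.lift_L _ (lp_mem n))

theorem range_Ab_ge : 16 ≤ Nat.card ↥(S.imY S.Ab_elem).range := by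
  classical
  let g : Option Pair5 → ↥(S.imY S.Ab_elem).range := fun o =>
    o.elim 1 fun p => ⟨code5 p.1.1 p.1.2, S.exists_code _ _⟩
  have hg : Function.Injective g := by
    rintro (_ | p) (_ | r) h
    · rfl
    · exact absurd (congrArg Subtype.val h).symm (code5_ne_one r.2)
    · exact absurd (congrArg Subtype.val h) (code5_ne_one p.2)
    · obtain ⟨h1, h2⟩ := code5_inj p.2 r.2 (congrArg Subtype.val h)
      exact congrArg some (Subtype.ext (Prod.ext h1 h2))
  have := Nat.card_le_card_of_injective g hg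
  rwa [Nat.card_eq_fintype_card, Fintype.card_option, card_Pair5] at this

theorem card_Ab : Nat.card ↥S.Ab = 512 := by
  rw [S.card_split S.Ab_elem]
  have h1 := S.card_core_le S.Ab_elem
  have h2 := S.range_le S.Ab_elem S.lift_L
  have h3 := S.core_Ab_ge
  have h4 := S.range_Ab_ge
  rw [show Nat.card ↥(S.Ab ⊓ Q) = 32 by omega, show Nat.card ↥(S.imY S.Ab_elem).range = 16 by omega]

theorem hh_of_commute {y q : K} (hy : y * z = z * y) {k : Fin 45} (hk : S.ρ y = tp k) (hq : q ∈ Q)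
    (h : y * q = q * y) : hh (S.π q) (pv k) = 0 := by
  have e := S.π_cj hy hq
  rw [cj_fix_iff.2 h, hk, tp_apply, eq_comm, add_eq_left, smul_eq_zero] at e
  exact e.resolve_right (pv_ne k)

/-- The elementary subgroups of order `2 ^ 9` over the base line coincide with the plane group. -/
theorem eq_Ab (hY : Elem2 z Y) (hcard : 512 ≤ Nat.card ↥Y)
    (hL : ∀ k ∈ line i₀ j₀, tp k ∈ (S.imY hY).range) : Y = S.Ab := by
  classical
  have h1 := S.card_core_le hY
  have h2 := S.range_le hY hL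
  rw [S.card_split hY] at hcard
  have hsub : Y ⊓ Q ≤ S.Ab ⊓ Q := by
    rintro q ⟨hqY, hq⟩
    have hh0 : ∀ k ∈ line i₀ j₀, hh (S.π q) (pv k) = 0 := fun k hk => by
      obtain ⟨y, hy⟩ := hL k hk
      exact S.hh_of_commute (S.elem_z hY y.2) hy hq (hY.comm _ y.2 _ hqY)
    obtain ⟨a, b, e⟩ := perp_base (hh0 _ (left_mem_line ort_base)) (hh0 _ (right_mem_line ort_base))
    exact ⟨S.span_mem hq e, hq⟩
  have hQe : Y ⊓ Q = S.Ab ⊓ Q := Subgroup.eq_of_le_of_card_ge hsub (by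
    have := S.card_core_le S.Ab_elem
    nlinarith)
  have hle : Y ≤ S.Ab := by
    intro y hy
    obtain ⟨e, he, hρ⟩ : ∃ e ∈ S.Ab, S.ρ e = S.ρ y := by
      by_cases h : S.ρ y = 1
      · exact ⟨1, one_mem _, S.ρ_one.trans h.symm⟩
      obtain ⟨r1, r2, r3⟩ := S.range_iso hY
      have hmem : S.ρ y ∈ (S.imY hY).range := ⟨⟨y, hy⟩, rfl⟩
      obtain ⟨m, n, -, he⟩ := mem_code5 (r1 _ hmem) (r2 _ hmem) h fun k hk => r3 _ hmem _ (hL k hk)
      obtain ⟨w, hw⟩ := S.exists_code m n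
      exact ⟨w, w.2, hw.trans he.symm⟩
    have hez := S.elem_z S.Ab_elem he
    have hyz := S.elem_z hY hy
    have hu : e⁻¹ * y ∈ Q := S.mem_Q_of_ρ hez hyz hρ
    have hcomm : ∀ k ∈ line i₀ j₀, hh (S.π (e⁻¹ * y)) (pv k) = 0 := fun k hk => hh_zero_of_pol fun c => by
      obtain ⟨q, hq, hqπ⟩ := S.scal_mem hk c
      rw [← hqπ, ← S.comm_iff hq.2 hu]
      have hqY : q ∈ Y := (hQe ▸ hq : q ∈ Y ⊓ Q).1
      exact ((show Commute q e⁻¹ from S.Ab_comm q hq.1 _ (inv_mem he)).mul_right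
        (show Commute q y from hY.comm q hqY y hy)).eq
    obtain ⟨a, b, hab⟩ := perp_base (hcomm _ (left_mem_line ort_base))
      (hcomm _ (right_mem_line ort_base))
    have := mul_mem he (S.span_mem hu hab)
    rwa [mul_inv_cancel_left] at this
  refine Subgroup.eq_of_le_of_card_ge hle ?_
  rw [S.card_Ab, S.card_split hY]
  exact hcard

/-! ### Pair products inside the plane group -/

theorem ort_line {j : Fin 45} (h : ∀ k ∈ line i₀ j₀, Ort k j) : j ∈ line i₀ j₀ :=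
  mem_line.2 ⟨h _ (left_mem_line ort_base), h _ (right_mem_line ort_base)⟩

theorem D1_in_Ab {x : K} (hx : x ∈ S.D1) (h : x ∈ S.Ab) : x ∈ S.P21 := by
  refine Or.inr ⟨hx, S.ort_line fun k hk => ?_⟩
  obtain ⟨y, hy, rfl⟩ := S.exists_member k
  exact (S.commute_iff hy hx).1 (S.Ab_comm y (Subgroup.subset_closure (Or.inr ⟨hy, hk⟩)) x h)

theorem pair_in_Ab {c : K} (h : S.IsPair c) (hc : c ∈ S.Ab) :
    ∃ a b : K, a ∈ S.P21 ∧ b ∈ S.P21 ∧ a ≠ b ∧ c = a * b := by
  obtain ⟨a, b, ha, hb, hadj, rfl⟩ := h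
  have hne := S.adj_ne hadj
  by_cases haz : a = z
  · rw [haz] at hc hne ⊢
    refine ⟨z, b, Or.inl rfl, ?_, hne, rfl⟩
    have hb' : b ∈ S.D1 := hb.resolve_left fun e => hne e.symm
    refine S.D1_in_Ab hb' ?_
    have := mul_mem S.Ab_elem.hz hc
    rwa [← mul_assoc, S.z_sq, one_mul] at this
  have ha' : a ∈ S.D1 := ha.resolve_left haz
  by_cases hbz : b = z
  · rw [hbz] at hc ⊢
    refine ⟨a, z, S.D1_in_Ab ha' ?_, Or.inl rfl, haz, rfl⟩
    have := mul_mem hc S.Ab_elem.hz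
    rwa [mul_assoc, S.z_sq, mul_one] at this
  have hb' : b ∈ S.D1 := hb.resolve_left hbz
  suffices hp : S.pt a ∈ line i₀ j₀ ∧ S.pt b ∈ line i₀ j₀ from
    ⟨a, b, Or.inr ⟨ha', hp.1⟩, Or.inr ⟨hb', hp.2⟩, hne, rfl⟩
  have hcz := S.cz_mul (S.D1_comm ha') (S.D1_comm hb')
  have hρ : S.ρ (a * b) = tp (S.pt a) * tp (S.pt b) := by
    rw [S.ρ_mul a b (S.D1_comm ha') (S.D1_comm hb'), S.ρ_pt ha', S.ρ_pt hb']
  by_cases hp : S.pt a = S.pt b
  · have hq : a * b ∈ Q := (S.ρ_ker _ hcz).1 (by rw [hρ, hp, tp_sq])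
    obtain ⟨r, hr, e⟩ := S.fibre_orbit ha' hb' hp
    obtain ⟨m, hm, em, hπ⟩ := S.cj_Q (S.D1_comm ha') (S.D1_sq ha') (S.ρ_pt ha') hr
    have hne0 : hh (S.π r) (pv (S.pt a)) ≠ 0 := fun h0 =>
      hne (by rw [← e, (S.cj_Q_fix_iff ha' hr).2 h0])
    have hba : b * a = m := by rw [← e, em, mul_assoc, S.D1_sq ha', mul_one]
    have hab : a * b = m := ((S.adj_commute hadj).eq).trans hba
    have hline : S.pt a ∈ line i₀ j₀ := S.ort_line fun k hk => by
      obtain ⟨y, hy, rfl⟩ := S.exists_member k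
      have h0 := S.hh_of_commute (S.D1_comm hy) (S.ρ_pt hy) hq
        (S.Ab_comm y (Subgroup.subset_closure (Or.inr ⟨hy, hk⟩)) _ hc)
      rw [hab, hπ, hh_smul_left, mul_eq_zero, or_iff_right hne0] at h0
      exact ort_symm (ort_iff.2 h0)
    exact ⟨hline, hp ▸ hline⟩
  · have hr : tp (S.pt a) * tp (S.pt b) ∈ (S.imY S.Ab_elem).range := ⟨⟨_, hc⟩, hρ⟩
    obtain ⟨r1, r2, r3⟩ := S.range_iso S.Ab_elem
    obtain ⟨m, n, hmn, he⟩ := mem_code5 (r1 _ hr) (r2 _ hr)
      (fun h => hp (tp_injective (by rw [eq_inv_of_mul_eq_one_left h, tp_inv])))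
      fun k hk => r3 _ hr _ (S.lift_L k hk)
    have hmn' : m ≠ n := fun h => tp_mul_ne hp (he.trans (by rw [h, code5_diag]))
    -- the two points are fixed by the product, so they lie on the line
    obtain ⟨s, hs, hs1⟩ : ∃ s, Ort s (S.pt b) ∧ ¬ Ort s (S.pt a) := by
      obtain ⟨s, s1, s2⟩ := exists_sep (Ne.symm hp)
      exact ⟨s, ort_symm s1, fun h => s2 (ort_symm h)⟩
    have hfix : ∀ k ∈ line i₀ j₀, hh (pv k) (pv (S.pt a)) = 0 ∧ hh (pv k) (pv (S.pt b)) = 0 := by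
      intro k hk
      have e := Equiv.congr_fun he (pv k)
      have hcl : ∀ l, Ort k l → tp l (pv k) = pv k := fun l hl => by
        rw [tp_apply, ort_iff.1 hl, zero_smul, add_zero]
      rw [code5_pair hmn', Equiv.Perm.mul_apply, Equiv.Perm.mul_apply,
        hcl _ (line_clique ort_base (by decide) hk (lp_mem n)),
        hcl _ (line_clique ort_base (by decide) hk (lp_mem m)), tp_apply, tp_apply, hh_add_left,
        hh_smul_left, ort_iff.1 (ort_symm ((S.commute_iff ha' hb').1 (S.adj_commute hadj))), mul_zero,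
        add_zero, add_assoc, add_eq_left] at e
      have h0 : hh (pv k) (pv (S.pt b)) = 0 := by
        by_contra hb0
        refine hp (pv_point (c := (hh (pv k) (pv (S.pt b)))⁻¹ * hh (pv k) (pv (S.pt a))) ?_).symm
        have key : ∀ p r : W4, p + r = 0 → p = r := fun p r h => by
          rw [← add_zero p, ← vec_add_self r, ← add_assoc, h, zero_add]
        rw [mul_smul, ← key _ _ e, inv_smul_smul₀ hb0]
      rw [h0, zero_smul, zero_add, smul_eq_zero] at e
      exact ⟨e.resolve_right (pv_ne _), h0⟩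
    exact ⟨S.ort_line fun k hk => ort_iff.2 (hfix k hk).1, S.ort_line fun k hk => ort_iff.2 (hfix k hk).2⟩

theorem fibre_pairs {u v u' v' : K} (hu : u ∈ S.D1) (hv : v ∈ S.D1) (hu' : u' ∈ S.D1) (hv' : v' ∈ S.D1)
    (p1 : S.pt v = S.pt u) (p2 : S.pt u' = S.pt u) (p3 : S.pt v' = S.pt u) (d1 : v ≠ u) (d2 : u' ≠ u)
    (d3 : v' ≠ u) (d4' : u' ≠ v) : u * v ≠ u' * v' := by
  intro e
  obtain ⟨rb, hrb, eb⟩ := S.fibre_orbit hu hv p1.symm
  obtain ⟨rc, hrc, ec⟩ := S.fibre_orbit hu hu' p2.symm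
  obtain ⟨mb, hmb, emb, hπb⟩ := S.cj_Q (S.D1_comm hu) (S.D1_sq hu) (S.ρ_pt hu) hrb
  obtain ⟨mc, hmc, emc, hπc⟩ := S.cj_Q (S.D1_comm hu) (S.D1_sq hu) (S.ρ_pt hu) hrc
  rw [eb] at emb
  rw [ec] at emc
  have hu0 : hh (pv (S.pt u)) (pv (S.pt u)) = 0 := pv_iso _
  have cb : mb * u = u * mb :=
    cj_fix_iff.1 ((S.cj_Q_fix_iff hu hmb).2 (by rw [hπb, hh_smul_left, hu0, mul_zero]))
  have cc : mc * u = u * mc :=
    cj_fix_iff.1 ((S.cj_Q_fix_iff hu hmc).2 (by rw [hπc, hh_smul_left, hu0, mul_zero]))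
  set b := hh (S.π rb) (pv (S.pt u))
  set c := hh (S.π rc) (pv (S.pt u))
  have hb0 : b ≠ 0 := fun h => d1 (by rw [← eb]; exact (S.cj_Q_fix_iff hu hrb).2 h)
  have hc0 : c ≠ 0 := fun h => d2 (by rw [← ec]; exact (S.cj_Q_fix_iff hu hrc).2 h)
  have hbc : b ≠ c := fun h => d4' (by rw [← eb, ← ec]; exact (S.cj_Q_eq_iff hu hrc hrb).2 h.symm)
  -- the fourth member
  obtain ⟨rd, hrd, ed⟩ := S.fibre_orbit hu hv' p3.symm
  set d := hh (S.π rd) (pv (S.pt u))
  obtain ⟨md, hmd, emd, hπd⟩ := S.cj_Q (S.D1_comm hu) (S.D1_sq hu) (S.ρ_pt hu) hrd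
  rw [ed] at emd
  have huv : u * v = mb := by rw [emb, ← mul_assoc, ← cb, mul_assoc, S.D1_sq hu, mul_one]
  have cd : md * u = u * md :=
    cj_fix_iff.1 ((S.cj_Q_fix_iff hu hmd).2 (by rw [hπd, hh_smul_left, hu0, mul_zero]))
  have huv' : u' * v' = mc * md := by
    rw [emc, emd, cd, mul_assoc, ← mul_assoc u, S.D1_sq hu, one_mul]
  rw [huv, huv'] at e
  have hd : d = b + c := by
    have h := congrArg S.π e
    rw [S.π_mul mc hmc md hmd, hπb, hπc, hπd, ← add_smul] at h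
    have h' := smul_left_injective K4 (pv_ne _) h
    rw [h', add_comm (c + d), ← add_assoc, k4_add_self, zero_add]
  have hprod : v' = cj (rb * rc) u := by
    rw [← ed]
    refine (S.cj_Q_eq_iff hu hrd (mul_mem hrb hrc)).2 ?_
    rw [S.π_mul rb hrb rc hrc, hh_add_left]
    exact hd
  have hpol : pol4 (S.π mc) (S.π rb) = 1 := by
    have key : ∀ b c : K4, b ≠ 0 → c ≠ 0 → b ≠ c → H41.LFi.trK (c ^ 2 * b) = 1 := by decide +kernel
    rw [pol4_symm, pol4_eq, hπc, hh_smul_right]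
    exact key b c hb0 hc0 hbc
  have hsm : cj rb mc = z * mc := by
    have h' := S.comm mc hmc rb hrb
    rw [hpol] at h'
    rw [cj, h', zp, if_neg one_ne_zero, show mc * rb * z = z * (mc * rb) from
      S.le _ (mul_mem hmc hrb), mul_assoc, mul_assoc, mul_inv_cancel, mul_one]
  have hmd' : md = z * mc * mb := by
    refine mul_right_cancel (b := u) ?_
    rw [← emd, hprod, ← cj_cj, ec, emc, cj_mul', hsm, eb, emb]
    group
  have hmc2 : mc * mc = 1 := (S.sq_iff hmc).2 (by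
    rw [hπc, ← iso_iff, hh_smul_left, hh_smul_right, hu0, mul_zero, mul_zero])
  rw [hmd', ← mul_assoc, ← mul_assoc, S.le mc hmc, mul_assoc z mc mc, hmc2, mul_one] at e
  exact S.z_ne (mul_eq_right.1 e.symm)

theorem pair_unique {u v u' v' : K} (hu : u ∈ S.P21) (hv : v ∈ S.P21) (hu' : u' ∈ S.P21)
    (hv' : v' ∈ S.P21) (hne : u ≠ v) (hne' : u' ≠ v') (e : u * v = u' * v') :
    (u' = u ∧ v' = v) ∨ (u' = v ∧ v' = u) := by
  have euv := (S.P21_comm hu hv).eq
  have euv' := (S.P21_comm hu' hv').eq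
  by_cases h1 : u' = u
  · subst h1; exact Or.inl ⟨rfl, (mul_left_cancel e).symm⟩
  by_cases h2 : v' = v
  · subst h2; exact Or.inl ⟨(mul_right_cancel e).symm, rfl⟩
  by_cases h3 : u' = v
  · subst h3; exact Or.inr ⟨rfl, (mul_left_cancel (euv.symm.trans e)).symm⟩
  by_cases h4 : v' = u
  · subst h4; exact Or.inr ⟨(mul_left_cancel (e.trans euv')).symm, rfl⟩
  exfalso
  -- a product with `z` has rank one
  have rank1 : ∀ x : K, x ∈ S.D1 → ∀ a b : K, a ∈ S.D1 → b ∈ S.D1 → z * x ≠ a * b := by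
    intro x hx a b ha hb h
    have hρ := congrArg S.ρ h
    rw [S.ρ_mul z x rfl (S.D1_comm hx), S.ρ_of_Q S.hzQ, one_mul, S.ρ_pt hx,
      S.ρ_mul a b (S.D1_comm ha) (S.D1_comm hb), S.ρ_pt ha, S.ρ_pt hb] at hρ
    by_cases hp : S.pt a = S.pt b
    · rw [hp, tp_sq] at hρ; exact tp_ne_one _ hρ
    · exact tp_mul_ne hp hρ.symm
  rcases hu with hu | hu
  · subst hu
    have hvD := hv.resolve_left (fun e => hne e.symm)
    exact rank1 v hvD.1 u' v' (hu'.resolve_left h1).1 (hv'.resolve_left h4).1 e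
  rcases hv with hv | hv
  · subst hv
    exact rank1 u hu.1 u' v' (hu'.resolve_left h3).1 (hv'.resolve_left h2).1 (euv.symm.trans e)
  rcases hu' with hu' | hu'
  · subst hu'
    exact rank1 v' (hv'.resolve_left (fun e => hne' e.symm)).1 u v hu.1 hv.1 e.symm
  rcases hv' with hv' | hv'
  · subst hv'
    exact rank1 u' hu'.1 u v hu.1 hv.1 (euv'.symm.trans e.symm)
  obtain ⟨m, hm⟩ := exists_lp hu.2
  obtain ⟨n, hn⟩ := exists_lp hv.2
  obtain ⟨m', hm'⟩ := exists_lp hu'.2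
  obtain ⟨n', hn'⟩ := exists_lp hv'.2
  have hρ := congrArg S.ρ e
  rw [S.ρ_mul u v (S.D1_comm hu.1) (S.D1_comm hv.1), S.ρ_mul u' v' (S.D1_comm hu'.1) (S.D1_comm hv'.1),
    S.ρ_pt hu.1, S.ρ_pt hv.1, S.ρ_pt hu'.1, S.ρ_pt hv'.1, ← hm, ← hn, ← hm', ← hn'] at hρ
  -- the four points agree
  have sep : ∀ a b : K, a ∈ S.D1 → b ∈ S.D1 → a ≠ b → S.pt a = S.pt b → ∀ c d : K, c ∈ S.D1 →
      d ∈ S.D1 → S.pt c ≠ S.pt d → a * b ≠ c * d := by
    intro a b ha hb _ hp c d hc hd hp' h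
    have hρ := congrArg S.ρ h
    rw [S.ρ_mul a b (S.D1_comm ha) (S.D1_comm hb), S.ρ_mul c d (S.D1_comm hc) (S.D1_comm hd),
      S.ρ_pt ha, S.ρ_pt hb, S.ρ_pt hc, S.ρ_pt hd, hp, tp_sq] at hρ
    exact hp' (tp_injective (by rw [eq_inv_of_mul_eq_one_left hρ.symm, tp_inv]))
  -- two pairs over one point each
  by_cases hp : S.pt u = S.pt v
  · have hp' : S.pt u' = S.pt v' := by_contra fun h => sep u v hu.1 hv.1 hne hp u' v' hu'.1 hv'.1 h e
    -- the image in the core determines the point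
    have hsame : S.pt u' = S.pt u := by
      obtain ⟨r, hr, er⟩ := S.fibre_orbit hu.1 hv.1 hp
      obtain ⟨r', hr', er'⟩ := S.fibre_orbit hu'.1 hv'.1 hp'
      obtain ⟨k, hk, ek, hπ⟩ := S.cj_Q (S.D1_comm hu.1) (S.D1_sq hu.1) (S.ρ_pt hu.1) hr
      obtain ⟨k', hk', ek', hπ'⟩ := S.cj_Q (S.D1_comm hu'.1) (S.D1_sq hu'.1) (S.ρ_pt hu'.1) hr'
      rw [er] at ek
      rw [er'] at ek'
      have t1 : u * v = k := euv.trans (by rw [ek, mul_assoc, S.D1_sq hu.1, mul_one])
      have t2 : u' * v' = k' := euv'.trans (by rw [ek', mul_assoc, S.D1_sq hu'.1, mul_one])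
      rw [t1, t2] at e
      have hb : hh (S.π r') (pv (S.pt u')) ≠ 0 := fun h0 =>
        hne' (by rw [← er', (S.cj_Q_fix_iff hu'.1 hr').2 h0])
      rw [e, hπ'] at hπ
      refine pv_point (c := (hh (S.π r') (pv (S.pt u')))⁻¹ * hh (S.π r) (pv (S.pt u))) ?_
      rw [mul_smul, ← hπ, inv_smul_smul₀ hb]
    exact S.fibre_pairs hu.1 hv.1 hu'.1 hv'.1 hp.symm hsame (hp'.symm.trans hsame) hne.symm h1 h4 h3 e
  · have hp' : S.pt u' ≠ S.pt v' := fun h => sep u' v' hu'.1 hv'.1 hne' h u v hu.1 hv.1 hp e.symm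
    have hmn : m ≠ n := fun h => hp (by rw [← hm, ← hn, h])
    have hmn' : m' ≠ n' := fun h => hp' (by rw [← hm', ← hn', h])
    rw [← code5_pair hmn, ← code5_pair hmn'] at hρ
    have symm5 : ∀ a b : Fin 5, code5 a b = code5 b a := fun a b =>
      invP_comm (line_clique ort_base (by decide) (lp_mem a) (lp_mem b))
    -- same points in some order: cancel
    have finish : ∀ a b a' b' : K, a ∈ S.D1 → b ∈ S.D1 → a' ∈ S.D1 → b' ∈ S.D1 → S.pt a' = S.pt a →
        S.pt b' = S.pt b → S.pt a ≠ S.pt b → a' ≠ a → a * b ≠ a' * b' := by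
      intro a b a' b' ha hb ha' hb' qa qb qne dne h
      obtain ⟨r, hr, er⟩ := S.fibre_orbit ha ha' qa.symm
      obtain ⟨s, hs, es⟩ := S.fibre_orbit hb' hb qb
      obtain ⟨k, hk, ek, hπ⟩ := S.cj_Q (S.D1_comm ha) (S.D1_sq ha) (S.ρ_pt ha) hr
      obtain ⟨l, hl, el, hπl⟩ := S.cj_Q (S.D1_comm hb') (S.D1_sq hb') (S.ρ_pt hb') hs
      rw [er] at ek
      rw [es] at el
      have hka : cj k a = a := (S.cj_Q_fix_iff ha hk).2 (by rw [hπ, hh_smul_left, pv_iso, mul_zero])
      rw [ek, cj_fix_iff.1 hka, mul_assoc, el] at h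
      have h' : l = k := mul_right_cancel (mul_left_cancel h)
      rw [h', hπ, qb] at hπl
      have hne0 : hh (S.π r) (pv (S.pt a)) ≠ 0 := fun h0 =>
        dne (by rw [← er, (S.cj_Q_fix_iff ha hr).2 h0])
      refine qne (pv_point (c := (hh (S.π r) (pv (S.pt a)))⁻¹ * hh (S.π s) (pv (S.pt b))) ?_)
      rw [mul_smul, ← hπl, inv_smul_smul₀ hne0]
    have hord : (m = m' ∧ n = n') ∨ (m = n' ∧ n = m') := by
      rcases le_total m n with h | h <;> rcases le_total m' n' with h' | h'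
      · exact Or.inl (code5_inj h h' hρ)
      · exact Or.inr (code5_inj h h' (hρ.trans (symm5 _ _)))
      · exact Or.inr ((code5_inj h h' ((symm5 _ _).trans hρ)).symm)
      · exact Or.inl ((code5_inj h h' ((symm5 _ _).trans (hρ.trans (symm5 _ _)))).symm)
    rcases hord with ⟨g1, g2⟩ | ⟨g1, g2⟩
    · exact finish u v u' v' hu.1 hv.1 hu'.1 hv'.1 (by rw [← hm, ← hm', g1]) (by rw [← hn, ← hn', g2])
        hp h1 e
    · exact finish u v v' u' hu.1 hv.1 hv'.1 hu'.1 (by rw [← hm, ← hn', g1]) (by rw [← hn, ← hm', g2])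
        hp h4 (e.trans euv')

/-- The members conjugate to `z` in the plane group, if the triangles are. -/
theorem card_Omega (htri : ∀ c, S.IsTri c → ∃ g : K, cj g z = c) :
    {e : K | e ∈ S.Ab ∧ ∃ g : K, cj g z = e}.ncard = 301 := by
  classical
  haveI := Fintype.ofFinite K
  set Ω := {e : K | e ∈ S.Ab ∧ ∃ g : K, cj g z = e}
  let P : Finset K := S.P21.toFinset
  have hP : P.card = 21 := by
    rw [← Set.ncard_eq_toFinset_card', P21, Set.ncard_insert_of_notMem
      (fun h => S.D1_ne_z h.1 rfl) (Set.toFinite _), S.card_over, card_line ort_base (by decide)]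
  let T : Finset K := P.offDiag.image fun p => p.1 * p.2
  have hT : T.card * 2 = 420 := by
    have h := Finset.card_eq_sum_card_image (fun p : K × K => p.1 * p.2) P.offDiag
    rw [Finset.offDiag_card, hP] at h
    have hf : ∀ c ∈ T, (P.offDiag.filter fun p : K × K => p.1 * p.2 = c).card = 2 := by
      intro c hc
      obtain ⟨⟨u, v⟩, huv, rfl⟩ := Finset.mem_image.1 hc
      obtain ⟨hu, hv, hne⟩ := Finset.mem_offDiag.1 huv
      have e : (P.offDiag.filter fun p : K × K => p.1 * p.2 = u * v) = {(u, v), (v, u)} := by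
        ext ⟨a, b⟩
        rw [Finset.mem_filter, Finset.mem_offDiag, Finset.mem_insert, Finset.mem_singleton]
        constructor
        · rintro ⟨⟨ha, hb, hab⟩, e⟩
          simp only [P, Set.mem_toFinset] at ha hb hu hv
          rcases S.pair_unique hu hv ha hb hne hab e.symm with ⟨e1, e2⟩ | ⟨e1, e2⟩
          · exact Or.inl (by rw [e1, e2])
          · exact Or.inr (by rw [e1, e2])
        · rintro (e | e) <;> rw [Prod.mk.injEq] at e <;> obtain ⟨rfl, rfl⟩ := e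
          · exact ⟨⟨hu, hv, hne⟩, rfl⟩
          · refine ⟨⟨hv, hu, hne.symm⟩, ?_⟩
            simp only [P, Set.mem_toFinset] at hu hv
            exact (S.P21_comm hv hu).eq
      rw [e, Finset.card_pair fun e => hne (congrArg Prod.fst e)]
    rw [Finset.sum_congr rfl hf, Finset.sum_const, smul_eq_mul] at h
    exact h.symm
  have hsplit : (S.Ab : Set K) = Ω ∪ (insert 1 (T : Set K)) := by
    ext c
    simp only [SetLike.mem_coe, Set.mem_union, Set.mem_insert_iff]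
    constructor
    · intro hc
      rcases S.invol_class (S.elem_z S.Ab_elem hc) (S.Ab_elem.sq c hc) with e | e | e | e | e
      · exact Or.inr (Or.inl e)
      · exact Or.inl ⟨hc, 1, (cj_one' z).trans e.symm⟩
      · exact Or.inl ⟨hc, S.D1_conj e⟩
      · obtain ⟨a, b, ha, hb, hne, rfl⟩ := S.pair_in_Ab e hc
        exact Or.inr (Or.inr (Finset.mem_image.2 ⟨(a, b), Finset.mem_offDiag.2
          ⟨Set.mem_toFinset.2 ha, Set.mem_toFinset.2 hb, hne⟩, rfl⟩))
      · exact Or.inl ⟨hc, htri c e⟩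
    · rintro (h | rfl | h)
      · exact h.1
      · exact one_mem _
      · obtain ⟨⟨a, b⟩, hab, rfl⟩ := Finset.mem_image.1 h
        obtain ⟨ha, hb, -⟩ := Finset.mem_offDiag.1 hab
        exact mul_mem (Subgroup.subset_closure (Set.mem_toFinset.1 ha))
          (Subgroup.subset_closure (Set.mem_toFinset.1 hb))
  have hadjP : ∀ a b : K, a ∈ S.P21 → b ∈ S.P21 → a ≠ b → S.Adj a b := by
    intro a b ha hb hne
    rcases ha with e | ha
    · rw [e] at hne ⊢
      exact S.adj_z_iff.2 (hb.resolve_left hne.symm).1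
    rcases hb with e | hb
    · subst e; exact S.adj_symm (S.adj_z_iff.2 ha.1)
    exact (S.adj_iff ha.1 hb.1).2 ⟨hne, line_clique ort_base (by decide) ha.2 hb.2⟩
  have hdis : Disjoint Ω (insert 1 (T : Set K)) := by
    rw [Set.disjoint_left]
    rintro c ⟨-, g, hg⟩ (rfl | hc)
    · exact S.z_ne (cj_injective g (hg.trans (by simp [cj])))
    · obtain ⟨⟨a, b⟩, hab, rfl⟩ := Finset.mem_image.1 hc
      obtain ⟨ha, hb, hne⟩ := Finset.mem_offDiag.1 hab
      exact S.adj_pair_not (hadjP a b (Set.mem_toFinset.1 ha) (Set.mem_toFinset.1 hb) hne) ⟨g, hg⟩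
  have h1T : (1 : K) ∉ (T : Set K) := fun h => by
    obtain ⟨⟨a, b⟩, hab, e⟩ := Finset.mem_image.1 h
    obtain ⟨ha, hb, hne⟩ := Finset.mem_offDiag.1 hab
    have := eq_inv_of_mul_eq_one_left (show a * b = 1 from e)
    rw [inv_eq_of_mul_eq_one_right (S.P21_sq (Set.mem_toFinset.1 hb))] at this
    exact hne this
  have hcard : (S.Ab : Set K).ncard = 512 := by rw [← Nat.card_coe_set_eq]; exact S.card_Ab
  rw [hsplit, Set.ncard_union_eq hdis (Set.toFinite _) (Set.toFinite _),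
    Set.ncard_insert_of_notMem h1T (Set.toFinite _), Set.ncard_coe_finset] at hcard
  omega

/-- The triangles are not conjugate to `z`. -/
theorem tri_not {c : K} (hc : S.IsTri c) : ¬ ∃ g : K, cj g z = c := by
  classical
  intro hconj
  obtain ⟨x, hx, px⟩ := S.exists_member i₀
  obtain ⟨y, hy, py⟩ := S.exists_member j₀
  have ho : Ort (S.pt x) (S.pt y) := by rw [px, py]; exact ort_base
  have hne : S.pt x ≠ S.pt y := by rw [px, py]; decide
  have htri : ∀ d, S.IsTri d → ∃ g : K, cj g z = d := by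
    intro d hd
    obtain ⟨g1, e1⟩ := S.tri_conj hc hx hy ho hne
    obtain ⟨g2, e2⟩ := S.tri_conj hd hx hy ho hne
    obtain ⟨g, e⟩ := hconj
    exact ⟨g2⁻¹ * g1 * g, by rw [← cj_cj, e, ← cj_cj, e1, ← e2, cj_inv_cj']⟩
  let N : Subgroup K :=
    { carrier := {g | ∀ a, a ∈ S.Ab ↔ cj g a ∈ S.Ab}
      one_mem' := fun a => by rw [cj_one']
      mul_mem' := fun {g h} hg hh a => by rw [← cj_cj]; exact (hh a).trans (hg _)
      inv_mem' := fun {g} hg a => by
        refine ⟨fun ha => (hg _).2 ?_, fun ha => ?_⟩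
        · rwa [cj_cj, mul_inv_cancel, cj_one']
        · have := (hg _).1 ha
          rwa [cj_cj, mul_inv_cancel, cj_one'] at this }
  set Ω := {e : K | e ∈ S.Ab ∧ ∃ g : K, cj g z = e}
  have htrans : ∀ w : ↥Ω, ∃ n : ↥N, cj n.1 z = w.1 := by
    rintro ⟨w, hw, g, hg⟩
    let Y := S.Ab.map (MulAut.conj g⁻¹).toMonoidHom
    have hYm : ∀ a, a ∈ S.Ab → cj g⁻¹ a ∈ Y := fun a ha => ⟨a, ha, rfl⟩
    have hY : Elem2 z Y := by
      refine ⟨?_, ?_, ?_⟩
      · have := hYm w hw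
        rwa [← hg, cj_inv_cj'] at this
      · rintro _ ⟨a, ha, rfl⟩
        rw [← map_mul, S.Ab_elem.sq a ha, map_one]
      · rintro _ ⟨a, ha, rfl⟩ _ ⟨b, hb, rfl⟩
        rw [← map_mul, ← map_mul, S.Ab_comm a ha b hb]
    have hYc : Nat.card ↥Y = 512 := by
      rw [← S.card_Ab]
      exact (Nat.card_congr (S.Ab.equivMapOfInjective _ (MulAut.conj g⁻¹).injective).toEquiv).symm
    obtain ⟨r1, r2, r3⟩ := S.range_iso hY
    have h16 : 16 ≤ Nat.card ↥(S.imY hY).range := by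
      have h := S.card_split hY
      have := S.card_core_le hY
      nlinarith
    obtain ⟨i, j, hij, hnij, hk⟩ := elem16 r1 r2 r3 h16
    obtain ⟨d, hd, hdi, hdj⟩ := S.exists_pair_map hij hnij
    let Y' := Y.map (MulAut.conj d).toMonoidHom
    have hY' : Elem2 z Y' := by
      refine ⟨⟨z, hY.hz, S.cj_z hd⟩, ?_, ?_⟩
      · rintro _ ⟨a, ha, rfl⟩
        rw [← map_mul, hY.sq a ha, map_one]
      · rintro _ ⟨a, ha, rfl⟩ _ ⟨b, hb, rfl⟩
        rw [← map_mul, ← map_mul, hY.comm a ha b hb]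
    have heq : Y' = S.Ab := S.eq_Ab hY' (by
      rw [← Nat.card_congr (Y.equivMapOfInjective _ (MulAut.conj d).injective).toEquiv, hYc]) fun k hk' => by
      have hline : line i₀ j₀ = (line i j).image (act (S.ρ d)) := by
        rw [map_line (S.ρ_iso d hd), hdi, hdj]
      rw [hline, Finset.mem_image] at hk'
      obtain ⟨k0, hk0, rfl⟩ := hk'
      obtain ⟨y0, hy0⟩ := hk k0 hk0
      exact ⟨⟨cj d y0.1, y0.1, y0.2, rfl⟩, S.ρ_cj_tp hd (S.elem_z hY y0.2) hy0⟩
    have hn : (d * g⁻¹)⁻¹ ∈ N := by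
      refine @inv_mem (Subgroup K) K _ _ _ N (d * g⁻¹) fun a => ⟨fun ha => ?_, fun ha => ?_⟩
      · rw [← cj_cj, ← heq]
        exact ⟨_, hYm a ha, rfl⟩
      · rw [← heq] at ha
        obtain ⟨b, ⟨a', ha', rfl⟩, e⟩ := ha
        have e' : cj (d * g⁻¹) a' = cj (d * g⁻¹) a := by rw [← cj_cj]; exact e
        exact cj_injective _ e' ▸ ha'
    refine ⟨⟨_, hn⟩, ?_⟩
    show cj (d * g⁻¹)⁻¹ z = w
    rw [_root_.mul_inv_rev, inv_inv, ← cj_cj, S.cj_z (S.cz_inv hd), hg]
  choose σ hσ using htrans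
  let C := N ⊓ Subgroup.centralizer ({z} : Set K)
  let f : ↥Ω × ↥C → ↥N := fun p => ⟨(σ p.1).1 * p.2.1, mul_mem (σ p.1).2 p.2.2.1⟩
  have hcz : ∀ p : ↥Ω × ↥C, cj (f p).1 z = p.1.1 := fun p => by
    show cj ((σ p.1).1 * p.2.1) z = _
    rw [← cj_cj, S.cj_z (Subgroup.mem_centralizer_singleton_iff.1 p.2.2.2), hσ]
  have hf : Function.Bijective f := by
    constructor
    · intro p q e
      have h1 : p.1 = q.1 := Subtype.ext (by rw [← hcz p, ← hcz q, e])
      refine Prod.ext h1 (Subtype.ext ?_)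
      have e' : (σ p.1).1 * p.2.1 = (σ q.1).1 * q.2.1 := congrArg Subtype.val e
      rw [h1] at e'
      exact mul_left_cancel e'
    · intro n
      let w : ↥Ω := ⟨cj n.1 z, (n.2 z).1 S.Ab_elem.hz, n.1, rfl⟩
      refine ⟨(w, ⟨(σ w).1⁻¹ * n.1, (mul_mem (inv_mem (σ w).2) n.2 : (σ w).1⁻¹ * n.1 ∈ N),
        Subgroup.mem_centralizer_singleton_iff.2 (cj_fix_iff.1 ?_)⟩),
        Subtype.ext (mul_inv_cancel_left _ _)⟩
      rw [← cj_cj, show cj n.1 z = w.1 from rfl, ← hσ w, cj_inv_cj']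
  have h43 : 43 ∣ Nat.card ↥N := by
    rw [← Nat.card_congr (Equiv.ofBijective f hf), Nat.card_prod, Nat.card_coe_set_eq,
      S.card_Omega htri]
    exact (show 43 ∣ 301 by norm_num).mul_right _
  haveI : Fact (Nat.Prime 43) := ⟨by norm_num⟩
  obtain ⟨g, hg⟩ := exists_prime_orderOf_dvd_card' 43 h43
  let Φ : ↥N →* Equiv.Perm ↥S.Ab :=
    { toFun := fun n => ⟨fun a => ⟨cj n.1 a.1, (n.2 a.1).1 a.2⟩,
        fun a => ⟨cj n.1⁻¹ a.1, ((inv_mem n.2 : n.1⁻¹ ∈ N) a.1).1 a.2⟩,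
        fun a => Subtype.ext (cj_inv_cj' n.1 a.1),
        fun a => Subtype.ext (cj_cj_inv' n.1 a.1)⟩
      map_one' := Equiv.ext fun a => Subtype.ext (cj_one' a.1)
      map_mul' := fun m n => Equiv.ext fun a => Subtype.ext (cj_cj m.1 n.1 a.1).symm }
  haveI := Fintype.ofFinite ↥S.Ab
  have hσ43 : Φ g ^ 43 ^ 1 = 1 := by
    rw [pow_one, ← map_pow, ← hg, pow_orderOf_eq_one, map_one]
  have hmod := Equiv.Perm.card_compl_support_modEq hσ43
  let Fx : Subgroup ↥S.Ab :=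
    { carrier := {a | cj g.1 a.1 = a.1}
      one_mem' := by simp [cj]
      mul_mem' := fun {a b} ha hb => by
        show cj g.1 (a.1 * b.1) = a.1 * b.1
        rw [cj_mul', ha, hb]
      inv_mem' := fun {a} ha => by
        show cj g.1 a.1⁻¹ = a.1⁻¹
        rw [inv_eq_of_mul_eq_one_right (S.Ab_elem.sq _ a.2), ha] }
  have hFx : (Φ g).supportᶜ.card = Nat.card ↥Fx := by
    rw [Nat.card_eq_fintype_card, Fintype.card_of_subtype]
    intro a
    rw [Finset.mem_compl, Equiv.Perm.notMem_support]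
    exact Subtype.ext_iff
  rw [hFx, ← Nat.card_eq_fintype_card, S.card_Ab] at hmod
  have hdvd : Nat.card ↥Fx ∣ 2 ^ 9 := by
    have h := Subgroup.card_subgroup_dvd_card Fx
    rwa [S.card_Ab] at h
  obtain ⟨k, hk, hke⟩ := (Nat.dvd_prime_pow Nat.prime_two).1 hdvd
  rw [hke] at hmod
  have h9 : k = 9 := by
    revert hmod
    interval_cases k <;> decide
  have htop : Fx = ⊤ := Subgroup.eq_top_of_card_eq Fx (by rw [hke, h9, S.card_Ab]; norm_num)
  have hgz : g.1 * z = z * g.1 :=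
    cj_fix_iff.1 (show (⟨z, S.Ab_elem.hz⟩ : ↥S.Ab) ∈ Fx from htop ▸ Subgroup.mem_top _)
  have hd := Subgroup.orderOf_dvd_natCard _ (Subgroup.mem_centralizer_singleton_iff.2 hgz)
  rw [Subgroup.orderOf_coe, hg, S.card_C] at hd
  norm_num at hd

/-- The conjugates of `z` in its centraliser. -/
theorem conj_in_cent {c : K} (hc : c * z = z * c) (hconj : ∃ g : K, cj g z = c) :
    c = z ∨ c ∈ S.D1 := by
  obtain ⟨g, hg⟩ := hconj
  have h2 : c * c = 1 := hg ▸ cj_self_sq S.z_sq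
  rcases S.invol_class hc h2 with e | e | e | e | e
  · exfalso
    exact S.z_ne (cj_injective g (hg.trans (e.trans (by simp [cj]))))
  · exact Or.inl e
  · exact Or.inr e
  · obtain ⟨a, b, -, -, hadj, rfl⟩ := e
    exact absurd ⟨g, hg⟩ (S.adj_pair_not hadj)
  · exact absurd ⟨g, hg⟩ (S.tri_not e)

end Seed

end Cfsg.Agent.H49.USix
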