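import Cfsg.Agent.H49.USix.Elem
import Cfsg.Agent.H49.USix.InvolClass

/-!
The sixteen isometries fixing the base line pointwise.
-/

set_option autoImplicit false
set_option linter.unusedSectionVars false
set_option maxRecDepth 20000

namespace Cfsg.Agent.H49.USix

open Cfsg Cfsg.Agent.Compute Matrix
open Cfsg.Agent.H41.SUSix (K4 ap ω₄ anyN anyN_iff)

/-- The points of the base line. -/
def lp (m : Fin 5) : Fin 45 := ![1, 15, 17, 21, 22] m

theorem lp_inj : Function.Injective lp := by decide +kernel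

theorem lp_ok : allN 45 (fun k => !inL k || anyN 5 (fun m => Nat.beq k (lptC m))) = true := by
  decide +kernel

theorem lptC_eq : ∀ m : Fin 5, lptC m = (lp m : ℕ) := by decide +kernel

theorem lp_mem (m : Fin 5) : lp m ∈ line i₀ j₀ := by
  rw [← inL_iff]
  revert m
  decide +kernel

theorem exists_lp {k : Fin 45} (hk : k ∈ line i₀ j₀) : ∃ m, lp m = k := by
  have h := (allN_iff _ _).1 lp_ok k k.2
  rw [inL_iff.2 hk] at h
  simp only [Bool.not_true, Bool.false_or, anyN_iff, Nat.beq_eq] at h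
  obtain ⟨m, hm, e⟩ := h
  exact ⟨⟨m, hm⟩, Fin.ext (by rw [← lptC_eq ⟨m, hm⟩, e])⟩

/-- The involution of an unordered pair of points of the base line. -/
noncomputable def code5 (m n : Fin 5) : Equiv.Perm W4 := invP (lp m) (lp n)

theorem code5_distinct_ok : ∀ m n m' n' : Fin 5, m ≤ n → m' ≤ n' →
    (m = m' ∧ n = n') ∨ anyN 45 (fun k =>
      !Nat.beq (appC (lp m) (lp n) k) (appC (lp m') (lp n') k)) = true := by
  decide +kernel

theorem code5_moves : ∀ m n : Fin 5, m ≤ n →
    anyN 45 (fun k => !Nat.beq (appC (lp m) (lp n) k) k) = true := by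
  decide +kernel

theorem code5_inj {m n m' n' : Fin 5} (h : m ≤ n) (h' : m' ≤ n') (e : code5 m n = code5 m' n') :
    m = m' ∧ n = n' := by
  refine (code5_distinct_ok m n m' n' h h').resolve_right fun hk => ?_
  rw [anyN_iff] at hk
  obtain ⟨k, hk, hne⟩ := hk
  rw [show appC (lp m) (lp n) k = appC (lp m') (lp n') k by
    rw [show k = ((⟨k, hk⟩ : Fin 45) : ℕ) from rfl, ← act_invP, ← act_invP]
    exact congrArg (fun g : Equiv.Perm W4 => ((act g ⟨k, hk⟩ : Fin 45) : ℕ)) e, Nat.beq_refl] at hne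
  simp at hne

theorem code5_ne_one {m n : Fin 5} (h : m ≤ n) : code5 m n ≠ 1 := fun e => by
  have hk := code5_moves m n h
  rw [anyN_iff] at hk
  obtain ⟨k, hk, hne⟩ := hk
  have h1 := congrArg (fun g : Equiv.Perm W4 => ((act g ⟨k, hk⟩ : Fin 45) : ℕ)) e
  simp only [code5, act_invP, act_one] at h1
  rw [h1, Nat.beq_refl] at hne
  simp at hne

theorem code5_diag (m : Fin 5) : code5 m m = tp (lp m) := if_pos rfl

theorem code5_pair {m n : Fin 5} (h : m ≠ n) : code5 m n = tp (lp m) * tp (lp n) :=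
  if_neg fun e => h (lp_inj e)

/-- An involution commuting with the transvections of the base line is one of theirs. -/
theorem mem_code5 {e : Equiv.Perm W4} (he : Iso e) (h2 : e * e = 1) (h1 : e ≠ 1)
    (hc : ∀ k ∈ line i₀ j₀, Commute e (tp k)) : ∃ m n : Fin 5, m ≤ n ∧ e = code5 m n := by
  obtain ⟨a, b, hab, rfl⟩ := exists_invP he h2 h1
  have hfix : ∀ k ∈ line i₀ j₀, appC a b k = (k : ℕ) := fun k hk => by
    rw [← act_invP]
    refine congrArg Fin.val (tp_injective ?_)
    rw [← conj_tp (invP_iso a b), (hc k hk).eq, mul_inv_cancel_right]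
  have hf : fixC a b = true := by
    simp only [fixC, allN_iff, Bool.or_eq_true, Bool.not_eq_true', Nat.beq_eq]
    intro k hk
    cases hkk : inL k
    · exact Or.inl rfl
    · exact Or.inr (hfix ⟨k, hk⟩ ((inL_iff (k := ⟨k, hk⟩)).1 hkk))
  have hs : stabC a b = true := by
    simp only [stabC, Bool.and_eq_true, allN_iff, Bool.or_eq_true, Bool.not_eq_true']
    refine ⟨hab, fun k hk => ?_⟩
    cases hkk : inL k
    · exact Or.inl rfl
    · exact Or.inr (by rw [hfix ⟨k, hk⟩ ((inL_iff (k := ⟨k, hk⟩)).1 hkk)]; exact hkk)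
  have h := (allN_iff _ _).1 ((allN_iff _ _).1 fix_ok a a.2) b b.2
  rw [hs, hf] at h
  simp only [Bool.not_true, Bool.false_or, cond_true, Bool.and_eq_true] at h
  obtain ⟨m, hm⟩ := exists_lp (inL_iff.1 h.1)
  obtain ⟨n, hn⟩ := exists_lp (inL_iff.1 h.2)
  rcases le_total m n with hle | hle
  · exact ⟨m, n, hle, by rw [code5, hm, hn]⟩
  · exact ⟨n, m, hle, by rw [code5, hm, hn, invP_comm hab]⟩

/-- The unordered pairs. -/
abbrev Pair5 : Type := {p : Fin 5 × Fin 5 // p.1 ≤ p.2}

theorem card_Pair5 : Fintype.card Pair5 = 15 := by decide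

/-- A group of involutive isometries commuting with the transvections of the base line has at most
sixteen elements. -/
theorem card_le_sixteen {E : Subgroup (Equiv.Perm W4)} (hiso : ∀ e ∈ E, Iso e)
    (h2 : ∀ e ∈ E, e * e = 1) (hc : ∀ e ∈ E, ∀ k ∈ line i₀ j₀, Commute e (tp k)) :
    Nat.card E ≤ 16 := by
  classical
  have hrep : ∀ e : ↥E, e.1 ≠ 1 → ∃ p : Pair5, e.1 = code5 p.1.1 p.1.2 := fun e h => by
    obtain ⟨m, n, hmn, he⟩ := mem_code5 (hiso _ e.2) (h2 _ e.2) h (hc _ e.2)
    exact ⟨⟨(m, n), hmn⟩, he⟩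
  let g : ↥E → Option Pair5 := fun e => if h : e.1 = 1 then none else some (hrep e h).choose
  have hg : Function.Injective g := by
    intro a b hab
    simp only [g] at hab
    split_ifs at hab with ha hb hb
    · exact Subtype.ext (ha.trans hb.symm)
    · refine Subtype.ext ?_
      rw [(hrep a ha).choose_spec, (hrep b hb).choose_spec, Option.some.inj hab]
  refine (Nat.card_le_card_of_injective g hg).trans ?_
  rw [Nat.card_eq_fintype_card, Fintype.card_option, card_Pair5]

end Cfsg.Agent.H49.USix
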