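import Cfsg.Agent.H49.USix.Component
import Cfsg.Agent.H80.TTPolar.Unit
import Cfsg.Agent.H95.USixTwo
import Cfsg.Agent.Unitary.Generation
import Cfsg.Agent.H27.RankSixMinus

/-!
The stabiliser of the component is a group of 3-transpositions with lines of five points, hence
PSU6(2).
-/

set_option autoImplicit false
set_option linter.unusedSectionVars false
set_option linter.style.haveILetI false
set_option maxRecDepth 20000

namespace Cfsg.Agent.H49.USix

open Cfsg Matrix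
open Cfsg.Agent.H41.SUSix (K4 ap ω₄)
open Cfsg.Agent.H92.ExtraForm (zp zp_inj zp_add)
open H76.LocallyS3 (cj cj_cj cj_injective commute_cj_iff nb)

theorem iso_sum_ok : ∀ v : Fin 256, ∃ u : Fin 256, wt4 (d4 u) = 0 ∧ wt4 (d4 u + d4 v) = 0 := by
  decide +kernel

/-- Every vector is a sum of two isotropic ones. -/
theorem iso_sum (w : W4) : ∃ u, hh u u = 0 ∧ hh (u + w) (u + w) = 0 := by
  obtain ⟨v, rfl⟩ := d4_surj w
  obtain ⟨u, h1, h2⟩ := iso_sum_ok v
  exact ⟨d4 u, (iso_iff _).2 h1, (iso_iff _).2 h2⟩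

/-- The two-part of the order of the unitary group determines the dimension. -/
theorem dim_six {F : Type} [Field F] [Fintype F] (hF : Fintype.card F = 4) {n : ℕ}
    (h : Nat.card (Cfsg.PSU n F 2) = 9196830720) : n = 6 := by
  have hF' : Fintype.card F = 2 ^ 2 := hF
  by_cases hn : 2 ≤ n
  · have h1 := Unitary.card_PSU (n := n) hF' hn
    have h2 := Unitary.card_GU_eq_mul_card_SU (n := n) hF' (by omega)
    rw [Unitary.card_GU hF', ← h1, h] at h2
    have hdvd : 2 ^ (n * (n - 1) / 2) ∣ (2 + 1) * (Nat.gcd n (2 + 1) * 9196830720) := ⟨_, h2.symm⟩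
    have h6 : n ≤ 6 := by
      by_contra hc
      have e : 2 ^ 21 ∣ (2 + 1) * (Nat.gcd n (2 + 1) * 9196830720) :=
        (pow_dvd_pow 2 ((Nat.le_div_iff_mul_le (by norm_num)).2 (le_trans (by norm_num : 21 * 2 ≤ 7 * 6)
          (Nat.mul_le_mul (by omega) (by omega))))).trans hdvd
      have hg : Nat.gcd n (2 + 1) = 1 ∨ Nat.gcd n (2 + 1) = 3 :=
        (Nat.dvd_prime Nat.prime_three).1 (Nat.gcd_dvd_right n 3)
      rcases hg with hg | hg <;> rw [hg] at e <;> norm_num at e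
    interval_cases n <;> first | rfl | (norm_num [Finset.prod_range_succ, Unitary.guFactor] at h2)
  · exfalso
    haveI : Subsingleton (Matrix.SpecialLinearGroup (Fin n) F) := by
      refine ⟨fun a b => ?_⟩
      interval_cases n
      · exact Subtype.ext (Subsingleton.elim _ _)
      · refine Subtype.ext (Matrix.ext fun i j => ?_)
        have ha := a.2
        have hb := b.2
        rw [Matrix.det_fin_one] at ha hb
        rw [Subsingleton.elim i 0, Subsingleton.elim j 0, ha, hb]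
    have : Nat.card (Cfsg.PSU n F 2) = 1 := Nat.card_eq_one_iff_unique.2
      ⟨⟨fun a b => Quotient.inductionOn₂' a b fun x y => by rw [Subsingleton.elim x y]⟩, ⟨1⟩⟩
    omega

namespace Seed

variable {K : Type*} [Group K] [Finite K] {z : K} {Q : Subgroup K} (S : Seed z Q)
include S

theorem card_Q : Nat.card ↥Q = 512 := by
  classical
  let f : ↥Q → W4 := fun q => S.π q
  have hf : ∀ v : W4, Nat.card {q : ↥Q // f q = v} = 2 := by
    intro v
    obtain ⟨q, hq, rfl⟩ := S.π_surj v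
    rw [Nat.card_eq_two_iff' (⟨⟨q, hq⟩, rfl⟩ : {r : ↥Q // f r = S.π q})]
    refine ⟨⟨⟨z * q, mul_mem S.hzQ hq⟩, S.π_zmul hq⟩, fun e => S.z_ne ?_, ?_⟩
    · exact mul_eq_right.1 (congrArg (fun r : {r : ↥Q // f r = S.π q} => ((r.1 : ↥Q) : K)) e)
    · rintro ⟨⟨r, hr⟩, hrq⟩ hne
      rcases S.π_eq hq hr hrq.symm with e | e
      · exact absurd (Subtype.ext (Subtype.ext e)) hne
      · exact Subtype.ext (Subtype.ext e)
  rw [← Nat.card_congr (Equiv.sigmaFiberEquiv f), Nat.card_sigma,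
    Finset.sum_congr rfl fun v _ => hf v, Finset.sum_const, Finset.card_univ, Fintype.card_fun,
    Fintype.card_fin, H41.SUSix.hK]
  norm_num

theorem Q_le_cent : Q ≤ Subgroup.centralizer ({z} : Set K) := fun q hq =>
  Subgroup.mem_centralizer_singleton_iff.2 (S.le q hq)

/-- The action on the space as a homomorphism. -/
noncomputable def rhoHom : ↥(Subgroup.centralizer ({z} : Set K)) →* Equiv.Perm W4 :=
  MonoidHom.mk' (fun c => S.ρ c) fun a b =>
    S.ρ_mul a b (Subgroup.mem_centralizer_singleton_iff.1 a.2)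
      (Subgroup.mem_centralizer_singleton_iff.1 b.2)

theorem rhoHom_range : Nat.card ↥S.rhoHom.range = 25920 := by
  have hk : S.rhoHom.ker = Q.subgroupOf (Subgroup.centralizer ({z} : Set K)) := by
    ext c
    exact S.ρ_ker c (Subgroup.mem_centralizer_singleton_iff.1 c.2)
  have h := Subgroup.card_mul_index S.rhoHom.ker
  rw [Subgroup.index_ker, hk, Nat.card_congr (Subgroup.subgroupOfEquivOfLe S.Q_le_cent).toEquiv,
    S.card_Q, S.card_C] at h
  omega

theorem ρ_mem_closure {c : K} (hc : c * z = z * c) : S.ρ c ∈ Subgroup.closure (Set.range tp) := by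
  classical
  let A : ↥(Cfsg.SU 4 K4 2) →* Equiv.Perm W4 :=
    MonoidHom.mk' (fun g => ⟨ap g, ap g⁻¹, Unitary.ap_inv_ap g, Unitary.ap_ap_inv g⟩)
      (fun g h => Equiv.ext fun u => Unitary.ap_mul g h u)
  have hA : ∀ g w, A g w = ap g w := fun g w => rfl
  have hinj : Function.Injective A := fun g h e => Unitary.ap_ext fun w => by rw [← hA, e, hA]
  have hle : A.range ≤ S.rhoHom.range := by
    rintro _ ⟨g, rfl⟩
    obtain ⟨d, hd, h⟩ := S.ρ_surj g
    exact ⟨⟨d, Subgroup.mem_centralizer_singleton_iff.2 hd⟩, Equiv.ext fun w => (h w).trans (hA g w).symm⟩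
  have hcard : Nat.card ↥A.range = 25920 := by
    rw [← Nat.card_congr (MonoidHom.ofInjective hinj).toEquiv, H27.RankSixMinus.card_su_four
      H41.SUSix.hK]
    norm_num
  have heq := Subgroup.eq_of_le_of_card_ge hle (by rw [S.rhoHom_range, hcard])
  have hmem : S.ρ c ∈ A.range := heq ▸ ⟨⟨c, Subgroup.mem_centralizer_singleton_iff.2 hc⟩, rfl⟩
  obtain ⟨g, hg⟩ := hmem
  rw [← hg]
  have hg' : g ∈ Unitary.tgroup 4 K4 2 := by
    rw [Unitary.tgroup_eq_top H41.SUSix.hK (Or.inl le_rfl)]; exact Subgroup.mem_top g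
  refine (show Unitary.tgroup 4 K4 2 ≤ (Subgroup.closure (Set.range tp)).comap A from
    (Subgroup.closure_le _).2 ?_) hg'
  rintro B ⟨v, k, hv, hB⟩
  show A B ∈ Subgroup.closure (Set.range tp)
  have hBw : ∀ w, A B w = w + (k * hh w v) • v := fun w => by
    rw [hA, Unitary.ap_def, hB, Unitary.unitaryTransvection_mulVec]; rfl
  by_cases hk : v = 0 ∨ k = 0
  · have : A B = 1 := Equiv.ext fun w => by
      rw [hBw, Equiv.Perm.one_apply]
      rcases hk with e | e <;> simp [e]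
    rw [this]; exact one_mem _
  push Not at hk
  obtain ⟨w₀, hw₀⟩ : ∃ w, hh w v ≠ 0 := by
    by_contra hcon
    push Not at hcon
    exact hk.1 (hh_nondeg hcon)
  have hk1 : k = 1 := by
    have h := Unitary.herm_ap B w₀ w₀
    rw [← hA, hBw] at h
    change hh (w₀ + (k * hh w₀ v) • v) (w₀ + (k * hh w₀ v) • v) = hh w₀ w₀ at h
    rw [hh_add_left, hh_add_right, hh_add_right, hh_smul_left, hh_smul_left, hh_smul_right,
      hh_smul_right, show hh v v = 0 from hv, mul_zero, mul_zero, add_zero, hh_swap w₀ v, add_assoc,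
      add_eq_left] at h
    have key : ∀ k b : K4, k ≠ 0 → b ≠ 0 → (k * b) ^ 2 * b + k * b * b ^ 2 = 0 → k = 1 := by
      decide +kernel
    exact key k _ hk.2 hw₀ h
  obtain ⟨i, c', hc', hi⟩ := exists_point hk.1 hv
  have : A B = tp i := Equiv.ext fun w => by
    rw [hBw, hk1, one_mul, eq_trv_iff.2 ⟨c', hc', hi⟩ w]
    rfl
  rw [this]
  exact Subgroup.subset_closure ⟨i, rfl⟩

/-- The group generated by the neighbours of `z`. -/
def Xz : Subgroup K := Subgroup.closure S.D1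

theorem Q_le_Xz : Q ≤ S.Xz := by
  classical
  have hscal : ∀ i (a : K4), ∃ q ∈ S.Xz ⊓ Q, S.π q = a • pv i := by
    intro i a
    obtain ⟨x, hx, rfl⟩ := S.exists_member i
    obtain ⟨w, hw⟩ := exists_value (S.pt x) a
    obtain ⟨q, hq, rfl⟩ := S.π_surj w
    obtain ⟨m, hm, e, hπ⟩ := S.cj_Q (S.D1_comm hx) (S.D1_sq hx) (S.ρ_pt hx) hq
    refine ⟨m, ⟨?_, hm⟩, by rw [hπ, hw]⟩
    have : m = cj q x * x := by rw [e, mul_assoc, S.D1_sq hx, mul_one]
    rw [this]
    exact mul_mem (Subgroup.subset_closure (S.D1_cj hx (S.le q hq))) (Subgroup.subset_closure hx)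
  have hiso : ∀ u : W4, hh u u = 0 → ∃ q ∈ S.Xz ⊓ Q, S.π q = u := by
    intro u hu
    by_cases h0 : u = 0
    · exact ⟨1, one_mem _, S.π_one.trans h0.symm⟩
    obtain ⟨i, c, hc, e⟩ := exists_point h0 hu
    obtain ⟨q, hq, e'⟩ := hscal i c⁻¹
    exact ⟨q, hq, by rw [e', e, inv_smul_smul₀ hc]⟩
  have hall : ∀ w : W4, ∃ q ∈ S.Xz ⊓ Q, S.π q = w := by
    intro w
    obtain ⟨u, h1, h2⟩ := iso_sum w
    obtain ⟨a, ha, ea⟩ := hiso u h1
    obtain ⟨b, hb, eb⟩ := hiso _ h2
    exact ⟨a * b, mul_mem ha hb, by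
      rw [S.π_mul a ha.2 b hb.2, ea, eb, ← add_assoc, vec_add_self, zero_add]⟩
  have hz : z ∈ S.Xz := by
    obtain ⟨v, hv⟩ : ∃ v : W4, wt4 v = 1 := by
      refine ⟨Pi.single 0 1, ?_⟩
      decide +kernel
    obtain ⟨q, hq, e⟩ := hall v
    have h := S.sq q hq.2
    rw [e, hv] at h
    have : q * q = z := by rw [h]; simp [zp]
    have h2 := mul_mem hq.1 hq.1
    rwa [this] at h2
  intro q hq
  obtain ⟨r, hr, e⟩ := hall (S.π q)
  rcases S.π_eq hr.2 hq e with e' | e'
  · rw [e']; exact hr.1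
  · rw [e']; exact mul_mem hz hr.1

theorem cent_le_Xz {c : K} (hc : c * z = z * c) : c ∈ S.Xz := by
  have h := S.ρ_mem_closure hc
  have key : ∀ g ∈ Subgroup.closure (Set.range tp), ∃ d ∈ S.Xz, d * z = z * d ∧ S.ρ d = g := by
    intro g hg
    refine Subgroup.closure_induction ?_ ?_ ?_ ?_ hg
    · rintro _ ⟨i, rfl⟩
      obtain ⟨x, hx, e⟩ := S.exists_member i
      exact ⟨x, Subgroup.subset_closure hx, S.D1_comm hx, by rw [S.ρ_pt hx, e]⟩
    · exact ⟨1, one_mem _, S.cz_one, S.ρ_one⟩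
    · rintro _ _ _ _ ⟨a, a1, a2, rfl⟩ ⟨b, b1, b2, rfl⟩
      exact ⟨a * b, mul_mem a1 b1, S.cz_mul a2 b2, S.ρ_mul a b a2 b2⟩
    · rintro _ _ ⟨a, a1, a2, rfl⟩
      exact ⟨a⁻¹, inv_mem a1, S.cz_inv a2, S.ρ_inv a2⟩
  obtain ⟨d, d1, d2, d3⟩ := key _ h
  have := mul_mem d1 (S.Q_le_Xz (S.mem_Q_of_ρ d2 hc d3))
  rwa [mul_inv_cancel_left] at this

theorem Dc_comm_iff {d : K} (hd : d ∈ S.Dc) : d * z = z * d ↔ d = z ∨ d ∈ S.D1 := by
  refine ⟨fun h => ?_, fun h => h.elim (fun e => by rw [e]) fun h => S.D1_comm h⟩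
  rcases hd with e | e | e
  · exact Or.inl e
  · exact Or.inr e
  · exact absurd (show Commute z d from h.symm) (S.z_far e).2

theorem Dc_subset_Mst : S.Dc ⊆ S.Mst := fun d hd => by
  obtain ⟨g, hg, rfl⟩ := S.Dc_conj hd
  exact mul_mem (mul_mem hg (S.Mst_of_comm rfl)) (inv_mem hg)

theorem Mst_eq : S.Mst = Subgroup.closure S.Dc := by
  classical
  refine le_antisymm (fun g hg => ?_) ((Subgroup.closure_le _).2 S.Dc_subset_Mst)
  set N := Subgroup.closure S.Dc
  have hX : S.Xz ≤ N := Subgroup.closure_mono fun x hx => S.Dc_of_D1 hx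
  have far : ∀ a ∈ S.Dc, ∀ b ∈ S.Dc, (a * b) ^ 3 = 1 → cj (a * b) a = b := by
    intro a ha b hb h
    have sq : ∀ d ∈ S.Dc, d * d = 1 := fun d hd => by
      obtain ⟨f, -, rfl⟩ := S.Dc_conj hd
      exact cj_self_sq S.z_sq
    rw [cj, _root_.mul_inv_rev, inv_eq_of_mul_eq_one_right (sq a ha),
      inv_eq_of_mul_eq_one_right (sq b hb)]
    have h6 : a * b * a * (b * a) * b = 1 := by
      simpa [pow_succ, mul_assoc] using h
    rw [eq_inv_of_mul_eq_one_left h6, inv_eq_of_mul_eq_one_right (sq b hb)]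
  have hn : ∃ n ∈ N, cj n z = cj g z := by
    have hd := S.mem_Mst.1 hg
    rcases hd with e | e | e
    · exact ⟨1, one_mem _, by rw [cj_one', e]⟩
    · obtain ⟨a, haD, ha⟩ : ∃ a, a ∈ S.D2 ∧ ¬ S.Adj (cj g z) a := by
        by_contra hcon
        push Not at hcon
        have h1 := S.card_adj_D2 e
        rw [Set.inter_eq_right.2 (show S.D2 ⊆ {u | S.Adj (cj g z) u} from hcon), S.card_D2] at h1
        omega
      have haDc : a ∈ S.Dc := Or.inr (Or.inr haD)
      have hxDc := S.Dc_of_D1 e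
      have hne : cj g z ≠ a := fun h => haD.2.1 (h ▸ e)
      rcases S.trichotomy haDc hxDc with h | ⟨h, -⟩ | ⟨h, -⟩
      · exact absurd h hne
      · exact absurd (S.adj_symm h) ha
      · refine ⟨a * cj g z * (z * a), mul_mem (mul_mem (Subgroup.subset_closure haDc)
          (Subgroup.subset_closure hxDc)) (mul_mem (Subgroup.subset_closure S.z_mem_Dc)
          (Subgroup.subset_closure haDc)), ?_⟩
        rw [← cj_cj, far z S.z_mem_Dc a haDc (S.z_far haD).1, far a haDc _ hxDc h]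
    · exact ⟨z * cj g z, mul_mem (Subgroup.subset_closure S.z_mem_Dc)
        (Subgroup.subset_closure (Or.inr (Or.inr e))),
        far z S.z_mem_Dc _ (Or.inr (Or.inr e)) (S.z_far e).1⟩
  obtain ⟨n, hn, e⟩ := hn
  have hc : (n⁻¹ * g) * z = z * (n⁻¹ * g) :=
    cj_fix_iff.1 (by rw [← cj_cj, ← e, cj_inv_cj'])
  have := mul_mem hn (hX (S.cent_le_Xz hc))
  rwa [mul_inv_cancel_left] at this

/-- The class inside the stabiliser. -/
def DM : Set ↥S.Mst := S.Mst.subtype ⁻¹' S.Dc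

theorem z_mem_Mst : z ∈ S.Mst := S.Dc_subset_Mst S.z_mem_Dc

/-- `z` in the stabiliser. -/
def zM : ↥S.Mst := ⟨z, S.z_mem_Mst⟩

theorem DM_class : Cfsg.IsThreeTranspositionClass S.DM := by
  refine ⟨⟨fun d hd => ?_, fun d hd e he => ?_⟩, ⟨S.zM, S.z_mem_Dc, ?_⟩, ?_⟩
  · rw [← Subgroup.orderOf_coe]
    obtain ⟨g, -, hg⟩ := S.Dc_conj hd
    change cj g z = (d : K) at hg
    rw [← hg, show cj g z = MulAut.conj g z from rfl, MulEquiv.orderOf_eq]
    exact orderOf_eq_prime (by rw [pow_two, S.z_sq]) S.z_ne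
  · rcases S.trichotomy hd he with h | ⟨-, h⟩ | ⟨h, -⟩
    · refine Or.inl (Subtype.ext ?_)
      obtain ⟨g, -, hg⟩ := S.Dc_conj hd
      change cj g z = (d : K) at hg
      change ((d : K) * (e : K)) ^ 2 = 1
      change (e : K) = d at h
      rw [h, ← hg, cj_self_sq S.z_sq, one_pow]
    · refine Or.inl (Subtype.ext ?_)
      obtain ⟨g, -, hg⟩ := S.Dc_conj hd
      obtain ⟨f, -, hf⟩ := S.Dc_conj he
      change cj g z = (d : K) at hg
      change cj f z = (e : K) at hf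
      change ((d : K) * (e : K)) ^ 2 = 1
      rw [(show Commute (d : K) e from h).mul_pow, pow_two, pow_two, ← hg, ← hf, cj_self_sq S.z_sq,
        cj_self_sq S.z_sq, one_mul]
    · exact Or.inr (Subtype.ext h)
  · ext d
    constructor
    · intro hd
      obtain ⟨g, hg, e⟩ := S.Dc_conj hd
      exact isConj_iff.2 ⟨⟨g, hg⟩, Subtype.ext e⟩
    · intro hd
      obtain ⟨g, e⟩ := isConj_iff.1 hd
      rw [DM, Set.mem_preimage, ← e]
      exact S.mem_Mst.1 g.2
  · apply Subgroup.map_injective S.Mst.subtype_injective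
    rw [MonoidHom.map_closure, DM, Set.image_preimage_eq_of_subset, ← MonoidHom.range_eq_map,
      Subgroup.range_subtype, S.Mst_eq]
    intro d hd
    exact ⟨⟨d, S.Dc_subset_Mst hd⟩, rfl⟩

theorem center_trivial {a : K} (ha : a * z = z * a) (hall : ∀ d ∈ S.Dc, Commute a d) : a = 1 := by
  have hQ : ∀ q ∈ Q, Commute a q := fun q hq => by
    refine Subgroup.closure_induction (p := fun x _ => Commute a x) (fun x hx => hall x (S.Dc_of_D1 hx))
      (Commute.one_right a) (fun _ _ _ _ => Commute.mul_right) (fun _ _ => Commute.inv_right)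
      (S.Q_le_Xz hq)
  have hρ : S.ρ a = 1 := Equiv.ext fun w => by
    obtain ⟨q, hq, rfl⟩ := S.π_surj w
    rw [← S.π_cj ha hq, cj_fix_iff.2 (hQ q hq).eq]
    rfl
  have haQ := (S.ρ_ker a ha).1 hρ
  have hπ : S.π a = 0 := by
    refine hh_nondeg fun w => ?_
    have key : ∀ b : K4, (∀ c : K4, H41.LFi.trK (c * b) = 0) → b = 0 := by decide +kernel
    refine key _ fun c => ?_
    obtain ⟨q, hq, e⟩ := S.π_surj (c • w)
    rw [← hh_smul_left, ← pol4_eq, ← e]
    exact (S.comm_iff hq haQ).1 (hQ q hq).eq.symm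
  rcases (S.π_zero a haQ).1 hπ with e | e
  · exact e
  · exfalso
    obtain ⟨w, hw⟩ : ∃ w, w ∈ S.D2 := (Set.nonempty_of_ncard_ne_zero (by rw [S.card_D2]; norm_num))
    exact (S.z_far hw).2 (e ▸ hall w (Or.inr (Or.inr hw)))

theorem DM_sol (N : Subgroup ↥S.Mst) [N.Normal] (hN : Group.IsSolvable ↥N) : N = ⊥ := by
  classical
  by_contra hne
  obtain ⟨A, hAn, hA0, hAc⟩ : ∃ A : Subgroup ↥S.Mst, A.Normal ∧ A ≠ ⊥ ∧
      ∀ a ∈ A, ∀ b ∈ A, a * b = b * a := by
    obtain ⟨n, hn⟩ := (Group.isSolvable_def ↥N).1 hN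
    have hex : ∃ n, derivedSeries ↥N n = ⊥ := ⟨n, hn⟩
    obtain ⟨m, hm⟩ : ∃ m, Nat.find hex = m + 1 := Nat.exists_eq_succ_of_ne_zero fun h0 => hne (by
      have := Nat.find_spec hex
      rw [h0, derivedSeries_zero] at this
      refine (Subgroup.eq_bot_iff_forall N).2 fun x hx => ?_
      have h1 : (⟨x, hx⟩ : ↥N) ∈ (⊥ : Subgroup ↥N) := this ▸ Subgroup.mem_top _
      exact congrArg (fun y : ↥N => (y : ↥S.Mst)) (Subgroup.mem_bot.1 h1))
    refine ⟨(derivedSeries ↥N m).map N.subtype, inferInstance, fun h => ?_, ?_⟩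
    · have := Nat.find_min hex (show m < Nat.find hex by omega)
      exact this ((Subgroup.map_eq_bot_iff_of_injective _ N.subtype_injective).1 h)
    · rintro _ ⟨a, ha, rfl⟩ _ ⟨b, hb, rfl⟩
      have h1 := Nat.find_spec hex
      rw [hm, derivedSeries_succ] at h1
      have := h1 ▸ Subgroup.commutator_mem_commutator ha hb
      rw [Subgroup.mem_bot, commutatorElement_eq_one_iff_mul_comm] at this
      exact congrArg N.subtype this
  have hmem : ∀ g ∈ S.Mst, ∀ a : ↥S.Mst, a ∈ A → ∃ b ∈ A, (b : K) = cj g a :=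
    fun g hg a ha => ⟨⟨g, hg⟩ * a * ⟨g, hg⟩⁻¹, hAn.conj_mem a ha _, rfl⟩
  -- the members congruent to `z`
  let B : K → Prop := fun d => ∃ a ∈ A, (a : K) = z * d
  have hBc : ∀ c, c * z = z * c → ∀ d, B d → B (cj c d) := by
    rintro c hc d ⟨a, ha, e⟩
    obtain ⟨b, hb, e'⟩ := hmem c (S.Mst_of_comm hc) a ha
    exact ⟨b, hb, by rw [e', e, cj_mul', S.cj_z hc]⟩
  have hBcomm : ∀ d e, B d → B e → z * d * (z * e) = z * e * (z * d) := by
    rintro d e ⟨a, ha, ea⟩ ⟨b, hb, eb⟩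
    rw [← ea, ← eb]
    exact congrArg Subtype.val (hAc a ha b hb)
  by_cases hfix : ∀ a ∈ A, cj (a : K) z = z
  · refine hA0 ((Subgroup.eq_bot_iff_forall A).2 fun a ha => Subtype.ext (S.center_trivial
      (cj_fix_iff.1 (hfix a ha)) fun d hd => ?_))
    obtain ⟨g, hg, rfl⟩ := S.Dc_conj hd
    obtain ⟨b, hb, e⟩ := hmem g⁻¹ (inv_mem hg) a ha
    have := congrArg (cj g) (hfix b hb)
    rw [cj_cj, e] at this
    refine cj_fix_iff.1 ?_
    rw [cj_cj]
    convert this using 2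
    simp [cj, mul_assoc]
  push Not at hfix
  obtain ⟨a, ha, hne'⟩ := hfix
  set d := cj (a : K) z with hd
  have hdDc : d ∈ S.Dc := S.mem_Mst.1 a.2
  have hBd : B d := by
    obtain ⟨b, hb, e⟩ := hmem z S.z_mem_Mst a ha
    refine ⟨b * a⁻¹, mul_mem hb (inv_mem ha), ?_⟩
    rw [Subgroup.coe_mul, e, InvMemClass.coe_inv, hd, cj, cj, S.z_inv]
    group
  rcases hdDc with e | e | e
  · exact hne' e
  · obtain ⟨c, hc, hcd⟩ := e
    have hall : ∀ x ∈ S.D1, B x := by
      rintro x ⟨c', hc', rfl⟩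
      have := hBc (c' * c⁻¹) (S.cz_mul hc' (S.cz_inv hc)) d hBd
      rwa [← hcd, cj_cj, inv_mul_cancel_right] at this
    obtain ⟨j, hj⟩ : ∃ j, ¬ Ort i₀ j := (exists_sep (show j₀ ≠ i₀ by decide)).imp fun r h => h.2
    obtain ⟨y, hy, hyj⟩ := S.exists_member j
    have h := hBcomm _ _ (hall _ S.x₁_mem) (hall y hy)
    refine (S.cube_of_not_ort S.x₁_mem hy (by rw [S.pt_x₁, hyj]; exact hj)).2 ?_
    have t1 : ∀ p q : K, p * z = z * p → z * p * (z * q) = p * q := fun p q hp => by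
      rw [← hp, mul_assoc, ← mul_assoc z z, S.z_sq, one_mul]
    rwa [t1 _ _ S.x₁_comm, t1 _ _ (S.D1_comm hy)] at h
  · obtain ⟨x, hx, hxd⟩ := e.2.2
    obtain ⟨h, ehx, hz', hd'⟩ := S.transport hx hxd
    have hno := S.far_local (x := x) e hz' hd'
    obtain ⟨w, w1, w2⟩ := exists_values (fun h' => hno (h' ▸ ort_refl _) :
      S.pt (cj h z) ≠ S.pt (cj h d)) 0 1
    obtain ⟨q, hq, rfl⟩ := S.π_surj w
    have hqz : cj q (cj h z) = cj h z := (S.cj_Q_fix_iff hz' hq).2 w1
    obtain ⟨m, hm, em, hπ⟩ := S.cj_Q (S.D1_comm hd') (S.D1_sq hd') (S.ρ_pt hd') hq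
    rw [w2, one_smul] at hπ
    set c := cj h⁻¹ q with hcdef
    have hcz : cj c z = z := by
      have := congrArg (cj h⁻¹) hqz
      rw [cj_inv_cj', cj_cj, cj_cj] at this
      rw [hcdef]
      convert this using 2
      simp [cj, mul_assoc]
    have hcd : cj h (cj c d) = m * cj h d := by
      rw [← em, cj_cj h c d, cj_cj q h d]
      congr 1
      simp [hcdef, cj, mul_assoc]
    have hh' := congrArg (cj h) (hBcomm _ _ hBd (hBc c (cj_fix_iff.1 hcz) d hBd))
    simp only [cj_mul', hcd] at hh'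
    set u := cj h z
    set v := cj h d
    have hv : v * v = 1 := S.D1_sq hd'
    have hu : u * u = 1 := S.D1_sq hz'
    have h1 : v * u * (m * v) = m * v * (u * v) := by
      have := congrArg (u * ·) hh'
      simp only [← mul_assoc, hu, one_mul] at this
      simpa only [mul_assoc] using this
    have hadj : S.Adj v (m * v) := by
      rw [← em]
      exact S.adj_of_fibre hd' (S.D1_cj hd' (S.le q hq)) (S.pt_cj_Q hd' hq).symm fun e' => by
        have := (S.cj_Q_fix_iff hd' hq).1 e'.symm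
        rw [w2] at this
        exact one_ne_zero this
    have h2 : u * m = m * u := by
      have hmv : v * m = m * v := by
        have h := (S.adj_commute hadj).eq
        have h' := congrArg (· * v) h
        simp only [mul_assoc, hv, mul_one] at h'
        exact h'
      have := congrArg (fun t => v * t * v) h1
      simp only [← mul_assoc, hv, one_mul] at this
      rw [hmv] at this
      simp only [mul_assoc, hv, mul_one] at this
      exact this
    have h3 := S.hh_zero_of_commute (S.D1_comm hz') (S.D1_sq hz') (S.ρ_pt hz') hm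
      (cj_fix_iff.2 h2.symm)
    rw [hπ] at h3
    exact hno (ort_symm (ort_iff.2 h3))

theorem DM_cls : H80.TTQuad.Cls S.DM := ⟨S.DM_class, fun N hn hs => by haveI := hn; exact S.DM_sol N hs⟩

theorem nb_DM : nb S.DM S.zM = S.Mst.subtype ⁻¹' S.D1 := by
  ext d
  simp only [nb, DM, Set.mem_preimage, Set.mem_setOf_eq, Subgroup.coe_subtype]
  constructor
  · rintro ⟨hd, hne, hc⟩
    rcases (S.Dc_comm_iff hd).1 (congrArg Subtype.val hc.eq).symm with e | e
    · exact absurd (Subtype.ext e) hne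
    · exact e
  · intro hd
    exact ⟨S.Dc_of_D1 hd, fun e => S.D1_ne_z hd (congrArg Subtype.val e),
      Subtype.ext (S.D1_comm hd).symm⟩

theorem DM_polar : H80.TTPolar.Polar S.DM := by
  classical
  refine H80.TTPolar.polar_of_twins S.DM_cls (x := S.zM) S.z_mem_Dc fun hle => ?_
  set X := Subgroup.closure (nb S.DM S.zM)
  have hXmap : X.map S.Mst.subtype = S.Xz := by
    rw [MonoidHom.map_closure, S.nb_DM, Set.image_preimage_eq_of_subset, Xz]
    intro d hd
    exact ⟨⟨d, S.Dc_subset_Mst (S.Dc_of_D1 hd)⟩, rfl⟩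
  let ι : ↥X →* K := S.Mst.subtype.comp X.subtype
  have hι : Function.Injective ι := fun a b e => Subtype.ext (Subtype.ext e)
  have hcz : ∀ x : ↥X, ι x * z = z * ι x := fun x => by
    have hmem : ι x ∈ S.Xz := hXmap ▸ Subgroup.mem_map_of_mem _ x.2
    exact Subgroup.closure_induction (p := fun y _ => y * z = z * y) (fun y hy => S.D1_comm hy)
      S.cz_one (fun _ _ _ _ => S.cz_mul) (fun _ _ => S.cz_inv) hmem
  let P : Subgroup ↥X := Q.comap ι
  have hPn : P.Normal := ⟨fun p hp g => by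
    show ι (g * p * g⁻¹) ∈ Q
    rw [map_mul, map_mul, map_inv]
    exact S.norm _ (hcz g) _ hp⟩
  have hP2 : IsPGroup 2 ↥P := fun p => ⟨2, Subtype.ext (hι (by
    rw [SubmonoidClass.coe_pow, map_pow, show 2 ^ 2 = 4 from rfl, S.pow_four p.2]
    exact (map_one ι).symm))⟩
  have hPle : P ≤ Cfsg.pCore 2 ↥X := le_sSup ⟨hPn, hP2⟩
  obtain ⟨v, hv⟩ : ∃ v : W4, v ≠ 0 := ⟨pv i₀, pv_ne i₀⟩
  obtain ⟨w, hw⟩ : ∃ w, pol4 v w = 1 := by
    have key : ∀ x : K4, x ≠ 0 → ∃ c : K4, H41.LFi.trK (c ^ 2 * x) = 1 := by decide +kernel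
    obtain ⟨w, hw⟩ : ∃ w, hh v w ≠ 0 := by
      by_contra hcon
      push Not at hcon
      exact hv (hh_nondeg fun w => hh_zero_symm.1 (hcon w))
    obtain ⟨c, hc⟩ := key _ hw
    exact ⟨c • w, by rw [pol4_eq, hh_smul_right, hc]⟩
  obtain ⟨a, ha, ea⟩ := S.π_surj v
  obtain ⟨b, hb, eb⟩ := S.π_surj w
  obtain ⟨a', ha', ea'⟩ : ∃ a' ∈ X, (a' : K) = a :=
    Subgroup.mem_map.1 (hXmap.symm ▸ S.Q_le_Xz ha)
  obtain ⟨b', hb', eb'⟩ : ∃ b' ∈ X, (b' : K) = b :=
    Subgroup.mem_map.1 (hXmap.symm ▸ S.Q_le_Xz hb)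
  have hac := Subgroup.mem_center_iff.1 (hle (hPle (show (⟨a', ha'⟩ : ↥X) ∈ P by
    show ((a' : ↥S.Mst) : K) ∈ Q
    rw [ea']; exact ha))) ⟨b', hb'⟩
  have := congrArg ι hac
  change ((b' : ↥S.Mst) : K) * a' = a' * b' at this
  rw [ea', eb', eq_comm, S.comm_iff ha hb, ea, eb, hw] at this
  exact one_ne_zero this

theorem DM_five : H80.TTPolar.Five S.DM := by
  classical
  have P := S.DM_polar
  let xM : ↥S.Mst := ⟨S.x₁, S.Dc_subset_Mst (S.Dc_of_D1 S.x₁_mem)⟩
  have hx : xM ∈ nb S.DM S.zM := by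
    rw [S.nb_DM]
    exact S.x₁_mem
  have hline : H80.TTPolar.Ln S.DM S.zM xM =
      S.Mst.subtype ⁻¹' insert z (S.fib i₀) := by
    ext r
    simp only [H80.TTPolar.Ln, H80.TTQuad.OnLine, H80.TTQuad.B, Set.mem_setOf_eq, Set.mem_preimage,
      Set.mem_insert_iff, Subgroup.coe_subtype]
    constructor
    · rintro ⟨hr, hall⟩
      have hrz : Commute r S.zM :=
        hall S.zM ⟨S.z_mem_Dc, Commute.refl _, hx.2.2⟩
      rcases (S.Dc_comm_iff hr).1 (congrArg Subtype.val hrz.eq) with e | e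
      · exact Or.inl e
      · refine Or.inr ⟨e, by_contra fun hne => ?_⟩
        obtain ⟨s, s1, s2⟩ := exists_sep (Ne.symm hne)
        obtain ⟨y, hy, hys⟩ := S.exists_member s
        have hyM : y ∈ S.Mst := S.Dc_subset_Mst (S.Dc_of_D1 hy)
        have hc := hall ⟨y, hyM⟩ ⟨S.Dc_of_D1 hy, Subtype.ext (S.D1_comm hy), Subtype.ext
          ((S.commute_iff hy S.x₁_mem).2 (by rw [hys, S.pt_x₁]; exact ort_symm s1)).eq⟩
        exact s2 (hys ▸ (S.commute_iff e hy).1 (congrArg Subtype.val hc.eq))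
    · rintro (e | ⟨hr, hp⟩)
      · refine ⟨by rw [show r = S.zM from Subtype.ext e]; exact S.z_mem_Dc, fun d hd => ?_⟩
        rw [show r = S.zM from Subtype.ext e]
        exact hd.2.1.symm
      · refine ⟨S.Dc_of_D1 hr, fun d hd => Subtype.ext ?_⟩
        rcases (S.Dc_comm_iff hd.1).1 (congrArg Subtype.val hd.2.1.eq) with e | e
        · show (r : K) * d = d * r
          have e' : (d : K) = z := e
          rw [e']
          exact S.D1_comm hr
        · refine ((S.commute_iff hr e).2 ?_).eq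
          rw [hp]
          have := (S.commute_iff e S.x₁_mem).1 (congrArg Subtype.val hd.2.2.eq)
          rw [S.pt_x₁] at this
          exact ort_symm this
  have h5 : (H80.TTPolar.Ln S.DM S.zM xM).ncard = 5 := by
    rw [hline, Set.ncard_preimage_of_injective_subset_range S.Mst.subtype_injective,
      Set.ncard_insert_of_notMem (fun h => S.D1_ne_z h.1 rfl) (Set.toFinite _), S.card_fib]
    intro d hd
    rcases hd with rfl | hd
    · exact ⟨⟨d, S.z_mem_Mst⟩, rfl⟩
    · exact ⟨⟨d, S.Dc_subset_Mst (S.Dc_of_D1 hd.1)⟩, rfl⟩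
  exact ⟨P, fun p hp q hq => (P.ncard_Ln hp hq (p' := S.zM) S.z_mem_Dc hx).trans h5⟩

/-- The stabiliser of the component is PSU6(2). -/
theorem Mst_psu : ∃ (F : Type) (_ : Field F) (_ : Fintype F),
    Fintype.card F = 4 ∧ Nonempty (↥S.Mst ≃* Cfsg.PSU 6 F 2) := by
  obtain ⟨F, i1, i2, n, hF, ⟨e⟩⟩ := H80.TTPolar.Five.exists_psu_iso S.DM_five
  have hn : n = 6 := dim_six hF (by rw [← Nat.card_congr e.toEquiv, S.card_Mst])
  subst hn
  exact ⟨F, i1, i2, hF, ⟨e⟩⟩

end Seed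

end Cfsg.Agent.H49.USix
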