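import Cfsg.Agent.H49.USix.Plane
import Cfsg.Agent.H49.USix.Recognise

/-!
The cosets of the stabiliser of the component as points: every conjugate of `z` fixes exactly one
of them, and the conjugates fixing a given one form a translate of the component.
-/

set_option autoImplicit false
set_option linter.unusedSectionVars false

namespace Cfsg.Agent.H49.USix

open Cfsg
open H76.LocallyS3 (cj cj_cj cj_injective commute_cj_iff)

/-- An involutive permutation of a set of odd size has a fixed element. -/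
theorem exists_fixed_of_odd {α : Type*} [Finite α] {f : α → α} (hf : Function.Involutive f)
    {s : Set α} (hs : Odd s.ncard) (hm : ∀ a ∈ s, f a ∈ s) : ∃ a ∈ s, f a = a := by
  classical
  haveI := Fintype.ofFinite ↥s
  let σ : Equiv.Perm ↥s := Function.Involutive.toPerm (fun a => ⟨f a.1, hm a.1 a.2⟩)
    fun a => Subtype.ext (hf a.1)
  haveI : Fact (Nat.Prime 2) := ⟨Nat.prime_two⟩
  obtain ⟨a, ha⟩ := Equiv.Perm.exists_fixed_point_of_prime (p := 2) (n := 1) (σ := σ)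
    (by
      rw [← Nat.card_eq_fintype_card, Nat.card_coe_set_eq, ← even_iff_two_dvd, Nat.not_even_iff_odd]
      exact hs)
    (Equiv.ext fun a => Subtype.ext (by
      rw [pow_one, pow_two]
      exact hf a.1))
  exact ⟨a.1, a.2, congrArg Subtype.val ha⟩

theorem cj_involutive {K : Type*} [Group K] {v : K} (h : v * v = 1) :
    Function.Involutive (cj v) := fun a => by rw [cj_cj, h, cj_one']

theorem cj_smul {K : Type*} [Group K] {α : Type*} [MulAction K α] (g d : K) (a : α) :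
    cj g d • g • a = g • d • a := by
  rw [cj, ← mul_smul, inv_mul_cancel_right, mul_smul]

namespace Seed

variable {K : Type*} [Group K] [Finite K] {z : K} {Q : Subgroup K} (S : Seed z Q)

/-- The conjugates of `z`. -/
def Dz (_T : Seed z Q) : Set K := {w | ∃ g : K, cj g z = w}

/-- The conjugates of `z` fixing a point. -/
def Xp (a : K ⧸ S.Mst) : Set K := {d | d ∈ S.Dz ∧ d • a = a}

include S

theorem Dz_Dc {d : K} (hd : d ∈ S.Dc) : d ∈ S.Dz := (S.Dc_conj hd).imp fun _ h => h.2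

theorem Dz_cj {d : K} (hd : d ∈ S.Dz) (g : K) : cj g d ∈ S.Dz := by
  obtain ⟨k, rfl⟩ := hd
  exact ⟨g * k, (cj_cj g k z).symm⟩

theorem Dz_sq {d : K} (hd : d ∈ S.Dz) : d * d = 1 := by
  obtain ⟨k, rfl⟩ := hd
  exact cj_self_sq S.z_sq

theorem Dz_inv {d : K} (hd : d ∈ S.Dz) : d⁻¹ = d := inv_eq_of_mul_eq_one_right (S.Dz_sq hd)

theorem Dz_ne_one {d : K} (hd : d ∈ S.Dz) : d ≠ 1 := by
  obtain ⟨k, rfl⟩ := hd
  intro h
  exact S.z_ne (cj_injective k (h.trans (by simp [cj])))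

/-- The conjugates of `z` in the stabiliser form the component. -/
theorem Dc_of_mem {d : K} (hd : d ∈ S.Dz) (hM : d ∈ S.Mst) : d ∈ S.Dc := by
  obtain ⟨e, he, hde⟩ := exists_fixed_of_odd (cj_involutive (S.Dz_sq hd)) (s := S.Dc)
    (by rw [S.card_Dc]; decide) fun a ha => S.Dc_cj hM ha
  obtain ⟨g, hg, rfl⟩ := S.Dc_conj he
  have hc : cj g⁻¹ d * z = z * cj g⁻¹ d :=
    (commute_cj_iff (g := g)).1 (by
      rw [cj_cj_inv']
      exact cj_fix_iff.1 hde)
  rw [← cj_cj_inv' g d]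
  rcases S.conj_in_cent hc (S.Dz_cj hd _) with e | e
  · rw [e]; exact S.mem_Mst.1 hg
  · exact S.Dc_cj hg (S.Dc_of_D1 e)

theorem smul_mk_eq {v g : K} : v • (g : K ⧸ S.Mst) = g ↔ cj g⁻¹ v ∈ S.Mst := by
  rw [MulAction.Quotient.smul_mk, eq_comm, QuotientGroup.eq, smul_eq_mul, cj, inv_inv, mul_assoc]

/-- A conjugate of `z` fixes exactly one point. -/
theorem fix_iff {k : K} (a : K ⧸ S.Mst) : cj k z • a = a ↔ a = k := by
  obtain ⟨g, rfl⟩ := QuotientGroup.mk_surjective a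
  rw [S.smul_mk_eq, QuotientGroup.eq, cj_cj]
  constructor
  · exact fun h => S.mem_Mst.2 (S.Dc_of_mem ⟨_, rfl⟩ h)
  · exact fun h => S.Dc_subset_Mst (S.mem_Mst.1 h)

theorem fix_unique {d : K} (hd : d ∈ S.Dz) {a b : K ⧸ S.Mst} (ha : d • a = a) (hb : d • b = b) :
    a = b := by
  obtain ⟨k, rfl⟩ := hd
  rw [S.fix_iff] at ha hb
  rw [ha, hb]

theorem exists_fix {d : K} (hd : d ∈ S.Dz) : ∃ a : K ⧸ S.Mst, d • a = a := by
  obtain ⟨k, rfl⟩ := hd
  exact ⟨k, (S.fix_iff _).2 rfl⟩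

theorem fix_of_commute {d v : K} (hd : d ∈ S.Dz) (hc : Commute v d) {a : K ⧸ S.Mst}
    (ha : d • a = a) : v • a = a := by
  refine S.fix_unique hd ?_ ha
  rw [← mul_smul, ← hc.eq, mul_smul, ha]

theorem Dc_of_comm {a y : K} (ha : a ∈ S.Dz) (hy : y ∈ S.Dc) (hc : Commute a y) : a ∈ S.Dc := by
  refine S.Dc_of_mem ha ?_
  have h1 : y • ((1 : K) : K ⧸ S.Mst) = ((1 : K) : K ⧸ S.Mst) := by
    rw [S.smul_mk_eq, inv_one, cj_one']
    exact S.Dc_subset_Mst hy
  have h2 := S.fix_of_commute (S.Dz_Dc hy) hc h1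
  rwa [S.smul_mk_eq, inv_one, cj_one'] at h2

theorem Xp_mk (g : K) : S.Xp (g : K ⧸ S.Mst) = cj g '' S.Dc := by
  ext d
  constructor
  · rintro ⟨hd, he⟩
    rw [S.smul_mk_eq] at he
    exact ⟨cj g⁻¹ d, S.Dc_of_mem (S.Dz_cj hd _) he, cj_cj_inv' g d⟩
  · rintro ⟨e, he, rfl⟩
    refine ⟨S.Dz_cj (S.Dz_Dc he) g, ?_⟩
    rw [S.smul_mk_eq, cj_inv_cj']
    exact S.Dc_subset_Mst he

theorem card_Xp (a : K ⧸ S.Mst) : (S.Xp a).ncard = 693 := by
  obtain ⟨g, rfl⟩ := QuotientGroup.mk_surjective a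
  rw [S.Xp_mk, Set.ncard_image_of_injective _ (cj_injective g), S.card_Dc]

theorem Xp_cj {a : K ⧸ S.Mst} {v d : K} (hv : v • a = a) (hd : d ∈ S.Xp a) : cj v d ∈ S.Xp a := by
  refine ⟨S.Dz_cj hd.1 v, ?_⟩
  calc cj v d • a = cj v d • v • a := by rw [hv]
    _ = a := by rw [cj_smul, hd.2, hv]

theorem Xp_adj {a : K ⧸ S.Mst} {d e : K} (hd : d ∈ S.Xp a) (he : e ∈ S.Xp a) (hc : Commute d e)
    (hne : d ≠ e) : S.Adj d e := by
  obtain ⟨g, rfl⟩ := QuotientGroup.mk_surjective a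
  rw [S.Xp_mk] at hd he
  obtain ⟨d', hd', rfl⟩ := hd
  obtain ⟨e', he', rfl⟩ := he
  exact S.adj_cj g ((S.adj_iff_commute hd' he' fun h => hne (by rw [h])).2 (commute_cj_iff.1 hc))

/-- An involution fixing a point commutes with one of the conjugates fixing it. -/
theorem exists_commute_Xp {a : K ⧸ S.Mst} {v : K} (h2 : v * v = 1) (hv : v • a = a) :
    ∃ d ∈ S.Xp a, Commute v d := by
  obtain ⟨d, hd, e⟩ := exists_fixed_of_odd (cj_involutive h2) (s := S.Xp a)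
    (by rw [S.card_Xp]; decide) fun e he => S.Xp_cj hv he
  exact ⟨d, hd, cj_fix_iff.1 e⟩

end Seed

end Cfsg.Agent.H49.USix
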